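import Cfsg.Agent.Lib.H17.GChain
import Cfsg.Agent.Lib.H17.Fi24S.Prim
import Cfsg.Agent.Lib.H6.PermFast

set_option autoImplicit false
set_option maxRecDepth 1000000

/-! # The presented group Fi24 acting on 306936 points: the letters and their tables -/

namespace Cfsg.Agent.Lib.H17.Fi24Out

open Cfsg.Agent.Lib.H17.CosetCert Cfsg.Agent.Lib.H17.Sgs Cfsg.Agent.Lib.H17.Sift
  Cfsg.Agent.Lib.H17.PermActs Cfsg.Agent.Lib.H6.PermTab Cfsg.Agent.Lib.H6.PermFast
  Cfsg.Agent.Lib.H17.GSift Cfsg.Agent.Lib.H17.Fi24S Cfsg.Agent.Lib.H6.FiIndex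
  Cfsg.Agent.Lib.H17.OutChunks Cfsg.Agent.Lib.H17.OutTools Cfsg.Agent.Lib.H17.ConjTest

/-- the tables of the letters -/
noncomputable abbrev TT : ℕ → ℕ → ℕ := Cfsg.Agent.Lib.H6.FiPerm.T

theorem lettersOK : LettersOK TT phi E 12 := fun x hx p => phi_E_apply x hx p

theorem finG : Finite G := finite_G

/-- a table of small numbers: leaves of 512 entries of 8 bits -/
noncomputable def lk8 (t : BT) (i : ℕ) : ℕ := lkR 9 8 511 255 t i

/-- a table of points: leaves of 512 entries of 19 bits -/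
noncomputable def lk19 (t : BT) (i : ℕ) : ℕ := lkR 9 19 511 524287 t i

/-- a check of all numbers below `n`, from checks of consecutive ranges -/
theorem allLt_range (f : ℕ → Bool) (lo cnt : ℕ) (h : allLt (fun i => f (Nat.add lo i)) cnt = true) :
    ∀ p, lo ≤ p → p < lo + cnt → f p = true := by
  intro p h1 h2
  have := allLt_sound _ cnt h (p - lo) (by omega)
  have e : Nat.add lo (p - lo) = p := by change lo + (p - lo) = p; omega
  rwa [e] at this

end Cfsg.Agent.Lib.H17.Fi24Out
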