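import Cfsg.Agent.Lib.H17.Fi24Out.SwDDef

set_option autoImplicit false
set_option maxRecDepth 1000000

/-! # The sweep for the centraliser of `dE`: part 1 (generated) -/

namespace Cfsg.Agent.Lib.H17.Fi24Out

open Cfsg.Agent.Lib.H17.CosetCert Cfsg.Agent.Lib.H17.Sgs Cfsg.Agent.Lib.H17.Sift
  Cfsg.Agent.Lib.H17.PermActs Cfsg.Agent.Lib.H6.PermTab Cfsg.Agent.Lib.H6.PermFast
  Cfsg.Agent.Lib.H17.GSift Cfsg.Agent.Lib.H17.Fi24S Cfsg.Agent.Lib.H6.FiIndex
  Cfsg.Agent.Lib.H17.OutChunks Cfsg.Agent.Lib.H17.OutTools Cfsg.Agent.Lib.H17.ConjTest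

attribute [local instance] finG

theorem chkFD_8 : allLt (fun i => FD (Nat.add 1166 i)) 131 = true := by
  decide +kernel

theorem chkFD_9 : allLt (fun i => FD (Nat.add 1297 i)) 139 = true := by
  decide +kernel

theorem chkFD_10 : allLt (fun i => FD (Nat.add 1436 i)) 140 = true := by
  decide +kernel

theorem chkFD_11 : allLt (fun i => FD (Nat.add 1576 i)) 122 = true := by
  decide +kernel

theorem chkFD_12 : allLt (fun i => FD (Nat.add 1698 i)) 168 = true := by
  decide +kernel

theorem chkFD_13 : allLt (fun i => FD (Nat.add 1866 i)) 161 = true := by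
  decide +kernel

theorem chkFD_14 : allLt (fun i => FD (Nat.add 2027 i)) 149 = true := by
  decide +kernel

theorem chkFD_15 : allLt (fun i => FD (Nat.add 2176 i)) 154 = true := by
  decide +kernel

end Cfsg.Agent.Lib.H17.Fi24Out
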