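import Cfsg.Agent.Lib.H17.Fi24Out.SwDDef

set_option autoImplicit false
set_option maxRecDepth 1000000

/-! # The sweep for the centraliser of `dE`: part 10 (generated) -/

namespace Cfsg.Agent.Lib.H17.Fi24Out

open Cfsg.Agent.Lib.H17.CosetCert Cfsg.Agent.Lib.H17.Sgs Cfsg.Agent.Lib.H17.Sift
  Cfsg.Agent.Lib.H17.PermActs Cfsg.Agent.Lib.H6.PermTab Cfsg.Agent.Lib.H6.PermFast
  Cfsg.Agent.Lib.H17.GSift Cfsg.Agent.Lib.H17.Fi24S Cfsg.Agent.Lib.H6.FiIndex
  Cfsg.Agent.Lib.H17.OutChunks Cfsg.Agent.Lib.H17.OutTools Cfsg.Agent.Lib.H17.ConjTest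

attribute [local instance] finG

theorem chkFD_80 : allLt (fun i => FD (Nat.add 13452 i)) 195 = true := by
  decide +kernel

theorem chkFD_81 : allLt (fun i => FD (Nat.add 13647 i)) 210 = true := by
  decide +kernel

theorem chkFD_82 : allLt (fun i => FD (Nat.add 13857 i)) 215 = true := by
  decide +kernel

theorem chkFD_83 : allLt (fun i => FD (Nat.add 14072 i)) 228 = true := by
  decide +kernel

theorem chkFD_84 : allLt (fun i => FD (Nat.add 14300 i)) 228 = true := by
  decide +kernel

theorem chkFD_85 : allLt (fun i => FD (Nat.add 14528 i)) 237 = true := by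
  decide +kernel

theorem chkFD_86 : allLt (fun i => FD (Nat.add 14765 i)) 252 = true := by
  decide +kernel

theorem chkFD_87 : allLt (fun i => FD (Nat.add 15017 i)) 257 = true := by
  decide +kernel

end Cfsg.Agent.Lib.H17.Fi24Out
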