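import Cfsg.Agent.Lib.H17.Fi24Out.SwDDef

set_option autoImplicit false
set_option maxRecDepth 1000000

/-! # The sweep for the centraliser of `dE`: part 11 (generated) -/

namespace Cfsg.Agent.Lib.H17.Fi24Out

open Cfsg.Agent.Lib.H17.CosetCert Cfsg.Agent.Lib.H17.Sgs Cfsg.Agent.Lib.H17.Sift
  Cfsg.Agent.Lib.H17.PermActs Cfsg.Agent.Lib.H6.PermTab Cfsg.Agent.Lib.H6.PermFast
  Cfsg.Agent.Lib.H17.GSift Cfsg.Agent.Lib.H17.Fi24S Cfsg.Agent.Lib.H6.FiIndex
  Cfsg.Agent.Lib.H17.OutChunks Cfsg.Agent.Lib.H17.OutTools Cfsg.Agent.Lib.H17.ConjTest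

attribute [local instance] finG

theorem chkFD_88 : allLt (fun i => FD (Nat.add 15274 i)) 214 = true := by
  decide +kernel

theorem chkFD_89 : allLt (fun i => FD (Nat.add 15488 i)) 226 = true := by
  decide +kernel

theorem chkFD_90 : allLt (fun i => FD (Nat.add 15714 i)) 252 = true := by
  decide +kernel

theorem chkFD_91 : allLt (fun i => FD (Nat.add 15966 i)) 223 = true := by
  decide +kernel

theorem chkFD_92 : allLt (fun i => FD (Nat.add 16189 i)) 267 = true := by
  decide +kernel

theorem chkFD_93 : allLt (fun i => FD (Nat.add 16456 i)) 267 = true := by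
  decide +kernel

theorem chkFD_94 : allLt (fun i => FD (Nat.add 16723 i)) 234 = true := by
  decide +kernel

theorem chkFD_95 : allLt (fun i => FD (Nat.add 16957 i)) 243 = true := by
  decide +kernel

end Cfsg.Agent.Lib.H17.Fi24Out
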