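import Cfsg.Agent.Lib.H17.Fi24Out.SwDDef

set_option autoImplicit false
set_option maxRecDepth 1000000

/-! # The sweep for the centraliser of `dE`: part 14 (generated) -/

namespace Cfsg.Agent.Lib.H17.Fi24Out

open Cfsg.Agent.Lib.H17.CosetCert Cfsg.Agent.Lib.H17.Sgs Cfsg.Agent.Lib.H17.Sift
  Cfsg.Agent.Lib.H17.PermActs Cfsg.Agent.Lib.H6.PermTab Cfsg.Agent.Lib.H6.PermFast
  Cfsg.Agent.Lib.H17.GSift Cfsg.Agent.Lib.H17.Fi24S Cfsg.Agent.Lib.H6.FiIndex
  Cfsg.Agent.Lib.H17.OutChunks Cfsg.Agent.Lib.H17.OutTools Cfsg.Agent.Lib.H17.ConjTest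

attribute [local instance] finG

theorem chkFD_112 : allLt (fun i => FD (Nat.add 21637 i)) 320 = true := by
  decide +kernel

theorem chkFD_113 : allLt (fun i => FD (Nat.add 21957 i)) 358 = true := by
  decide +kernel

theorem chkFD_114 : allLt (fun i => FD (Nat.add 22315 i)) 319 = true := by
  decide +kernel

theorem chkFD_115 : allLt (fun i => FD (Nat.add 22634 i)) 282 = true := by
  decide +kernel

theorem chkFD_116 : allLt (fun i => FD (Nat.add 22916 i)) 304 = true := by
  decide +kernel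

theorem chkFD_117 : allLt (fun i => FD (Nat.add 23220 i)) 321 = true := by
  decide +kernel

theorem chkFD_118 : allLt (fun i => FD (Nat.add 23541 i)) 358 = true := by
  decide +kernel

theorem chkFD_119 : allLt (fun i => FD (Nat.add 23899 i)) 337 = true := by
  decide +kernel

end Cfsg.Agent.Lib.H17.Fi24Out
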