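import Cfsg.Agent.Lib.H17.Fi24Out.SwDDef

set_option autoImplicit false
set_option maxRecDepth 1000000

/-! # The sweep for the centraliser of `dE`: part 15 (generated) -/

namespace Cfsg.Agent.Lib.H17.Fi24Out

open Cfsg.Agent.Lib.H17.CosetCert Cfsg.Agent.Lib.H17.Sgs Cfsg.Agent.Lib.H17.Sift
  Cfsg.Agent.Lib.H17.PermActs Cfsg.Agent.Lib.H6.PermTab Cfsg.Agent.Lib.H6.PermFast
  Cfsg.Agent.Lib.H17.GSift Cfsg.Agent.Lib.H17.Fi24S Cfsg.Agent.Lib.H6.FiIndex
  Cfsg.Agent.Lib.H17.OutChunks Cfsg.Agent.Lib.H17.OutTools Cfsg.Agent.Lib.H17.ConjTest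

attribute [local instance] finG

theorem chkFD_120 : allLt (fun i => FD (Nat.add 24236 i)) 384 = true := by
  decide +kernel

theorem chkFD_121 : allLt (fun i => FD (Nat.add 24620 i)) 380 = true := by
  decide +kernel

theorem chkFD_122 : allLt (fun i => FD (Nat.add 25000 i)) 347 = true := by
  decide +kernel

theorem chkFD_123 : allLt (fun i => FD (Nat.add 25347 i)) 387 = true := by
  decide +kernel

theorem chkFD_124 : allLt (fun i => FD (Nat.add 25734 i)) 348 = true := by
  decide +kernel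

theorem chkFD_125 : allLt (fun i => FD (Nat.add 26082 i)) 364 = true := by
  decide +kernel

theorem chkFD_126 : allLt (fun i => FD (Nat.add 26446 i)) 308 = true := by
  decide +kernel

theorem chkFD_127 : allLt (fun i => FD (Nat.add 26754 i)) 425 = true := by
  decide +kernel

end Cfsg.Agent.Lib.H17.Fi24Out
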