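import Cfsg.Agent.Lib.H17.Fi24Out.SwDDef

set_option autoImplicit false
set_option maxRecDepth 1000000

/-! # The sweep for the centraliser of `dE`: part 16 (generated) -/

namespace Cfsg.Agent.Lib.H17.Fi24Out

open Cfsg.Agent.Lib.H17.CosetCert Cfsg.Agent.Lib.H17.Sgs Cfsg.Agent.Lib.H17.Sift
  Cfsg.Agent.Lib.H17.PermActs Cfsg.Agent.Lib.H6.PermTab Cfsg.Agent.Lib.H6.PermFast
  Cfsg.Agent.Lib.H17.GSift Cfsg.Agent.Lib.H17.Fi24S Cfsg.Agent.Lib.H6.FiIndex
  Cfsg.Agent.Lib.H17.OutChunks Cfsg.Agent.Lib.H17.OutTools Cfsg.Agent.Lib.H17.ConjTest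

attribute [local instance] finG

theorem chkFD_128 : allLt (fun i => FD (Nat.add 27179 i)) 394 = true := by
  decide +kernel

theorem chkFD_129 : allLt (fun i => FD (Nat.add 27573 i)) 377 = true := by
  decide +kernel

theorem chkFD_130 : allLt (fun i => FD (Nat.add 27950 i)) 462 = true := by
  decide +kernel

theorem chkFD_131 : allLt (fun i => FD (Nat.add 28412 i)) 428 = true := by
  decide +kernel

theorem chkFD_132 : allLt (fun i => FD (Nat.add 28840 i)) 379 = true := by
  decide +kernel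

theorem chkFD_133 : allLt (fun i => FD (Nat.add 29219 i)) 413 = true := by
  decide +kernel

theorem chkFD_134 : allLt (fun i => FD (Nat.add 29632 i)) 522 = true := by
  decide +kernel

theorem chkFD_135 : allLt (fun i => FD (Nat.add 30154 i)) 487 = true := by
  decide +kernel

end Cfsg.Agent.Lib.H17.Fi24Out
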