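import Cfsg.Agent.Lib.H17.Fi24Out.SwDDef

set_option autoImplicit false
set_option maxRecDepth 1000000

/-! # The sweep for the centraliser of `dE`: part 17 (generated) -/

namespace Cfsg.Agent.Lib.H17.Fi24Out

open Cfsg.Agent.Lib.H17.CosetCert Cfsg.Agent.Lib.H17.Sgs Cfsg.Agent.Lib.H17.Sift
  Cfsg.Agent.Lib.H17.PermActs Cfsg.Agent.Lib.H6.PermTab Cfsg.Agent.Lib.H6.PermFast
  Cfsg.Agent.Lib.H17.GSift Cfsg.Agent.Lib.H17.Fi24S Cfsg.Agent.Lib.H6.FiIndex
  Cfsg.Agent.Lib.H17.OutChunks Cfsg.Agent.Lib.H17.OutTools Cfsg.Agent.Lib.H17.ConjTest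

attribute [local instance] finG

theorem chkFD_136 : allLt (fun i => FD (Nat.add 30641 i)) 393 = true := by
  decide +kernel

theorem chkFD_137 : allLt (fun i => FD (Nat.add 31034 i)) 541 = true := by
  decide +kernel

theorem chkFD_138 : allLt (fun i => FD (Nat.add 31575 i)) 459 = true := by
  decide +kernel

theorem chkFD_139 : allLt (fun i => FD (Nat.add 32034 i)) 521 = true := by
  decide +kernel

theorem chkFD_140 : allLt (fun i => FD (Nat.add 32555 i)) 504 = true := by
  decide +kernel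

theorem chkFD_141 : allLt (fun i => FD (Nat.add 33059 i)) 487 = true := by
  decide +kernel

theorem chkFD_142 : allLt (fun i => FD (Nat.add 33546 i)) 552 = true := by
  decide +kernel

theorem chkFD_143 : allLt (fun i => FD (Nat.add 34098 i)) 471 = true := by
  decide +kernel

end Cfsg.Agent.Lib.H17.Fi24Out
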