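import Cfsg.Agent.Lib.H17.Fi24Out.SwDDef

set_option autoImplicit false
set_option maxRecDepth 1000000

/-! # The sweep for the centraliser of `dE`: part 18 (generated) -/

namespace Cfsg.Agent.Lib.H17.Fi24Out

open Cfsg.Agent.Lib.H17.CosetCert Cfsg.Agent.Lib.H17.Sgs Cfsg.Agent.Lib.H17.Sift
  Cfsg.Agent.Lib.H17.PermActs Cfsg.Agent.Lib.H6.PermTab Cfsg.Agent.Lib.H6.PermFast
  Cfsg.Agent.Lib.H17.GSift Cfsg.Agent.Lib.H17.Fi24S Cfsg.Agent.Lib.H6.FiIndex
  Cfsg.Agent.Lib.H17.OutChunks Cfsg.Agent.Lib.H17.OutTools Cfsg.Agent.Lib.H17.ConjTest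

attribute [local instance] finG

theorem chkFD_144 : allLt (fun i => FD (Nat.add 34569 i)) 590 = true := by
  decide +kernel

theorem chkFD_145 : allLt (fun i => FD (Nat.add 35159 i)) 570 = true := by
  decide +kernel

theorem chkFD_146 : allLt (fun i => FD (Nat.add 35729 i)) 562 = true := by
  decide +kernel

theorem chkFD_147 : allLt (fun i => FD (Nat.add 36291 i)) 577 = true := by
  decide +kernel

theorem chkFD_148 : allLt (fun i => FD (Nat.add 36868 i)) 622 = true := by
  decide +kernel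

theorem chkFD_149 : allLt (fun i => FD (Nat.add 37490 i)) 755 = true := by
  decide +kernel

theorem chkFD_150 : allLt (fun i => FD (Nat.add 38245 i)) 680 = true := by
  decide +kernel

theorem chkFD_151 : allLt (fun i => FD (Nat.add 38925 i)) 772 = true := by
  decide +kernel

end Cfsg.Agent.Lib.H17.Fi24Out
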