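import Cfsg.Agent.Lib.H17.Fi24Out.SwDDef

set_option autoImplicit false
set_option maxRecDepth 1000000

/-! # The sweep for the centraliser of `dE`: part 19 (generated) -/

namespace Cfsg.Agent.Lib.H17.Fi24Out

open Cfsg.Agent.Lib.H17.CosetCert Cfsg.Agent.Lib.H17.Sgs Cfsg.Agent.Lib.H17.Sift
  Cfsg.Agent.Lib.H17.PermActs Cfsg.Agent.Lib.H6.PermTab Cfsg.Agent.Lib.H6.PermFast
  Cfsg.Agent.Lib.H17.GSift Cfsg.Agent.Lib.H17.Fi24S Cfsg.Agent.Lib.H6.FiIndex
  Cfsg.Agent.Lib.H17.OutChunks Cfsg.Agent.Lib.H17.OutTools Cfsg.Agent.Lib.H17.ConjTest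

attribute [local instance] finG

theorem chkFD_152 : allLt (fun i => FD (Nat.add 39697 i)) 814 = true := by
  decide +kernel

theorem chkFD_153 : allLt (fun i => FD (Nat.add 40511 i)) 608 = true := by
  decide +kernel

theorem chkFD_154 : allLt (fun i => FD (Nat.add 41119 i)) 805 = true := by
  decide +kernel

theorem chkFD_155 : allLt (fun i => FD (Nat.add 41924 i)) 739 = true := by
  decide +kernel

theorem chkFD_156 : allLt (fun i => FD (Nat.add 42663 i)) 946 = true := by
  decide +kernel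

theorem chkFD_157 : allLt (fun i => FD (Nat.add 43609 i)) 960 = true := by
  decide +kernel

theorem chkFD_158 : allLt (fun i => FD (Nat.add 44569 i)) 724 = true := by
  decide +kernel

theorem chkFD_159 : allLt (fun i => FD (Nat.add 45293 i)) 857 = true := by
  decide +kernel

end Cfsg.Agent.Lib.H17.Fi24Out
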