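import Cfsg.Agent.Lib.H17.Fi24Out.SwDDef

set_option autoImplicit false
set_option maxRecDepth 1000000

/-! # The sweep for the centraliser of `dE`: part 2 (generated) -/

namespace Cfsg.Agent.Lib.H17.Fi24Out

open Cfsg.Agent.Lib.H17.CosetCert Cfsg.Agent.Lib.H17.Sgs Cfsg.Agent.Lib.H17.Sift
  Cfsg.Agent.Lib.H17.PermActs Cfsg.Agent.Lib.H6.PermTab Cfsg.Agent.Lib.H6.PermFast
  Cfsg.Agent.Lib.H17.GSift Cfsg.Agent.Lib.H17.Fi24S Cfsg.Agent.Lib.H6.FiIndex
  Cfsg.Agent.Lib.H17.OutChunks Cfsg.Agent.Lib.H17.OutTools Cfsg.Agent.Lib.H17.ConjTest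

attribute [local instance] finG

theorem chkFD_16 : allLt (fun i => FD (Nat.add 2330 i)) 160 = true := by
  decide +kernel

theorem chkFD_17 : allLt (fun i => FD (Nat.add 2490 i)) 154 = true := by
  decide +kernel

theorem chkFD_18 : allLt (fun i => FD (Nat.add 2644 i)) 146 = true := by
  decide +kernel

theorem chkFD_19 : allLt (fun i => FD (Nat.add 2790 i)) 136 = true := by
  decide +kernel

theorem chkFD_20 : allLt (fun i => FD (Nat.add 2926 i)) 143 = true := by
  decide +kernel

theorem chkFD_21 : allLt (fun i => FD (Nat.add 3069 i)) 131 = true := by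
  decide +kernel

theorem chkFD_22 : allLt (fun i => FD (Nat.add 3200 i)) 154 = true := by
  decide +kernel

theorem chkFD_23 : allLt (fun i => FD (Nat.add 3354 i)) 153 = true := by
  decide +kernel

end Cfsg.Agent.Lib.H17.Fi24Out
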