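import Cfsg.Agent.Lib.H17.Fi24Out.SwDDef

set_option autoImplicit false
set_option maxRecDepth 1000000

/-! # The sweep for the centraliser of `dE`: part 20 (generated) -/

namespace Cfsg.Agent.Lib.H17.Fi24Out

open Cfsg.Agent.Lib.H17.CosetCert Cfsg.Agent.Lib.H17.Sgs Cfsg.Agent.Lib.H17.Sift
  Cfsg.Agent.Lib.H17.PermActs Cfsg.Agent.Lib.H6.PermTab Cfsg.Agent.Lib.H6.PermFast
  Cfsg.Agent.Lib.H17.GSift Cfsg.Agent.Lib.H17.Fi24S Cfsg.Agent.Lib.H6.FiIndex
  Cfsg.Agent.Lib.H17.OutChunks Cfsg.Agent.Lib.H17.OutTools Cfsg.Agent.Lib.H17.ConjTest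

attribute [local instance] finG

theorem chkFD_160 : allLt (fun i => FD (Nat.add 46150 i)) 997 = true := by
  decide +kernel

theorem chkFD_161 : allLt (fun i => FD (Nat.add 47147 i)) 939 = true := by
  decide +kernel

theorem chkFD_162 : allLt (fun i => FD (Nat.add 48086 i)) 1168 = true := by
  decide +kernel

theorem chkFD_163 : allLt (fun i => FD (Nat.add 49254 i)) 1189 = true := by
  decide +kernel

theorem chkFD_164 : allLt (fun i => FD (Nat.add 50443 i)) 1106 = true := by
  decide +kernel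

theorem chkFD_165 : allLt (fun i => FD (Nat.add 51549 i)) 1407 = true := by
  decide +kernel

theorem chkFD_166 : allLt (fun i => FD (Nat.add 52956 i)) 1508 = true := by
  decide +kernel

theorem chkFD_167 : allLt (fun i => FD (Nat.add 54464 i)) 1595 = true := by
  decide +kernel

end Cfsg.Agent.Lib.H17.Fi24Out
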