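import Cfsg.Agent.Lib.H17.Fi24Out.SwDDef

set_option autoImplicit false
set_option maxRecDepth 1000000

/-! # The sweep for the centraliser of `dE`: part 21 (generated) -/

namespace Cfsg.Agent.Lib.H17.Fi24Out

open Cfsg.Agent.Lib.H17.CosetCert Cfsg.Agent.Lib.H17.Sgs Cfsg.Agent.Lib.H17.Sift
  Cfsg.Agent.Lib.H17.PermActs Cfsg.Agent.Lib.H6.PermTab Cfsg.Agent.Lib.H6.PermFast
  Cfsg.Agent.Lib.H17.GSift Cfsg.Agent.Lib.H17.Fi24S Cfsg.Agent.Lib.H6.FiIndex
  Cfsg.Agent.Lib.H17.OutChunks Cfsg.Agent.Lib.H17.OutTools Cfsg.Agent.Lib.H17.ConjTest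

attribute [local instance] finG

theorem chkFD_168 : allLt (fun i => FD (Nat.add 56059 i)) 1672 = true := by
  decide +kernel

theorem chkFD_169 : allLt (fun i => FD (Nat.add 57731 i)) 2081 = true := by
  decide +kernel

theorem chkFD_170 : allLt (fun i => FD (Nat.add 59812 i)) 2146 = true := by
  decide +kernel

theorem chkFD_171 : allLt (fun i => FD (Nat.add 61958 i)) 1964 = true := by
  decide +kernel

theorem chkFD_172 : allLt (fun i => FD (Nat.add 63922 i)) 2138 = true := by
  decide +kernel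

theorem chkFD_173 : allLt (fun i => FD (Nat.add 66060 i)) 2997 = true := by
  decide +kernel

theorem chkFD_174 : allLt (fun i => FD (Nat.add 69057 i)) 2900 = true := by
  decide +kernel

theorem chkFD_175 : allLt (fun i => FD (Nat.add 71957 i)) 5078 = true := by
  decide +kernel

end Cfsg.Agent.Lib.H17.Fi24Out
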