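import Cfsg.Agent.Lib.H17.Fi24Out.SwDDef

set_option autoImplicit false
set_option maxRecDepth 1000000

/-! # The sweep for the centraliser of `dE`: part 22 (generated) -/

namespace Cfsg.Agent.Lib.H17.Fi24Out

open Cfsg.Agent.Lib.H17.CosetCert Cfsg.Agent.Lib.H17.Sgs Cfsg.Agent.Lib.H17.Sift
  Cfsg.Agent.Lib.H17.PermActs Cfsg.Agent.Lib.H6.PermTab Cfsg.Agent.Lib.H6.PermFast
  Cfsg.Agent.Lib.H17.GSift Cfsg.Agent.Lib.H17.Fi24S Cfsg.Agent.Lib.H6.FiIndex
  Cfsg.Agent.Lib.H17.OutChunks Cfsg.Agent.Lib.H17.OutTools Cfsg.Agent.Lib.H17.ConjTest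

attribute [local instance] finG

theorem chkFD_176 : allLt (fun i => FD (Nat.add 77035 i)) 6503 = true := by
  decide +kernel

theorem chkFD_177 : allLt (fun i => FD (Nat.add 83538 i)) 10075 = true := by
  decide +kernel

theorem chkFD_178 : allLt (fun i => FD (Nat.add 93613 i)) 22789 = true := by
  decide +kernel

theorem chkFD_179 : allLt (fun i => FD (Nat.add 116402 i)) 176024 = true := by
  decide +kernel

theorem chkFD_180 : allLt (fun i => FD (Nat.add 292426 i)) 14510 = true := by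
  decide +kernel

end Cfsg.Agent.Lib.H17.Fi24Out
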