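import Cfsg.Agent.Lib.H17.Fi24Out.SwDDef

set_option autoImplicit false
set_option maxRecDepth 1000000

/-! # The sweep for the centraliser of `dE`: part 3 (generated) -/

namespace Cfsg.Agent.Lib.H17.Fi24Out

open Cfsg.Agent.Lib.H17.CosetCert Cfsg.Agent.Lib.H17.Sgs Cfsg.Agent.Lib.H17.Sift
  Cfsg.Agent.Lib.H17.PermActs Cfsg.Agent.Lib.H6.PermTab Cfsg.Agent.Lib.H6.PermFast
  Cfsg.Agent.Lib.H17.GSift Cfsg.Agent.Lib.H17.Fi24S Cfsg.Agent.Lib.H6.FiIndex
  Cfsg.Agent.Lib.H17.OutChunks Cfsg.Agent.Lib.H17.OutTools Cfsg.Agent.Lib.H17.ConjTest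

attribute [local instance] finG

theorem chkFD_24 : allLt (fun i => FD (Nat.add 3507 i)) 133 = true := by
  decide +kernel

theorem chkFD_25 : allLt (fun i => FD (Nat.add 3640 i)) 154 = true := by
  decide +kernel

theorem chkFD_26 : allLt (fun i => FD (Nat.add 3794 i)) 149 = true := by
  decide +kernel

theorem chkFD_27 : allLt (fun i => FD (Nat.add 3943 i)) 171 = true := by
  decide +kernel

theorem chkFD_28 : allLt (fun i => FD (Nat.add 4114 i)) 168 = true := by
  decide +kernel

theorem chkFD_29 : allLt (fun i => FD (Nat.add 4282 i)) 163 = true := by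
  decide +kernel

theorem chkFD_30 : allLt (fun i => FD (Nat.add 4445 i)) 144 = true := by
  decide +kernel

theorem chkFD_31 : allLt (fun i => FD (Nat.add 4589 i)) 159 = true := by
  decide +kernel

end Cfsg.Agent.Lib.H17.Fi24Out
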