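import Cfsg.Agent.Lib.H17.Fi24Out.SwDDef

set_option autoImplicit false
set_option maxRecDepth 1000000

/-! # The sweep for the centraliser of `dE`: part 4 (generated) -/

namespace Cfsg.Agent.Lib.H17.Fi24Out

open Cfsg.Agent.Lib.H17.CosetCert Cfsg.Agent.Lib.H17.Sgs Cfsg.Agent.Lib.H17.Sift
  Cfsg.Agent.Lib.H17.PermActs Cfsg.Agent.Lib.H6.PermTab Cfsg.Agent.Lib.H6.PermFast
  Cfsg.Agent.Lib.H17.GSift Cfsg.Agent.Lib.H17.Fi24S Cfsg.Agent.Lib.H6.FiIndex
  Cfsg.Agent.Lib.H17.OutChunks Cfsg.Agent.Lib.H17.OutTools Cfsg.Agent.Lib.H17.ConjTest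

attribute [local instance] finG

theorem chkFD_32 : allLt (fun i => FD (Nat.add 4748 i)) 178 = true := by
  decide +kernel

theorem chkFD_33 : allLt (fun i => FD (Nat.add 4926 i)) 142 = true := by
  decide +kernel

theorem chkFD_34 : allLt (fun i => FD (Nat.add 5068 i)) 158 = true := by
  decide +kernel

theorem chkFD_35 : allLt (fun i => FD (Nat.add 5226 i)) 153 = true := by
  decide +kernel

theorem chkFD_36 : allLt (fun i => FD (Nat.add 5379 i)) 176 = true := by
  decide +kernel

theorem chkFD_37 : allLt (fun i => FD (Nat.add 5555 i)) 153 = true := by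
  decide +kernel

theorem chkFD_38 : allLt (fun i => FD (Nat.add 5708 i)) 165 = true := by
  decide +kernel

theorem chkFD_39 : allLt (fun i => FD (Nat.add 5873 i)) 160 = true := by
  decide +kernel

end Cfsg.Agent.Lib.H17.Fi24Out
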