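import Cfsg.Agent.Lib.H17.Fi24Out.SwDDef

set_option autoImplicit false
set_option maxRecDepth 1000000

/-! # The sweep for the centraliser of `dE`: part 5 (generated) -/

namespace Cfsg.Agent.Lib.H17.Fi24Out

open Cfsg.Agent.Lib.H17.CosetCert Cfsg.Agent.Lib.H17.Sgs Cfsg.Agent.Lib.H17.Sift
  Cfsg.Agent.Lib.H17.PermActs Cfsg.Agent.Lib.H6.PermTab Cfsg.Agent.Lib.H6.PermFast
  Cfsg.Agent.Lib.H17.GSift Cfsg.Agent.Lib.H17.Fi24S Cfsg.Agent.Lib.H6.FiIndex
  Cfsg.Agent.Lib.H17.OutChunks Cfsg.Agent.Lib.H17.OutTools Cfsg.Agent.Lib.H17.ConjTest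

attribute [local instance] finG

theorem chkFD_40 : allLt (fun i => FD (Nat.add 6033 i)) 181 = true := by
  decide +kernel

theorem chkFD_41 : allLt (fun i => FD (Nat.add 6214 i)) 158 = true := by
  decide +kernel

theorem chkFD_42 : allLt (fun i => FD (Nat.add 6372 i)) 177 = true := by
  decide +kernel

theorem chkFD_43 : allLt (fun i => FD (Nat.add 6549 i)) 196 = true := by
  decide +kernel

theorem chkFD_44 : allLt (fun i => FD (Nat.add 6745 i)) 176 = true := by
  decide +kernel

theorem chkFD_45 : allLt (fun i => FD (Nat.add 6921 i)) 161 = true := by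
  decide +kernel

theorem chkFD_46 : allLt (fun i => FD (Nat.add 7082 i)) 166 = true := by
  decide +kernel

theorem chkFD_47 : allLt (fun i => FD (Nat.add 7248 i)) 196 = true := by
  decide +kernel

end Cfsg.Agent.Lib.H17.Fi24Out
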