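import Cfsg.Agent.Lib.H17.Fi24Out.SwDDef

set_option autoImplicit false
set_option maxRecDepth 1000000

/-! # The sweep for the centraliser of `dE`: part 6 (generated) -/

namespace Cfsg.Agent.Lib.H17.Fi24Out

open Cfsg.Agent.Lib.H17.CosetCert Cfsg.Agent.Lib.H17.Sgs Cfsg.Agent.Lib.H17.Sift
  Cfsg.Agent.Lib.H17.PermActs Cfsg.Agent.Lib.H6.PermTab Cfsg.Agent.Lib.H6.PermFast
  Cfsg.Agent.Lib.H17.GSift Cfsg.Agent.Lib.H17.Fi24S Cfsg.Agent.Lib.H6.FiIndex
  Cfsg.Agent.Lib.H17.OutChunks Cfsg.Agent.Lib.H17.OutTools Cfsg.Agent.Lib.H17.ConjTest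

attribute [local instance] finG

theorem chkFD_48 : allLt (fun i => FD (Nat.add 7444 i)) 150 = true := by
  decide +kernel

theorem chkFD_49 : allLt (fun i => FD (Nat.add 7594 i)) 159 = true := by
  decide +kernel

theorem chkFD_50 : allLt (fun i => FD (Nat.add 7753 i)) 189 = true := by
  decide +kernel

theorem chkFD_51 : allLt (fun i => FD (Nat.add 7942 i)) 184 = true := by
  decide +kernel

theorem chkFD_52 : allLt (fun i => FD (Nat.add 8126 i)) 199 = true := by
  decide +kernel

theorem chkFD_53 : allLt (fun i => FD (Nat.add 8325 i)) 167 = true := by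
  decide +kernel

theorem chkFD_54 : allLt (fun i => FD (Nat.add 8492 i)) 153 = true := by
  decide +kernel

theorem chkFD_55 : allLt (fun i => FD (Nat.add 8645 i)) 182 = true := by
  decide +kernel

end Cfsg.Agent.Lib.H17.Fi24Out
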