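import Cfsg.Agent.Lib.H17.Fi24Out.SwDDef

set_option autoImplicit false
set_option maxRecDepth 1000000

/-! # The sweep for the centraliser of `dE`: part 8 (generated) -/

namespace Cfsg.Agent.Lib.H17.Fi24Out

open Cfsg.Agent.Lib.H17.CosetCert Cfsg.Agent.Lib.H17.Sgs Cfsg.Agent.Lib.H17.Sift
  Cfsg.Agent.Lib.H17.PermActs Cfsg.Agent.Lib.H6.PermTab Cfsg.Agent.Lib.H6.PermFast
  Cfsg.Agent.Lib.H17.GSift Cfsg.Agent.Lib.H17.Fi24S Cfsg.Agent.Lib.H6.FiIndex
  Cfsg.Agent.Lib.H17.OutChunks Cfsg.Agent.Lib.H17.OutTools Cfsg.Agent.Lib.H17.ConjTest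

attribute [local instance] finG

theorem chkFD_64 : allLt (fun i => FD (Nat.add 10261 i)) 178 = true := by
  decide +kernel

theorem chkFD_65 : allLt (fun i => FD (Nat.add 10439 i)) 190 = true := by
  decide +kernel

theorem chkFD_66 : allLt (fun i => FD (Nat.add 10629 i)) 178 = true := by
  decide +kernel

theorem chkFD_67 : allLt (fun i => FD (Nat.add 10807 i)) 199 = true := by
  decide +kernel

theorem chkFD_68 : allLt (fun i => FD (Nat.add 11006 i)) 203 = true := by
  decide +kernel

theorem chkFD_69 : allLt (fun i => FD (Nat.add 11209 i)) 191 = true := by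
  decide +kernel

theorem chkFD_70 : allLt (fun i => FD (Nat.add 11400 i)) 189 = true := by
  decide +kernel

theorem chkFD_71 : allLt (fun i => FD (Nat.add 11589 i)) 217 = true := by
  decide +kernel

end Cfsg.Agent.Lib.H17.Fi24Out
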