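import Cfsg.Agent.Lib.H17.Fi24Out.SwDDef

set_option autoImplicit false
set_option maxRecDepth 1000000

/-! # The sweep for the centraliser of `dE`: part 9 (generated) -/

namespace Cfsg.Agent.Lib.H17.Fi24Out

open Cfsg.Agent.Lib.H17.CosetCert Cfsg.Agent.Lib.H17.Sgs Cfsg.Agent.Lib.H17.Sift
  Cfsg.Agent.Lib.H17.PermActs Cfsg.Agent.Lib.H6.PermTab Cfsg.Agent.Lib.H6.PermFast
  Cfsg.Agent.Lib.H17.GSift Cfsg.Agent.Lib.H17.Fi24S Cfsg.Agent.Lib.H6.FiIndex
  Cfsg.Agent.Lib.H17.OutChunks Cfsg.Agent.Lib.H17.OutTools Cfsg.Agent.Lib.H17.ConjTest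

attribute [local instance] finG

theorem chkFD_72 : allLt (fun i => FD (Nat.add 11806 i)) 224 = true := by
  decide +kernel

theorem chkFD_73 : allLt (fun i => FD (Nat.add 12030 i)) 175 = true := by
  decide +kernel

theorem chkFD_74 : allLt (fun i => FD (Nat.add 12205 i)) 198 = true := by
  decide +kernel

theorem chkFD_75 : allLt (fun i => FD (Nat.add 12403 i)) 197 = true := by
  decide +kernel

theorem chkFD_76 : allLt (fun i => FD (Nat.add 12600 i)) 209 = true := by
  decide +kernel

theorem chkFD_77 : allLt (fun i => FD (Nat.add 12809 i)) 219 = true := by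
  decide +kernel

theorem chkFD_78 : allLt (fun i => FD (Nat.add 13028 i)) 206 = true := by
  decide +kernel

theorem chkFD_79 : allLt (fun i => FD (Nat.add 13234 i)) 218 = true := by
  decide +kernel

end Cfsg.Agent.Lib.H17.Fi24Out
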