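import Cfsg.Agent.Lib.H17.Fi24Out.SwD0
import Cfsg.Agent.Lib.H17.Fi24Out.SwD1
import Cfsg.Agent.Lib.H17.Fi24Out.SwD2
import Cfsg.Agent.Lib.H17.Fi24Out.SwD3
import Cfsg.Agent.Lib.H17.Fi24Out.SwD4
import Cfsg.Agent.Lib.H17.Fi24Out.SwD5
import Cfsg.Agent.Lib.H17.Fi24Out.SwD6
import Cfsg.Agent.Lib.H17.Fi24Out.SwD7
import Cfsg.Agent.Lib.H17.Fi24Out.SwD8
import Cfsg.Agent.Lib.H17.Fi24Out.SwD9
import Cfsg.Agent.Lib.H17.Fi24Out.SwD10
import Cfsg.Agent.Lib.H17.Fi24Out.SwD11
import Cfsg.Agent.Lib.H17.Fi24Out.SwD12
import Cfsg.Agent.Lib.H17.Fi24Out.SwD13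
import Cfsg.Agent.Lib.H17.Fi24Out.SwD14
import Cfsg.Agent.Lib.H17.Fi24Out.SwD15
import Cfsg.Agent.Lib.H17.Fi24Out.SwD16
import Cfsg.Agent.Lib.H17.Fi24Out.SwD17
import Cfsg.Agent.Lib.H17.Fi24Out.SwD18
import Cfsg.Agent.Lib.H17.Fi24Out.SwD19
import Cfsg.Agent.Lib.H17.Fi24Out.SwD20
import Cfsg.Agent.Lib.H17.Fi24Out.SwD21
import Cfsg.Agent.Lib.H17.Fi24Out.SwD22

set_option autoImplicit false
set_option maxRecDepth 1000000

/-! # The sweep for the centraliser of `dE`: all points (generated) -/

namespace Cfsg.Agent.Lib.H17.Fi24Out

open Cfsg.Agent.Lib.H17.CosetCert Cfsg.Agent.Lib.H17.Sgs Cfsg.Agent.Lib.H17.Sift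
  Cfsg.Agent.Lib.H17.PermActs Cfsg.Agent.Lib.H6.PermTab Cfsg.Agent.Lib.H6.PermFast
  Cfsg.Agent.Lib.H17.GSift Cfsg.Agent.Lib.H17.Fi24S Cfsg.Agent.Lib.H6.FiIndex
  Cfsg.Agent.Lib.H17.OutChunks Cfsg.Agent.Lib.H17.OutTools Cfsg.Agent.Lib.H17.ConjTest

attribute [local instance] finG

theorem chkFD : allLt FD 306936 = true := by
  have h0 := chkFD_0
  have h1 := allLt_append FD 152 150 302 (by norm_num) h0 chkFD_1
  have h2 := allLt_append FD 302 150 452 (by norm_num) h1 chkFD_2
  have h3 := allLt_append FD 452 144 596 (by norm_num) h2 chkFD_3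
  have h4 := allLt_append FD 596 153 749 (by norm_num) h3 chkFD_4
  have h5 := allLt_append FD 749 137 886 (by norm_num) h4 chkFD_5
  have h6 := allLt_append FD 886 148 1034 (by norm_num) h5 chkFD_6
  have h7 := allLt_append FD 1034 132 1166 (by norm_num) h6 chkFD_7
  have h8 := allLt_append FD 1166 131 1297 (by norm_num) h7 chkFD_8
  have h9 := allLt_append FD 1297 139 1436 (by norm_num) h8 chkFD_9
  have h10 := allLt_append FD 1436 140 1576 (by norm_num) h9 chkFD_10
  have h11 := allLt_append FD 1576 122 1698 (by norm_num) h10 chkFD_11
  have h12 := allLt_append FD 1698 168 1866 (by norm_num) h11 chkFD_12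
  have h13 := allLt_append FD 1866 161 2027 (by norm_num) h12 chkFD_13
  have h14 := allLt_append FD 2027 149 2176 (by norm_num) h13 chkFD_14
  have h15 := allLt_append FD 2176 154 2330 (by norm_num) h14 chkFD_15
  have h16 := allLt_append FD 2330 160 2490 (by norm_num) h15 chkFD_16
  have h17 := allLt_append FD 2490 154 2644 (by norm_num) h16 chkFD_17
  have h18 := allLt_append FD 2644 146 2790 (by norm_num) h17 chkFD_18
  have h19 := allLt_append FD 2790 136 2926 (by norm_num) h18 chkFD_19
  have h20 := allLt_append FD 2926 143 3069 (by norm_num) h19 chkFD_20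
  have h21 := allLt_append FD 3069 131 3200 (by norm_num) h20 chkFD_21
  have h22 := allLt_append FD 3200 154 3354 (by norm_num) h21 chkFD_22
  have h23 := allLt_append FD 3354 153 3507 (by norm_num) h22 chkFD_23
  have h24 := allLt_append FD 3507 133 3640 (by norm_num) h23 chkFD_24
  have h25 := allLt_append FD 3640 154 3794 (by norm_num) h24 chkFD_25
  have h26 := allLt_append FD 3794 149 3943 (by norm_num) h25 chkFD_26
  have h27 := allLt_append FD 3943 171 4114 (by norm_num) h26 chkFD_27
  have h28 := allLt_append FD 4114 168 4282 (by norm_num) h27 chkFD_28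
  have h29 := allLt_append FD 4282 163 4445 (by norm_num) h28 chkFD_29
  have h30 := allLt_append FD 4445 144 4589 (by norm_num) h29 chkFD_30
  have h31 := allLt_append FD 4589 159 4748 (by norm_num) h30 chkFD_31
  have h32 := allLt_append FD 4748 178 4926 (by norm_num) h31 chkFD_32
  have h33 := allLt_append FD 4926 142 5068 (by norm_num) h32 chkFD_33
  have h34 := allLt_append FD 5068 158 5226 (by norm_num) h33 chkFD_34
  have h35 := allLt_append FD 5226 153 5379 (by norm_num) h34 chkFD_35
  have h36 := allLt_append FD 5379 176 5555 (by norm_num) h35 chkFD_36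
  have h37 := allLt_append FD 5555 153 5708 (by norm_num) h36 chkFD_37
  have h38 := allLt_append FD 5708 165 5873 (by norm_num) h37 chkFD_38
  have h39 := allLt_append FD 5873 160 6033 (by norm_num) h38 chkFD_39
  have h40 := allLt_append FD 6033 181 6214 (by norm_num) h39 chkFD_40
  have h41 := allLt_append FD 6214 158 6372 (by norm_num) h40 chkFD_41
  have h42 := allLt_append FD 6372 177 6549 (by norm_num) h41 chkFD_42
  have h43 := allLt_append FD 6549 196 6745 (by norm_num) h42 chkFD_43
  have h44 := allLt_append FD 6745 176 6921 (by norm_num) h43 chkFD_44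
  have h45 := allLt_append FD 6921 161 7082 (by norm_num) h44 chkFD_45
  have h46 := allLt_append FD 7082 166 7248 (by norm_num) h45 chkFD_46
  have h47 := allLt_append FD 7248 196 7444 (by norm_num) h46 chkFD_47
  have h48 := allLt_append FD 7444 150 7594 (by norm_num) h47 chkFD_48
  have h49 := allLt_append FD 7594 159 7753 (by norm_num) h48 chkFD_49
  have h50 := allLt_append FD 7753 189 7942 (by norm_num) h49 chkFD_50
  have h51 := allLt_append FD 7942 184 8126 (by norm_num) h50 chkFD_51
  have h52 := allLt_append FD 8126 199 8325 (by norm_num) h51 chkFD_52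
  have h53 := allLt_append FD 8325 167 8492 (by norm_num) h52 chkFD_53
  have h54 := allLt_append FD 8492 153 8645 (by norm_num) h53 chkFD_54
  have h55 := allLt_append FD 8645 182 8827 (by norm_num) h54 chkFD_55
  have h56 := allLt_append FD 8827 166 8993 (by norm_num) h55 chkFD_56
  have h57 := allLt_append FD 8993 192 9185 (by norm_num) h56 chkFD_57
  have h58 := allLt_append FD 9185 184 9369 (by norm_num) h57 chkFD_58
  have h59 := allLt_append FD 9369 168 9537 (by norm_num) h58 chkFD_59
  have h60 := allLt_append FD 9537 176 9713 (by norm_num) h59 chkFD_60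
  have h61 := allLt_append FD 9713 179 9892 (by norm_num) h60 chkFD_61
  have h62 := allLt_append FD 9892 193 10085 (by norm_num) h61 chkFD_62
  have h63 := allLt_append FD 10085 176 10261 (by norm_num) h62 chkFD_63
  have h64 := allLt_append FD 10261 178 10439 (by norm_num) h63 chkFD_64
  have h65 := allLt_append FD 10439 190 10629 (by norm_num) h64 chkFD_65
  have h66 := allLt_append FD 10629 178 10807 (by norm_num) h65 chkFD_66
  have h67 := allLt_append FD 10807 199 11006 (by norm_num) h66 chkFD_67
  have h68 := allLt_append FD 11006 203 11209 (by norm_num) h67 chkFD_68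
  have h69 := allLt_append FD 11209 191 11400 (by norm_num) h68 chkFD_69
  have h70 := allLt_append FD 11400 189 11589 (by norm_num) h69 chkFD_70
  have h71 := allLt_append FD 11589 217 11806 (by norm_num) h70 chkFD_71
  have h72 := allLt_append FD 11806 224 12030 (by norm_num) h71 chkFD_72
  have h73 := allLt_append FD 12030 175 12205 (by norm_num) h72 chkFD_73
  have h74 := allLt_append FD 12205 198 12403 (by norm_num) h73 chkFD_74
  have h75 := allLt_append FD 12403 197 12600 (by norm_num) h74 chkFD_75
  have h76 := allLt_append FD 12600 209 12809 (by norm_num) h75 chkFD_76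
  have h77 := allLt_append FD 12809 219 13028 (by norm_num) h76 chkFD_77
  have h78 := allLt_append FD 13028 206 13234 (by norm_num) h77 chkFD_78
  have h79 := allLt_append FD 13234 218 13452 (by norm_num) h78 chkFD_79
  have h80 := allLt_append FD 13452 195 13647 (by norm_num) h79 chkFD_80
  have h81 := allLt_append FD 13647 210 13857 (by norm_num) h80 chkFD_81
  have h82 := allLt_append FD 13857 215 14072 (by norm_num) h81 chkFD_82
  have h83 := allLt_append FD 14072 228 14300 (by norm_num) h82 chkFD_83
  have h84 := allLt_append FD 14300 228 14528 (by norm_num) h83 chkFD_84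
  have h85 := allLt_append FD 14528 237 14765 (by norm_num) h84 chkFD_85
  have h86 := allLt_append FD 14765 252 15017 (by norm_num) h85 chkFD_86
  have h87 := allLt_append FD 15017 257 15274 (by norm_num) h86 chkFD_87
  have h88 := allLt_append FD 15274 214 15488 (by norm_num) h87 chkFD_88
  have h89 := allLt_append FD 15488 226 15714 (by norm_num) h88 chkFD_89
  have h90 := allLt_append FD 15714 252 15966 (by norm_num) h89 chkFD_90
  have h91 := allLt_append FD 15966 223 16189 (by norm_num) h90 chkFD_91
  have h92 := allLt_append FD 16189 267 16456 (by norm_num) h91 chkFD_92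
  have h93 := allLt_append FD 16456 267 16723 (by norm_num) h92 chkFD_93
  have h94 := allLt_append FD 16723 234 16957 (by norm_num) h93 chkFD_94
  have h95 := allLt_append FD 16957 243 17200 (by norm_num) h94 chkFD_95
  have h96 := allLt_append FD 17200 257 17457 (by norm_num) h95 chkFD_96
  have h97 := allLt_append FD 17457 273 17730 (by norm_num) h96 chkFD_97
  have h98 := allLt_append FD 17730 269 17999 (by norm_num) h97 chkFD_98
  have h99 := allLt_append FD 17999 244 18243 (by norm_num) h98 chkFD_99
  have h100 := allLt_append FD 18243 251 18494 (by norm_num) h99 chkFD_100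
  have h101 := allLt_append FD 18494 240 18734 (by norm_num) h100 chkFD_101
  have h102 := allLt_append FD 18734 262 18996 (by norm_num) h101 chkFD_102
  have h103 := allLt_append FD 18996 315 19311 (by norm_num) h102 chkFD_103
  have h104 := allLt_append FD 19311 258 19569 (by norm_num) h103 chkFD_104
  have h105 := allLt_append FD 19569 304 19873 (by norm_num) h104 chkFD_105
  have h106 := allLt_append FD 19873 269 20142 (by norm_num) h105 chkFD_106
  have h107 := allLt_append FD 20142 257 20399 (by norm_num) h106 chkFD_107
  have h108 := allLt_append FD 20399 316 20715 (by norm_num) h107 chkFD_108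
  have h109 := allLt_append FD 20715 294 21009 (by norm_num) h108 chkFD_109
  have h110 := allLt_append FD 21009 323 21332 (by norm_num) h109 chkFD_110
  have h111 := allLt_append FD 21332 305 21637 (by norm_num) h110 chkFD_111
  have h112 := allLt_append FD 21637 320 21957 (by norm_num) h111 chkFD_112
  have h113 := allLt_append FD 21957 358 22315 (by norm_num) h112 chkFD_113
  have h114 := allLt_append FD 22315 319 22634 (by norm_num) h113 chkFD_114
  have h115 := allLt_append FD 22634 282 22916 (by norm_num) h114 chkFD_115
  have h116 := allLt_append FD 22916 304 23220 (by norm_num) h115 chkFD_116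
  have h117 := allLt_append FD 23220 321 23541 (by norm_num) h116 chkFD_117
  have h118 := allLt_append FD 23541 358 23899 (by norm_num) h117 chkFD_118
  have h119 := allLt_append FD 23899 337 24236 (by norm_num) h118 chkFD_119
  have h120 := allLt_append FD 24236 384 24620 (by norm_num) h119 chkFD_120
  have h121 := allLt_append FD 24620 380 25000 (by norm_num) h120 chkFD_121
  have h122 := allLt_append FD 25000 347 25347 (by norm_num) h121 chkFD_122
  have h123 := allLt_append FD 25347 387 25734 (by norm_num) h122 chkFD_123
  have h124 := allLt_append FD 25734 348 26082 (by norm_num) h123 chkFD_124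
  have h125 := allLt_append FD 26082 364 26446 (by norm_num) h124 chkFD_125
  have h126 := allLt_append FD 26446 308 26754 (by norm_num) h125 chkFD_126
  have h127 := allLt_append FD 26754 425 27179 (by norm_num) h126 chkFD_127
  have h128 := allLt_append FD 27179 394 27573 (by norm_num) h127 chkFD_128
  have h129 := allLt_append FD 27573 377 27950 (by norm_num) h128 chkFD_129
  have h130 := allLt_append FD 27950 462 28412 (by norm_num) h129 chkFD_130
  have h131 := allLt_append FD 28412 428 28840 (by norm_num) h130 chkFD_131
  have h132 := allLt_append FD 28840 379 29219 (by norm_num) h131 chkFD_132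
  have h133 := allLt_append FD 29219 413 29632 (by norm_num) h132 chkFD_133
  have h134 := allLt_append FD 29632 522 30154 (by norm_num) h133 chkFD_134
  have h135 := allLt_append FD 30154 487 30641 (by norm_num) h134 chkFD_135
  have h136 := allLt_append FD 30641 393 31034 (by norm_num) h135 chkFD_136
  have h137 := allLt_append FD 31034 541 31575 (by norm_num) h136 chkFD_137
  have h138 := allLt_append FD 31575 459 32034 (by norm_num) h137 chkFD_138
  have h139 := allLt_append FD 32034 521 32555 (by norm_num) h138 chkFD_139
  have h140 := allLt_append FD 32555 504 33059 (by norm_num) h139 chkFD_140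
  have h141 := allLt_append FD 33059 487 33546 (by norm_num) h140 chkFD_141
  have h142 := allLt_append FD 33546 552 34098 (by norm_num) h141 chkFD_142
  have h143 := allLt_append FD 34098 471 34569 (by norm_num) h142 chkFD_143
  have h144 := allLt_append FD 34569 590 35159 (by norm_num) h143 chkFD_144
  have h145 := allLt_append FD 35159 570 35729 (by norm_num) h144 chkFD_145
  have h146 := allLt_append FD 35729 562 36291 (by norm_num) h145 chkFD_146
  have h147 := allLt_append FD 36291 577 36868 (by norm_num) h146 chkFD_147
  have h148 := allLt_append FD 36868 622 37490 (by norm_num) h147 chkFD_148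
  have h149 := allLt_append FD 37490 755 38245 (by norm_num) h148 chkFD_149
  have h150 := allLt_append FD 38245 680 38925 (by norm_num) h149 chkFD_150
  have h151 := allLt_append FD 38925 772 39697 (by norm_num) h150 chkFD_151
  have h152 := allLt_append FD 39697 814 40511 (by norm_num) h151 chkFD_152
  have h153 := allLt_append FD 40511 608 41119 (by norm_num) h152 chkFD_153
  have h154 := allLt_append FD 41119 805 41924 (by norm_num) h153 chkFD_154
  have h155 := allLt_append FD 41924 739 42663 (by norm_num) h154 chkFD_155
  have h156 := allLt_append FD 42663 946 43609 (by norm_num) h155 chkFD_156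
  have h157 := allLt_append FD 43609 960 44569 (by norm_num) h156 chkFD_157
  have h158 := allLt_append FD 44569 724 45293 (by norm_num) h157 chkFD_158
  have h159 := allLt_append FD 45293 857 46150 (by norm_num) h158 chkFD_159
  have h160 := allLt_append FD 46150 997 47147 (by norm_num) h159 chkFD_160
  have h161 := allLt_append FD 47147 939 48086 (by norm_num) h160 chkFD_161
  have h162 := allLt_append FD 48086 1168 49254 (by norm_num) h161 chkFD_162
  have h163 := allLt_append FD 49254 1189 50443 (by norm_num) h162 chkFD_163
  have h164 := allLt_append FD 50443 1106 51549 (by norm_num) h163 chkFD_164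
  have h165 := allLt_append FD 51549 1407 52956 (by norm_num) h164 chkFD_165
  have h166 := allLt_append FD 52956 1508 54464 (by norm_num) h165 chkFD_166
  have h167 := allLt_append FD 54464 1595 56059 (by norm_num) h166 chkFD_167
  have h168 := allLt_append FD 56059 1672 57731 (by norm_num) h167 chkFD_168
  have h169 := allLt_append FD 57731 2081 59812 (by norm_num) h168 chkFD_169
  have h170 := allLt_append FD 59812 2146 61958 (by norm_num) h169 chkFD_170
  have h171 := allLt_append FD 61958 1964 63922 (by norm_num) h170 chkFD_171
  have h172 := allLt_append FD 63922 2138 66060 (by norm_num) h171 chkFD_172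
  have h173 := allLt_append FD 66060 2997 69057 (by norm_num) h172 chkFD_173
  have h174 := allLt_append FD 69057 2900 71957 (by norm_num) h173 chkFD_174
  have h175 := allLt_append FD 71957 5078 77035 (by norm_num) h174 chkFD_175
  have h176 := allLt_append FD 77035 6503 83538 (by norm_num) h175 chkFD_176
  have h177 := allLt_append FD 83538 10075 93613 (by norm_num) h176 chkFD_177
  have h178 := allLt_append FD 93613 22789 116402 (by norm_num) h177 chkFD_178
  have h179 := allLt_append FD 116402 176024 292426 (by norm_num) h178 chkFD_179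
  have h180 := allLt_append FD 292426 14510 306936 (by norm_num) h179 chkFD_180
  exact h180

end Cfsg.Agent.Lib.H17.Fi24Out
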