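import Cfsg.Agent.Lib.H17.Fi24Out.SwSDef

set_option autoImplicit false
set_option maxRecDepth 1000000

/-! # The sweep for the centraliser of `sE`: part 1 (generated) -/

namespace Cfsg.Agent.Lib.H17.Fi24Out

open Cfsg.Agent.Lib.H17.CosetCert Cfsg.Agent.Lib.H17.Sgs Cfsg.Agent.Lib.H17.Sift
  Cfsg.Agent.Lib.H17.PermActs Cfsg.Agent.Lib.H6.PermTab Cfsg.Agent.Lib.H6.PermFast
  Cfsg.Agent.Lib.H17.GSift Cfsg.Agent.Lib.H17.Fi24S Cfsg.Agent.Lib.H6.FiIndex
  Cfsg.Agent.Lib.H17.OutChunks Cfsg.Agent.Lib.H17.OutTools Cfsg.Agent.Lib.H17.ConjTest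

attribute [local instance] finG

theorem chkFS_8 : allLt (fun i => FS (Nat.add 6518 i)) 1012 = true := by
  decide +kernel

theorem chkFS_9 : allLt (fun i => FS (Nat.add 7530 i)) 948 = true := by
  decide +kernel

theorem chkFS_10 : allLt (fun i => FS (Nat.add 8478 i)) 1209 = true := by
  decide +kernel

theorem chkFS_11 : allLt (fun i => FS (Nat.add 9687 i)) 1141 = true := by
  decide +kernel

theorem chkFS_12 : allLt (fun i => FS (Nat.add 10828 i)) 1294 = true := by
  decide +kernel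

theorem chkFS_13 : allLt (fun i => FS (Nat.add 12122 i)) 1232 = true := by
  decide +kernel

theorem chkFS_14 : allLt (fun i => FS (Nat.add 13354 i)) 1574 = true := by
  decide +kernel

theorem chkFS_15 : allLt (fun i => FS (Nat.add 14928 i)) 1522 = true := by
  decide +kernel

end Cfsg.Agent.Lib.H17.Fi24Out
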