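import Cfsg.Agent.Lib.H17.Fi24Out.SwSDef

set_option autoImplicit false
set_option maxRecDepth 1000000

/-! # The sweep for the centraliser of `sE`: part 2 (generated) -/

namespace Cfsg.Agent.Lib.H17.Fi24Out

open Cfsg.Agent.Lib.H17.CosetCert Cfsg.Agent.Lib.H17.Sgs Cfsg.Agent.Lib.H17.Sift
  Cfsg.Agent.Lib.H17.PermActs Cfsg.Agent.Lib.H6.PermTab Cfsg.Agent.Lib.H6.PermFast
  Cfsg.Agent.Lib.H17.GSift Cfsg.Agent.Lib.H17.Fi24S Cfsg.Agent.Lib.H6.FiIndex
  Cfsg.Agent.Lib.H17.OutChunks Cfsg.Agent.Lib.H17.OutTools Cfsg.Agent.Lib.H17.ConjTest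

attribute [local instance] finG

theorem chkFS_16 : allLt (fun i => FS (Nat.add 16450 i)) 1560 = true := by
  decide +kernel

theorem chkFS_17 : allLt (fun i => FS (Nat.add 18010 i)) 2120 = true := by
  decide +kernel

theorem chkFS_18 : allLt (fun i => FS (Nat.add 20130 i)) 1974 = true := by
  decide +kernel

theorem chkFS_19 : allLt (fun i => FS (Nat.add 22104 i)) 2315 = true := by
  decide +kernel

theorem chkFS_20 : allLt (fun i => FS (Nat.add 24419 i)) 2593 = true := by
  decide +kernel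

theorem chkFS_21 : allLt (fun i => FS (Nat.add 27012 i)) 2917 = true := by
  decide +kernel

theorem chkFS_22 : allLt (fun i => FS (Nat.add 29929 i)) 4287 = true := by
  decide +kernel

theorem chkFS_23 : allLt (fun i => FS (Nat.add 34216 i)) 6342 = true := by
  decide +kernel

end Cfsg.Agent.Lib.H17.Fi24Out
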