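import Cfsg.Agent.Lib.H17.Fi24Out.SwS0
import Cfsg.Agent.Lib.H17.Fi24Out.SwS1
import Cfsg.Agent.Lib.H17.Fi24Out.SwS2
import Cfsg.Agent.Lib.H17.Fi24Out.SwS3

set_option autoImplicit false
set_option maxRecDepth 1000000

/-! # The sweep for the centraliser of `sE`: all points (generated) -/

namespace Cfsg.Agent.Lib.H17.Fi24Out

open Cfsg.Agent.Lib.H17.CosetCert Cfsg.Agent.Lib.H17.Sgs Cfsg.Agent.Lib.H17.Sift
  Cfsg.Agent.Lib.H17.PermActs Cfsg.Agent.Lib.H6.PermTab Cfsg.Agent.Lib.H6.PermFast
  Cfsg.Agent.Lib.H17.GSift Cfsg.Agent.Lib.H17.Fi24S Cfsg.Agent.Lib.H6.FiIndex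
  Cfsg.Agent.Lib.H17.OutChunks Cfsg.Agent.Lib.H17.OutTools Cfsg.Agent.Lib.H17.ConjTest

attribute [local instance] finG

theorem chkFS : allLt FS 306936 = true := by
  have h0 := chkFS_0
  have h1 := allLt_append FS 917 833 1750 (by norm_num) h0 chkFS_1
  have h2 := allLt_append FS 1750 746 2496 (by norm_num) h1 chkFS_2
  have h3 := allLt_append FS 2496 738 3234 (by norm_num) h2 chkFS_3
  have h4 := allLt_append FS 3234 777 4011 (by norm_num) h3 chkFS_4
  have h5 := allLt_append FS 4011 755 4766 (by norm_num) h4 chkFS_5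
  have h6 := allLt_append FS 4766 900 5666 (by norm_num) h5 chkFS_6
  have h7 := allLt_append FS 5666 852 6518 (by norm_num) h6 chkFS_7
  have h8 := allLt_append FS 6518 1012 7530 (by norm_num) h7 chkFS_8
  have h9 := allLt_append FS 7530 948 8478 (by norm_num) h8 chkFS_9
  have h10 := allLt_append FS 8478 1209 9687 (by norm_num) h9 chkFS_10
  have h11 := allLt_append FS 9687 1141 10828 (by norm_num) h10 chkFS_11
  have h12 := allLt_append FS 10828 1294 12122 (by norm_num) h11 chkFS_12
  have h13 := allLt_append FS 12122 1232 13354 (by norm_num) h12 chkFS_13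
  have h14 := allLt_append FS 13354 1574 14928 (by norm_num) h13 chkFS_14
  have h15 := allLt_append FS 14928 1522 16450 (by norm_num) h14 chkFS_15
  have h16 := allLt_append FS 16450 1560 18010 (by norm_num) h15 chkFS_16
  have h17 := allLt_append FS 18010 2120 20130 (by norm_num) h16 chkFS_17
  have h18 := allLt_append FS 20130 1974 22104 (by norm_num) h17 chkFS_18
  have h19 := allLt_append FS 22104 2315 24419 (by norm_num) h18 chkFS_19
  have h20 := allLt_append FS 24419 2593 27012 (by norm_num) h19 chkFS_20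
  have h21 := allLt_append FS 27012 2917 29929 (by norm_num) h20 chkFS_21
  have h22 := allLt_append FS 29929 4287 34216 (by norm_num) h21 chkFS_22
  have h23 := allLt_append FS 34216 6342 40558 (by norm_num) h22 chkFS_23
  have h24 := allLt_append FS 40558 10069 50627 (by norm_num) h23 chkFS_24
  have h25 := allLt_append FS 50627 81512 132139 (by norm_num) h24 chkFS_25
  have h26 := allLt_append FS 132139 174797 306936 (by norm_num) h25 chkFS_26
  exact h26

end Cfsg.Agent.Lib.H17.Fi24Out
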