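import Cfsg.Agent.Lib.H17.Fi24Out.RelDef
import Cfsg.Agent.Lib.H17.Fi24Out.SwSAll
import Cfsg.Agent.Lib.H17.Fi24Out.SwDAll

set_option autoImplicit false
set_option maxRecDepth 1000000

/-! # The centralisers of `sE` and `dE` in Fi24 (generated) -/

namespace Cfsg.Agent.Lib.H17.Fi24Out

open Cfsg.Agent.Lib.H17.CosetCert Cfsg.Agent.Lib.H17.Sgs Cfsg.Agent.Lib.H17.Sift
  Cfsg.Agent.Lib.H17.PermActs Cfsg.Agent.Lib.H6.PermTab Cfsg.Agent.Lib.H6.PermFast
  Cfsg.Agent.Lib.H17.GSift Cfsg.Agent.Lib.H17.Fi24S Cfsg.Agent.Lib.H6.FiIndex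
  Cfsg.Agent.Lib.H17.OutChunks Cfsg.Agent.Lib.H17.OutTools Cfsg.Agent.Lib.H17.ConjTest

attribute [local instance] finG

theorem kbase_eq : kLs.map GLvl.b = orbl aS kLs.length 0 := by
  decide +kernel

theorem mbase_eq : mLs.map GLvl.b = orbl aD mLs.length 0 := by
  decide +kernel

theorem orblS_base : IsBase phi (orbl aS 8 0) :=
  isBase_mono (by decide +kernel) kisBase

theorem orblD_base : IsBase phi (orbl aD 6 0) :=
  isBase_mono (by decide +kernel) misBase

theorem sE_ne : sE ≠ 1 :=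
  ne_of_acts acts_sE Acts.one 0 (by norm_num) (by decide +kernel)

theorem order_sE : orderOf sE = 29 := by
  have : Fact (Nat.Prime 29) := ⟨by norm_num⟩
  exact orderOf_eq_prime sE_pow sE_ne

theorem hds : dE * sE * dE⁻¹ = sE ^ 9 := by
  rw [mul_inv_eq_iff_eq_mul]
  exact hds'

/-- the centraliser of `sE` -/
theorem cent_s (x : G) (hx : x * sE = sE * x) : x ∈ Subgroup.zpowers sE := by
  obtain ⟨i, hgood, -⟩ := conj_cases_rep lettersOK kLs kchain acts_sE acts_sE 0 (by norm_num) kbase_eq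
    (fun q => Nat.beq (rkS q) 0) rkS hrkS goodS
    (fun δ' hδ' => allLt_sound FS _ chkFS δ' hδ') x hx
  have h0 : pt phi (sE ^ i * x) 0 = 0 := Nat.eq_of_beq_eq_true hgood
  have hcomm : (sE ^ i * x) * sE = sE * (sE ^ i * x) := by
    rw [mul_assoc, hx, ← mul_assoc, ← mul_assoc, ← pow_succ, ← pow_succ']
  have h1 : sE ^ i * x = 1 := by
    apply eq_of_comm_agree 8 0 (by norm_num) orblS_base acts_sE hcomm (by rw [one_mul, mul_one])
    rw [h0, pt_one]
  have hx' : x = (sE ^ i)⁻¹ := eq_inv_of_mul_eq_one_right h1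
  rw [hx']
  exact Subgroup.inv_mem _ (Subgroup.pow_mem _ (Subgroup.mem_zpowers _) i)

theorem candD_eq : candD = (List.range 6).map fun c => aC c 0 := by
  decide +kernel

theorem hed : eE * dE = dE * eE := by
  rw [← hee, mul_assoc]

theorem cE_comm (idx : ℕ) : cE idx * dE = dE * cE idx := by
  have hd : Commute dE dE := Commute.refl _
  have he : Commute eE dE := hed
  have ht : Commute tE dE := htd
  exact ((hd.pow_left _).mul_left ((he.pow_left _).mul_left (ht.pow_left _))).eq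

/-- the centraliser of `dE` -/
theorem cent_d (g : G) (hg : g * dE = dE * g) : ∃ idx < 84, g = cE idx := by
  obtain ⟨i, hgood, -⟩ := conj_cases_rep lettersOK mLs mchain acts_dE acts_dE 0 (by norm_num) mbase_eq
    (fun q => Nat.beq (rkD q) 0) rkD hrkD goodD
    (fun δ' hδ' => allLt_sound FD _ chkFD δ' hδ') g hg
  have hmem : pt phi (dE ^ i * g) 0 ∈ candD := memL_sound _ _ hgood
  rw [candD_eq] at hmem
  obtain ⟨c, hc, hce⟩ := List.mem_map.mp hmem
  have hc6 : c < 6 := List.mem_range.mp hc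
  have hcomm : (dE ^ i * g) * dE = dE * (dE ^ i * g) := by
    rw [mul_assoc, hg, ← mul_assoc, ← mul_assoc, ← pow_succ, ← pow_succ']
  have h1 : dE ^ i * g = cE c := by
    apply eq_of_comm_agree 6 0 (by norm_num) orblD_base acts_dE hcomm (cE_comm c)
    have hce' : aC c 0 = pt phi (dE ^ i * g) 0 := hce
    rw [← hce', (acts_cE c).pt 0 (by norm_num)]
  have h2 : dE ^ ((13 * i) % 14) = (dE ^ i)⁻¹ := by
    rw [← pow_eq_pow_mod _ dE_pow]
    apply eq_inv_of_mul_eq_one_left
    rw [← pow_add, show 13 * i + i = 14 * i by ring, pow_mul, dE_pow, one_pow]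
  have hk : (13 * i) % 14 < 14 := Nat.mod_lt _ (by norm_num)
  refine ⟨((13 * i) % 14) * 6 + c, by omega, ?_⟩
  have e1 : (((13 * i) % 14) * 6 + c) / 6 = (13 * i) % 14 := by omega
  have e2 : (((13 * i) % 14) * 6 + c) % 6 = c := by omega
  have e3 : (((13 * i) % 14) * 6 + c) % 3 = c % 3 := by omega
  have e4 : c / 6 = 0 := by omega
  have e5 : c % 6 = c := by omega
  have hcE : cE c = eE ^ (c / 3) * tE ^ (c % 3) := by
    unfold cE
    rw [e4, e5, pow_zero, one_mul]
  unfold cE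
  rw [e1, e2, e3, h2, ← hcE, ← h1, inv_mul_cancel_left]

end Cfsg.Agent.Lib.H17.Fi24Out
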