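import Cfsg.Agent.Lib.H17.Fi24Out.MR1

set_option autoImplicit false
set_option maxRecDepth 1000000

/-! # Level 1 of the chain `m`: base point 41943, orbit size 275264 (generated) -/

namespace Cfsg.Agent.Lib.H17.Fi24Out

open Cfsg.Agent.Lib.H17.CosetCert Cfsg.Agent.Lib.H17.Sgs Cfsg.Agent.Lib.H17.Sift
  Cfsg.Agent.Lib.H17.PermActs Cfsg.Agent.Lib.H6.PermTab Cfsg.Agent.Lib.H6.PermFast
  Cfsg.Agent.Lib.H17.GSift Cfsg.Agent.Lib.H17.Fi24S Cfsg.Agent.Lib.H6.FiIndex
  Cfsg.Agent.Lib.H17.OutChunks Cfsg.Agent.Lib.H17.OutTools Cfsg.Agent.Lib.H17.ConjTest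

attribute [local instance] finG

/-- the words of level 1 -/
def mw1 : List (List ℕ) :=
  [[2],
    [3],
    [4],
    [5],
    [6],
    [7],
    [8],
    [9],
    [10],
    [11]]

theorem mletters1 : ∀ w ∈ mw1, ∀ x ∈ w, x < 12 := by
  decide

theorem mfix1 : ∀ w ∈ mw1, ∀ c ∈ ([0] : List ℕ), applyW TT w c = c := by
  decide +kernel

theorem mconn1_0 : checkConn TT mR1 41943 mw1 0 56288 = true := by
  decide +kernel

theorem mconn1_1 : checkConn TT mR1 41943 mw1 56288 54563 = true := by
  decide +kernel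

theorem mconn1_2 : checkConn TT mR1 41943 mw1 110851 51508 = true := by
  decide +kernel

theorem mconn1_3 : checkConn TT mR1 41943 mw1 162359 50917 = true := by
  decide +kernel

theorem mconn1_4 : checkConn TT mR1 41943 mw1 213276 51035 = true := by
  decide +kernel

theorem mconn1_5 : checkConn TT mR1 41943 mw1 264311 42625 = true := by
  decide +kernel

theorem mcnt1_0 : countNZ mR1 0 77000 0 = 63007 := by
  decide +kernel

theorem mcnt1_1 : countNZ mR1 77000 77000 0 = 69406 := by
  decide +kernel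

theorem mcnt1_2 : countNZ mR1 154000 77000 0 = 73120 := by
  decide +kernel

theorem mcnt1_3 : countNZ mR1 231000 75936 0 = 69731 := by
  decide +kernel

theorem mconn1 : ConnOn TT mR1 41943 mw1 0 306936 := by
  have h0 := checkConn_sound TT mR1 41943 mw1 0 56288 mconn1_0
  have h1 := ConnOn.append TT h0 (checkConn_sound TT mR1 41943 mw1 56288 54563 mconn1_1)
  have h2 := ConnOn.append TT h1 (checkConn_sound TT mR1 41943 mw1 110851 51508 mconn1_2)
  have h3 := ConnOn.append TT h2 (checkConn_sound TT mR1 41943 mw1 162359 50917 mconn1_3)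
  have h4 := ConnOn.append TT h3 (checkConn_sound TT mR1 41943 mw1 213276 51035 mconn1_4)
  have h5 := ConnOn.append TT h4 (checkConn_sound TT mR1 41943 mw1 264311 42625 mconn1_5)
  exact h5

theorem mcount1 : cntSet mR1 0 306936 = 275264 := by
  have h0 : cntSet mR1 0 77000 = 63007 := cntSet_of_count mR1 0 77000 _ mcnt1_0
  have h1 : cntSet mR1 0 154000 = 132413 := cntSet_append mR1 0 77000 154000 63007 69406 (by norm_num) (by norm_num) h0 (cntSet_of_count mR1 77000 77000 _ mcnt1_1)
  have h2 : cntSet mR1 0 231000 = 205533 := cntSet_append mR1 0 154000 231000 132413 73120 (by norm_num) (by norm_num) h1 (cntSet_of_count mR1 154000 77000 _ mcnt1_2)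
  have h3 : cntSet mR1 0 306936 = 275264 := cntSet_append mR1 0 231000 306936 205533 69731 (by norm_num) (by norm_num) h2 (cntSet_of_count mR1 231000 75936 _ mcnt1_3)
  exact h3

end Cfsg.Agent.Lib.H17.Fi24Out
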