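import Cfsg.Agent.Lib.H17.Fi24Out.MR2

set_option autoImplicit false
set_option maxRecDepth 1000000

/-! # Level 2 of the chain `m`: base point 219159, orbit size 218400 (generated) -/

namespace Cfsg.Agent.Lib.H17.Fi24Out

open Cfsg.Agent.Lib.H17.CosetCert Cfsg.Agent.Lib.H17.Sgs Cfsg.Agent.Lib.H17.Sift
  Cfsg.Agent.Lib.H17.PermActs Cfsg.Agent.Lib.H6.PermTab Cfsg.Agent.Lib.H6.PermFast
  Cfsg.Agent.Lib.H17.GSift Cfsg.Agent.Lib.H17.Fi24S Cfsg.Agent.Lib.H6.FiIndex
  Cfsg.Agent.Lib.H17.OutChunks Cfsg.Agent.Lib.H17.OutTools Cfsg.Agent.Lib.H17.ConjTest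

attribute [local instance] finG

/-- the words of level 2 -/
def mw2 : List (List ℕ) :=
  [[7, 8, 7],
    [8, 9, 8],
    [10, 4, 5, 4, 10],
    [10, 5, 6, 5, 10],
    [4, 2, 3, 2, 4],
    [5, 4, 3, 2, 6, 5, 4, 7, 6, 5, 10, 11, 10, 5, 6, 7, 4, 5, 6, 2, 3, 4, 5]]

theorem mletters2 : ∀ w ∈ mw2, ∀ x ∈ w, x < 12 := by
  decide

theorem mfix2 : ∀ w ∈ mw2, ∀ c ∈ ([41943, 0] : List ℕ), applyW TT w c = c := by
  decide +kernel

theorem mconn2_0 : checkConn TT mR2 219159 mw2 0 23797 = true := by
  decide +kernel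

theorem mconn2_1 : checkConn TT mR2 219159 mw2 23797 22138 = true := by
  decide +kernel

theorem mconn2_2 : checkConn TT mR2 219159 mw2 45935 23344 = true := by
  decide +kernel

theorem mconn2_3 : checkConn TT mR2 219159 mw2 69279 23794 = true := by
  decide +kernel

theorem mconn2_4 : checkConn TT mR2 219159 mw2 93073 21623 = true := by
  decide +kernel

theorem mconn2_5 : checkConn TT mR2 219159 mw2 114696 21775 = true := by
  decide +kernel

theorem mconn2_6 : checkConn TT mR2 219159 mw2 136471 21763 = true := by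
  decide +kernel

theorem mconn2_7 : checkConn TT mR2 219159 mw2 158234 21693 = true := by
  decide +kernel

theorem mconn2_8 : checkConn TT mR2 219159 mw2 179927 21431 = true := by
  decide +kernel

theorem mconn2_9 : checkConn TT mR2 219159 mw2 201358 21037 = true := by
  decide +kernel

theorem mconn2_10 : checkConn TT mR2 219159 mw2 222395 20255 = true := by
  decide +kernel

theorem mconn2_11 : checkConn TT mR2 219159 mw2 242650 21190 = true := by
  decide +kernel

theorem mconn2_12 : checkConn TT mR2 219159 mw2 263840 20953 = true := by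
  decide +kernel

theorem mconn2_13 : checkConn TT mR2 219159 mw2 284793 22143 = true := by
  decide +kernel

theorem mcnt2_0 : countNZ mR2 0 77000 0 = 49887 := by
  decide +kernel

theorem mcnt2_1 : countNZ mR2 77000 77000 0 = 55092 := by
  decide +kernel

theorem mcnt2_2 : countNZ mR2 154000 77000 0 = 58140 := by
  decide +kernel

theorem mcnt2_3 : countNZ mR2 231000 75936 0 = 55281 := by
  decide +kernel

theorem mconn2 : ConnOn TT mR2 219159 mw2 0 306936 := by
  have h0 := checkConn_sound TT mR2 219159 mw2 0 23797 mconn2_0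
  have h1 := ConnOn.append TT h0 (checkConn_sound TT mR2 219159 mw2 23797 22138 mconn2_1)
  have h2 := ConnOn.append TT h1 (checkConn_sound TT mR2 219159 mw2 45935 23344 mconn2_2)
  have h3 := ConnOn.append TT h2 (checkConn_sound TT mR2 219159 mw2 69279 23794 mconn2_3)
  have h4 := ConnOn.append TT h3 (checkConn_sound TT mR2 219159 mw2 93073 21623 mconn2_4)
  have h5 := ConnOn.append TT h4 (checkConn_sound TT mR2 219159 mw2 114696 21775 mconn2_5)
  have h6 := ConnOn.append TT h5 (checkConn_sound TT mR2 219159 mw2 136471 21763 mconn2_6)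
  have h7 := ConnOn.append TT h6 (checkConn_sound TT mR2 219159 mw2 158234 21693 mconn2_7)
  have h8 := ConnOn.append TT h7 (checkConn_sound TT mR2 219159 mw2 179927 21431 mconn2_8)
  have h9 := ConnOn.append TT h8 (checkConn_sound TT mR2 219159 mw2 201358 21037 mconn2_9)
  have h10 := ConnOn.append TT h9 (checkConn_sound TT mR2 219159 mw2 222395 20255 mconn2_10)
  have h11 := ConnOn.append TT h10 (checkConn_sound TT mR2 219159 mw2 242650 21190 mconn2_11)
  have h12 := ConnOn.append TT h11 (checkConn_sound TT mR2 219159 mw2 263840 20953 mconn2_12)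
  have h13 := ConnOn.append TT h12 (checkConn_sound TT mR2 219159 mw2 284793 22143 mconn2_13)
  exact h13

theorem mcount2 : cntSet mR2 0 306936 = 218400 := by
  have h0 : cntSet mR2 0 77000 = 49887 := cntSet_of_count mR2 0 77000 _ mcnt2_0
  have h1 : cntSet mR2 0 154000 = 104979 := cntSet_append mR2 0 77000 154000 49887 55092 (by norm_num) (by norm_num) h0 (cntSet_of_count mR2 77000 77000 _ mcnt2_1)
  have h2 : cntSet mR2 0 231000 = 163119 := cntSet_append mR2 0 154000 231000 104979 58140 (by norm_num) (by norm_num) h1 (cntSet_of_count mR2 154000 77000 _ mcnt2_2)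
  have h3 : cntSet mR2 0 306936 = 218400 := cntSet_append mR2 0 231000 306936 163119 55281 (by norm_num) (by norm_num) h2 (cntSet_of_count mR2 231000 75936 _ mcnt2_3)
  exact h3

end Cfsg.Agent.Lib.H17.Fi24Out
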