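import Cfsg.Agent.Lib.H17.Fi24Out.MR3

set_option autoImplicit false
set_option maxRecDepth 1000000

/-! # Level 3 of the chain `m`: base point 256132, orbit size 93312 (generated) -/

namespace Cfsg.Agent.Lib.H17.Fi24Out

open Cfsg.Agent.Lib.H17.CosetCert Cfsg.Agent.Lib.H17.Sgs Cfsg.Agent.Lib.H17.Sift
  Cfsg.Agent.Lib.H17.PermActs Cfsg.Agent.Lib.H6.PermTab Cfsg.Agent.Lib.H6.PermFast
  Cfsg.Agent.Lib.H17.GSift Cfsg.Agent.Lib.H17.Fi24S Cfsg.Agent.Lib.H6.FiIndex
  Cfsg.Agent.Lib.H17.OutChunks Cfsg.Agent.Lib.H17.OutTools Cfsg.Agent.Lib.H17.ConjTest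

attribute [local instance] finG

/-- the words of level 3 -/
def mw3 : List (List ℕ) :=
  [[10, 4, 5, 4, 10],
    [10, 5, 6, 5, 10, 4, 2, 3, 2, 4, 5, 4, 3, 2, 6, 5, 4, 7, 6, 5, 10, 11, 10, 5, 6, 7, 4, 5, 6, 2, 3,
      4, 5, 4, 2, 3, 2, 4, 10, 5, 6, 5, 10],
    [7, 8, 7, 10, 5, 6, 5, 10, 7, 8, 7, 5, 4, 3, 2, 6, 5, 4, 7, 6, 5, 10, 11, 10, 5, 6, 7, 4, 5, 6, 2,
      3, 4, 5, 7, 8, 7, 10, 5, 6, 5, 10, 7, 8, 7],
    [7, 8, 7, 10, 5, 6, 5, 10, 7, 8, 7, 8, 9, 8, 4, 2, 3, 2, 4, 5, 4, 3, 2, 6, 5, 4, 7, 6, 5, 10, 11,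
      10, 5, 6, 7, 4, 5, 6, 2, 3, 4, 5, 4, 2, 3, 2, 4, 8, 9, 8, 7, 8, 7, 10, 5, 6, 5, 10, 7, 8, 7],
    [8, 9, 8, 7, 8, 7, 10, 5, 6, 5, 10, 4, 2, 3, 2, 4, 10, 5, 6, 5, 10, 5, 4, 3, 2, 6, 5, 4, 7, 6, 5,
      10, 11, 10, 5, 6, 7, 4, 5, 6, 2, 3, 4, 5, 10, 5, 6, 5, 10, 4, 2, 3, 2, 4, 10, 5, 6, 5, 10, 7,
      8, 7, 8, 9, 8]]

theorem mletters3 : ∀ w ∈ mw3, ∀ x ∈ w, x < 12 := by
  decide

theorem mfix3 : ∀ w ∈ mw3, ∀ c ∈ ([219159, 41943, 0] : List ℕ), applyW TT w c = c := by
  decide +kernel

theorem mconn3_0 : checkConn TT mR3 256132 mw3 0 11980 = true := by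
  decide +kernel

theorem mconn3_1 : checkConn TT mR3 256132 mw3 11980 10478 = true := by
  decide +kernel

theorem mconn3_2 : checkConn TT mR3 256132 mw3 22458 11605 = true := by
  decide +kernel

theorem mconn3_3 : checkConn TT mR3 256132 mw3 34063 10760 = true := by
  decide +kernel

theorem mconn3_4 : checkConn TT mR3 256132 mw3 44823 11048 = true := by
  decide +kernel

theorem mconn3_5 : checkConn TT mR3 256132 mw3 55871 11294 = true := by
  decide +kernel

theorem mconn3_6 : checkConn TT mR3 256132 mw3 67165 10920 = true := by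
  decide +kernel

theorem mconn3_7 : checkConn TT mR3 256132 mw3 78085 9942 = true := by
  decide +kernel

theorem mconn3_8 : checkConn TT mR3 256132 mw3 88027 11493 = true := by
  decide +kernel

theorem mconn3_9 : checkConn TT mR3 256132 mw3 99520 11020 = true := by
  decide +kernel

theorem mconn3_10 : checkConn TT mR3 256132 mw3 110540 9760 = true := by
  decide +kernel

theorem mconn3_11 : checkConn TT mR3 256132 mw3 120300 11016 = true := by
  decide +kernel

theorem mconn3_12 : checkConn TT mR3 256132 mw3 131316 9665 = true := by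
  decide +kernel

theorem mconn3_13 : checkConn TT mR3 256132 mw3 140981 10774 = true := by
  decide +kernel

theorem mconn3_14 : checkConn TT mR3 256132 mw3 151755 10165 = true := by
  decide +kernel

theorem mconn3_15 : checkConn TT mR3 256132 mw3 161920 10438 = true := by
  decide +kernel

theorem mconn3_16 : checkConn TT mR3 256132 mw3 172358 9441 = true := by
  decide +kernel

theorem mconn3_17 : checkConn TT mR3 256132 mw3 181799 9684 = true := by
  decide +kernel

theorem mconn3_18 : checkConn TT mR3 256132 mw3 191483 10241 = true := by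
  decide +kernel

theorem mconn3_19 : checkConn TT mR3 256132 mw3 201724 9895 = true := by
  decide +kernel

theorem mconn3_20 : checkConn TT mR3 256132 mw3 211619 10487 = true := by
  decide +kernel

theorem mconn3_21 : checkConn TT mR3 256132 mw3 222106 9468 = true := by
  decide +kernel

theorem mconn3_22 : checkConn TT mR3 256132 mw3 231574 9338 = true := by
  decide +kernel

theorem mconn3_23 : checkConn TT mR3 256132 mw3 240912 10076 = true := by
  decide +kernel

theorem mconn3_24 : checkConn TT mR3 256132 mw3 250988 9284 = true := by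
  decide +kernel

theorem mconn3_25 : checkConn TT mR3 256132 mw3 260272 10401 = true := by
  decide +kernel

theorem mconn3_26 : checkConn TT mR3 256132 mw3 270673 9399 = true := by
  decide +kernel

theorem mconn3_27 : checkConn TT mR3 256132 mw3 280072 10050 = true := by
  decide +kernel

theorem mconn3_28 : checkConn TT mR3 256132 mw3 290122 10448 = true := by
  decide +kernel

theorem mconn3_29 : checkConn TT mR3 256132 mw3 300570 6366 = true := by
  decide +kernel

theorem mcnt3_0 : countNZ mR3 0 77000 0 = 21381 := by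
  decide +kernel

theorem mcnt3_1 : countNZ mR3 77000 77000 0 = 23506 := by
  decide +kernel

theorem mcnt3_2 : countNZ mR3 154000 77000 0 = 24741 := by
  decide +kernel

theorem mcnt3_3 : countNZ mR3 231000 75936 0 = 23684 := by
  decide +kernel

theorem mconn3 : ConnOn TT mR3 256132 mw3 0 306936 := by
  have h0 := checkConn_sound TT mR3 256132 mw3 0 11980 mconn3_0
  have h1 := ConnOn.append TT h0 (checkConn_sound TT mR3 256132 mw3 11980 10478 mconn3_1)
  have h2 := ConnOn.append TT h1 (checkConn_sound TT mR3 256132 mw3 22458 11605 mconn3_2)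
  have h3 := ConnOn.append TT h2 (checkConn_sound TT mR3 256132 mw3 34063 10760 mconn3_3)
  have h4 := ConnOn.append TT h3 (checkConn_sound TT mR3 256132 mw3 44823 11048 mconn3_4)
  have h5 := ConnOn.append TT h4 (checkConn_sound TT mR3 256132 mw3 55871 11294 mconn3_5)
  have h6 := ConnOn.append TT h5 (checkConn_sound TT mR3 256132 mw3 67165 10920 mconn3_6)
  have h7 := ConnOn.append TT h6 (checkConn_sound TT mR3 256132 mw3 78085 9942 mconn3_7)
  have h8 := ConnOn.append TT h7 (checkConn_sound TT mR3 256132 mw3 88027 11493 mconn3_8)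
  have h9 := ConnOn.append TT h8 (checkConn_sound TT mR3 256132 mw3 99520 11020 mconn3_9)
  have h10 := ConnOn.append TT h9 (checkConn_sound TT mR3 256132 mw3 110540 9760 mconn3_10)
  have h11 := ConnOn.append TT h10 (checkConn_sound TT mR3 256132 mw3 120300 11016 mconn3_11)
  have h12 := ConnOn.append TT h11 (checkConn_sound TT mR3 256132 mw3 131316 9665 mconn3_12)
  have h13 := ConnOn.append TT h12 (checkConn_sound TT mR3 256132 mw3 140981 10774 mconn3_13)
  have h14 := ConnOn.append TT h13 (checkConn_sound TT mR3 256132 mw3 151755 10165 mconn3_14)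
  have h15 := ConnOn.append TT h14 (checkConn_sound TT mR3 256132 mw3 161920 10438 mconn3_15)
  have h16 := ConnOn.append TT h15 (checkConn_sound TT mR3 256132 mw3 172358 9441 mconn3_16)
  have h17 := ConnOn.append TT h16 (checkConn_sound TT mR3 256132 mw3 181799 9684 mconn3_17)
  have h18 := ConnOn.append TT h17 (checkConn_sound TT mR3 256132 mw3 191483 10241 mconn3_18)
  have h19 := ConnOn.append TT h18 (checkConn_sound TT mR3 256132 mw3 201724 9895 mconn3_19)
  have h20 := ConnOn.append TT h19 (checkConn_sound TT mR3 256132 mw3 211619 10487 mconn3_20)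
  have h21 := ConnOn.append TT h20 (checkConn_sound TT mR3 256132 mw3 222106 9468 mconn3_21)
  have h22 := ConnOn.append TT h21 (checkConn_sound TT mR3 256132 mw3 231574 9338 mconn3_22)
  have h23 := ConnOn.append TT h22 (checkConn_sound TT mR3 256132 mw3 240912 10076 mconn3_23)
  have h24 := ConnOn.append TT h23 (checkConn_sound TT mR3 256132 mw3 250988 9284 mconn3_24)
  have h25 := ConnOn.append TT h24 (checkConn_sound TT mR3 256132 mw3 260272 10401 mconn3_25)
  have h26 := ConnOn.append TT h25 (checkConn_sound TT mR3 256132 mw3 270673 9399 mconn3_26)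
  have h27 := ConnOn.append TT h26 (checkConn_sound TT mR3 256132 mw3 280072 10050 mconn3_27)
  have h28 := ConnOn.append TT h27 (checkConn_sound TT mR3 256132 mw3 290122 10448 mconn3_28)
  have h29 := ConnOn.append TT h28 (checkConn_sound TT mR3 256132 mw3 300570 6366 mconn3_29)
  exact h29

theorem mcount3 : cntSet mR3 0 306936 = 93312 := by
  have h0 : cntSet mR3 0 77000 = 21381 := cntSet_of_count mR3 0 77000 _ mcnt3_0
  have h1 : cntSet mR3 0 154000 = 44887 := cntSet_append mR3 0 77000 154000 21381 23506 (by norm_num) (by norm_num) h0 (cntSet_of_count mR3 77000 77000 _ mcnt3_1)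
  have h2 : cntSet mR3 0 231000 = 69628 := cntSet_append mR3 0 154000 231000 44887 24741 (by norm_num) (by norm_num) h1 (cntSet_of_count mR3 154000 77000 _ mcnt3_2)
  have h3 : cntSet mR3 0 306936 = 93312 := cntSet_append mR3 0 231000 306936 69628 23684 (by norm_num) (by norm_num) h2 (cntSet_of_count mR3 231000 75936 _ mcnt3_3)
  exact h3

end Cfsg.Agent.Lib.H17.Fi24Out
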