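import Cfsg.Agent.Lib.H17.Fi24Out.MR4

set_option autoImplicit false
set_option maxRecDepth 1000000

/-! # Level 4 of the chain `m`: base point 80460, orbit size 243 (generated) -/

namespace Cfsg.Agent.Lib.H17.Fi24Out

open Cfsg.Agent.Lib.H17.CosetCert Cfsg.Agent.Lib.H17.Sgs Cfsg.Agent.Lib.H17.Sift
  Cfsg.Agent.Lib.H17.PermActs Cfsg.Agent.Lib.H6.PermTab Cfsg.Agent.Lib.H6.PermFast
  Cfsg.Agent.Lib.H17.GSift Cfsg.Agent.Lib.H17.Fi24S Cfsg.Agent.Lib.H6.FiIndex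
  Cfsg.Agent.Lib.H17.OutChunks Cfsg.Agent.Lib.H17.OutTools Cfsg.Agent.Lib.H17.ConjTest

attribute [local instance] finG

/-- the words of level 4 -/
def mw4 : List (List ℕ) :=
  [[10, 4, 5, 4, 10, 7, 8, 7, 10, 5, 6, 5, 10, 7, 8, 7, 5, 4, 3, 2, 6, 5, 4, 7, 6, 5, 10, 11, 10, 5, 6,
      7, 4, 5, 6, 2, 3, 4, 5, 7, 8, 7, 10, 5, 6, 5, 10, 7, 8, 7, 10, 4, 5, 4, 10],
    [10, 5, 6, 5, 10, 4, 2, 3, 2, 4, 5, 4, 3, 2, 6, 5, 4, 7, 6, 5, 10, 11, 10, 5, 6, 7, 4, 5, 6, 2, 3,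
      4, 5, 4, 2, 3, 2, 4, 10, 5, 6, 5, 10, 7, 8, 7, 10, 5, 6, 5, 10, 7, 8, 7, 5, 4, 3, 2, 6, 5, 4,
      7, 6, 5, 10, 11, 10, 5, 6, 7, 4, 5, 6, 2, 3, 4, 5, 7, 8, 7, 10, 5, 6, 5, 10, 7, 8, 7, 10, 5,
      6, 5, 10, 4, 2, 3, 2, 4, 5, 4, 3, 2, 6, 5, 4, 7, 6, 5, 10, 11, 10, 5, 6, 7, 4, 5, 6, 2, 3, 4,
      5, 4, 2, 3, 2, 4, 10, 5, 6, 5, 10],
    [10, 5, 6, 5, 10, 4, 2, 3, 2, 4, 5, 4, 3, 2, 6, 5, 4, 7, 6, 5, 10, 11, 10, 5, 6, 7, 4, 5, 6, 2, 3,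
      4, 5, 4, 2, 3, 2, 4, 10, 5, 6, 5, 4, 5, 4, 10, 7, 8, 7, 10, 5, 6, 5, 10, 7, 8, 7, 8, 9, 8, 4,
      2, 3, 2, 4, 5, 4, 3, 2, 6, 5, 4, 7, 6, 5, 10, 11, 10, 5, 6, 7, 4, 5, 6, 2, 3, 4, 5, 4, 2, 3,
      2, 4, 8, 9, 8, 7, 8, 7, 10, 5, 6, 5, 10, 7, 8, 7, 10, 4, 5, 4, 5, 6, 5, 10, 4, 2, 3, 2, 4, 5,
      4, 3, 2, 6, 5, 4, 7, 6, 5, 10, 11, 10, 5, 6, 7, 4, 5, 6, 2, 3, 4, 5, 4, 2, 3, 2, 4, 10, 5, 6,
      5, 10],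
    [7, 8, 7, 10, 5, 6, 5, 10, 7, 8, 7, 5, 4, 3, 2, 6, 5, 4, 7, 6, 5, 10, 11, 10, 5, 6, 7, 4, 5, 6, 2,
      3, 4, 5, 7, 8, 7, 10, 5, 6, 5, 10, 7, 8, 7, 8, 9, 8, 7, 8, 7, 10, 5, 6, 5, 10, 4, 2, 3, 2, 4,
      10, 5, 6, 5, 10, 5, 4, 3, 2, 6, 5, 4, 7, 6, 5, 10, 11, 10, 5, 6, 7, 4, 5, 6, 2, 3, 4, 5, 10,
      5, 6, 5, 10, 4, 2, 3, 2, 4, 10, 5, 6, 5, 10, 7, 8, 7, 8, 9, 8, 7, 8, 7, 10, 5, 6, 5, 10, 7, 8,
      7, 5, 4, 3, 2, 6, 5, 4, 7, 6, 5, 10, 11, 10, 5, 6, 7, 4, 5, 6, 2, 3, 4, 5, 7, 8, 7, 10, 5, 6,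
      5, 10, 7, 8, 7]]

theorem mletters4 : ∀ w ∈ mw4, ∀ x ∈ w, x < 12 := by
  decide

theorem mfix4 : ∀ w ∈ mw4, ∀ c ∈ ([256132, 219159, 41943, 0] : List ℕ), applyW TT w c = c := by
  decide +kernel

theorem mconn4_0 : checkConn TT mR4 80460 mw4 0 210596 = true := by
  decide +kernel

theorem mconn4_1 : checkConn TT mR4 80460 mw4 210596 96340 = true := by
  decide +kernel

theorem mcnt4_0 : countNZ mR4 0 77000 0 = 104 := by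
  decide +kernel

theorem mcnt4_1 : countNZ mR4 77000 77000 0 = 70 := by
  decide +kernel

theorem mcnt4_2 : countNZ mR4 154000 77000 0 = 21 := by
  decide +kernel

theorem mcnt4_3 : countNZ mR4 231000 75936 0 = 48 := by
  decide +kernel

theorem mconn4 : ConnOn TT mR4 80460 mw4 0 306936 := by
  have h0 := checkConn_sound TT mR4 80460 mw4 0 210596 mconn4_0
  have h1 := ConnOn.append TT h0 (checkConn_sound TT mR4 80460 mw4 210596 96340 mconn4_1)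
  exact h1

theorem mcount4 : cntSet mR4 0 306936 = 243 := by
  have h0 : cntSet mR4 0 77000 = 104 := cntSet_of_count mR4 0 77000 _ mcnt4_0
  have h1 : cntSet mR4 0 154000 = 174 := cntSet_append mR4 0 77000 154000 104 70 (by norm_num) (by norm_num) h0 (cntSet_of_count mR4 77000 77000 _ mcnt4_1)
  have h2 : cntSet mR4 0 231000 = 195 := cntSet_append mR4 0 154000 231000 174 21 (by norm_num) (by norm_num) h1 (cntSet_of_count mR4 154000 77000 _ mcnt4_2)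
  have h3 : cntSet mR4 0 306936 = 243 := cntSet_append mR4 0 231000 306936 195 48 (by norm_num) (by norm_num) h2 (cntSet_of_count mR4 231000 75936 _ mcnt4_3)
  exact h3

end Cfsg.Agent.Lib.H17.Fi24Out
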