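import Cfsg.Agent.Lib.H17.Fi24Out.MR5

set_option autoImplicit false
set_option maxRecDepth 1000000

/-! # Level 5 of the chain `m`: base point 281531, orbit size 6 (generated) -/

namespace Cfsg.Agent.Lib.H17.Fi24Out

open Cfsg.Agent.Lib.H17.CosetCert Cfsg.Agent.Lib.H17.Sgs Cfsg.Agent.Lib.H17.Sift
  Cfsg.Agent.Lib.H17.PermActs Cfsg.Agent.Lib.H6.PermTab Cfsg.Agent.Lib.H6.PermFast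
  Cfsg.Agent.Lib.H17.GSift Cfsg.Agent.Lib.H17.Fi24S Cfsg.Agent.Lib.H6.FiIndex
  Cfsg.Agent.Lib.H17.OutChunks Cfsg.Agent.Lib.H17.OutTools Cfsg.Agent.Lib.H17.ConjTest

attribute [local instance] finG

/-- the words of level 5 -/
def mw5 : List (List ℕ) :=
  [[10, 4, 5, 4, 10, 7, 8, 7, 10, 5, 6, 5, 10, 7, 8, 7, 5, 4, 3, 2, 6, 5, 4, 7, 6, 5, 10, 11, 10, 5, 6,
      7, 4, 5, 6, 2, 3, 4, 5, 7, 8, 7, 10, 5, 6, 5, 10, 7, 8, 7, 10, 4, 5, 4, 5, 6, 5, 10, 4, 2, 3,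
      2, 4, 5, 4, 3, 2, 6, 5, 4, 7, 6, 5, 10, 11, 10, 5, 6, 7, 4, 5, 6, 2, 3, 4, 5, 4, 2, 3, 2, 4,
      10, 5, 6, 5, 10, 7, 8, 7, 10, 5, 6, 5, 10, 7, 8, 7, 5, 4, 3, 2, 6, 5, 4, 7, 6, 5, 10, 11, 10,
      5, 6, 7, 4, 5, 6, 2, 3, 4, 5, 7, 8, 7, 10, 5, 6, 5, 10, 7, 8, 7, 10, 4, 5, 4, 10, 7, 8, 7, 10,
      5, 6, 5, 10, 7, 8, 7, 8, 9, 8, 4, 2, 3, 2, 4, 5, 4, 3, 2, 6, 5, 4, 7, 6, 5, 10, 11, 10, 5, 6,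
      7, 4, 5, 6, 2, 3, 4, 5, 4, 2, 3, 2, 4, 8, 9, 8, 7, 8, 7, 10, 5, 6, 5, 10, 7, 8, 7, 10, 4, 5,
      4, 10, 7, 8, 7, 10, 5, 6, 5, 10, 7, 8, 7, 5, 4, 3, 2, 6, 5, 4, 7, 6, 5, 10, 11, 10, 5, 6, 7,
      4, 5, 6, 2, 3, 4, 5, 7, 8, 7, 10, 5, 6, 5, 10, 7, 8, 7, 10, 5, 6, 5, 10, 4, 2, 3, 2, 4, 5, 4,
      3, 2, 6, 5, 4, 7, 6, 5, 10, 11, 10, 5, 6, 7, 4, 5, 6, 2, 3, 4, 5, 4, 2, 3, 2, 4, 10, 5, 6, 5,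
      4, 5, 4, 10, 7, 8, 7, 10, 5, 6, 5, 10, 7, 8, 7, 5, 4, 3, 2, 6, 5, 4, 7, 6, 5, 10, 11, 10, 5,
      6, 7, 4, 5, 6, 2, 3, 4, 5, 7, 8, 7, 10, 5, 6, 5, 10, 7, 8, 7, 10, 4, 5, 4, 10],
    [7, 8, 7, 10, 5, 6, 5, 10, 7, 8, 7, 5, 4, 3, 2, 6, 5, 4, 7, 6, 5, 10, 11, 10, 5, 6, 7, 4, 5, 6, 2,
      3, 4, 5, 7, 8, 7, 10, 5, 6, 5, 10, 7, 8, 7, 8, 9, 8, 7, 8, 7, 10, 5, 6, 5, 10, 4, 2, 3, 2, 4,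
      10, 5, 6, 5, 10, 5, 4, 3, 2, 6, 5, 4, 7, 6, 5, 10, 11, 10, 5, 6, 7, 4, 5, 6, 2, 3, 4, 5, 10,
      5, 6, 5, 10, 4, 2, 3, 2, 4, 10, 5, 6, 5, 10, 7, 8, 7, 8, 9, 8, 7, 8, 7, 10, 5, 6, 5, 10, 7, 8,
      7, 5, 4, 3, 2, 6, 5, 4, 7, 6, 5, 10, 11, 10, 5, 6, 7, 4, 5, 6, 2, 3, 4, 5, 7, 8, 7, 10, 5, 6,
      5, 10, 7, 8, 7, 10, 5, 6, 5, 10, 4, 2, 3, 2, 4, 5, 4, 3, 2, 6, 5, 4, 7, 6, 5, 10, 11, 10, 5,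
      6, 7, 4, 5, 6, 2, 3, 4, 5, 4, 2, 3, 2, 4, 10, 5, 6, 5, 10, 7, 8, 7, 10, 5, 6, 5, 10, 7, 8, 7,
      5, 4, 3, 2, 6, 5, 4, 7, 6, 5, 10, 11, 10, 5, 6, 7, 4, 5, 6, 2, 3, 4, 5, 7, 8, 7, 10, 5, 6, 5,
      10, 7, 8, 7, 10, 4, 5, 4, 10, 7, 8, 7, 10, 5, 6, 5, 10, 7, 8, 7, 8, 9, 8, 4, 2, 3, 2, 4, 5, 4,
      3, 2, 6, 5, 4, 7, 6, 5, 10, 11, 10, 5, 6, 7, 4, 5, 6, 2, 3, 4, 5, 4, 2, 3, 2, 4, 8, 9, 8, 7,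
      8, 7, 10, 5, 6, 5, 10, 7, 8, 7, 10, 4, 5, 4, 10, 7, 8, 7, 10, 5, 6, 5, 10, 7, 8, 7, 5, 4, 3,
      2, 6, 5, 4, 7, 6, 5, 10, 11, 10, 5, 6, 7, 4, 5, 6, 2, 3, 4, 5, 7, 8, 7, 10, 5, 6, 5, 10, 7, 8,
      7, 10, 5, 6, 5, 10, 4, 2, 3, 2, 4, 5, 4, 3, 2, 6, 5, 4, 7, 6, 5, 10, 11, 10, 5, 6, 7, 4, 5, 6,
      2, 3, 4, 5, 4, 2, 3, 2, 4, 10, 5, 6, 5, 10, 7, 8, 7, 10, 5, 6, 5, 10, 7, 8, 7, 5, 4, 3, 2, 6,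
      5, 4, 7, 6, 5, 10, 11, 10, 5, 6, 7, 4, 5, 6, 2, 3, 4, 5, 7, 8, 7, 10, 5, 6, 5, 10, 7, 8, 7, 8,
      9, 8, 7, 8, 7, 10, 5, 6, 5, 10, 4, 2, 3, 2, 4, 10, 5, 6, 5, 10, 5, 4, 3, 2, 6, 5, 4, 7, 6, 5,
      10, 11, 10, 5, 6, 7, 4, 5, 6, 2, 3, 4, 5, 10, 5, 6, 5, 10, 4, 2, 3, 2, 4, 10, 5, 6, 5, 10, 7,
      8, 7, 8, 9, 8, 7, 8, 7, 10, 5, 6, 5, 10, 7, 8, 7, 5, 4, 3, 2, 6, 5, 4, 7, 6, 5, 10, 11, 10, 5,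
      6, 7, 4, 5, 6, 2, 3, 4, 5, 7, 8, 7, 10, 5, 6, 5, 10, 7, 8, 7]]

theorem mletters5 : ∀ w ∈ mw5, ∀ x ∈ w, x < 12 := by
  decide

theorem mfix5 : ∀ w ∈ mw5, ∀ c ∈ ([80460, 256132, 219159, 41943, 0] : List ℕ), applyW TT w c = c := by
  decide +kernel

theorem mconn5_0 : checkConn TT mR5 281531 mw5 0 247468 = true := by
  decide +kernel

theorem mconn5_1 : checkConn TT mR5 281531 mw5 247468 59468 = true := by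
  decide +kernel

theorem mcnt5_0 : countNZ mR5 0 77000 0 = 1 := by
  decide +kernel

theorem mcnt5_1 : countNZ mR5 77000 77000 0 = 2 := by
  decide +kernel

theorem mcnt5_2 : countNZ mR5 154000 77000 0 = 1 := by
  decide +kernel

theorem mcnt5_3 : countNZ mR5 231000 75936 0 = 2 := by
  decide +kernel

theorem mconn5 : ConnOn TT mR5 281531 mw5 0 306936 := by
  have h0 := checkConn_sound TT mR5 281531 mw5 0 247468 mconn5_0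
  have h1 := ConnOn.append TT h0 (checkConn_sound TT mR5 281531 mw5 247468 59468 mconn5_1)
  exact h1

theorem mcount5 : cntSet mR5 0 306936 = 6 := by
  have h0 : cntSet mR5 0 77000 = 1 := cntSet_of_count mR5 0 77000 _ mcnt5_0
  have h1 : cntSet mR5 0 154000 = 3 := cntSet_append mR5 0 77000 154000 1 2 (by norm_num) (by norm_num) h0 (cntSet_of_count mR5 77000 77000 _ mcnt5_1)
  have h2 : cntSet mR5 0 231000 = 4 := cntSet_append mR5 0 154000 231000 3 1 (by norm_num) (by norm_num) h1 (cntSet_of_count mR5 154000 77000 _ mcnt5_2)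
  have h3 : cntSet mR5 0 306936 = 6 := cntSet_append mR5 0 231000 306936 4 2 (by norm_num) (by norm_num) h2 (cntSet_of_count mR5 231000 75936 _ mcnt5_3)
  exact h3

end Cfsg.Agent.Lib.H17.Fi24Out
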