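import Cfsg.Agent.Lib.H17.Fi24Out.ML0
import Cfsg.Agent.Lib.H17.Fi24Out.ML1
import Cfsg.Agent.Lib.H17.Fi24Out.ML2
import Cfsg.Agent.Lib.H17.Fi24Out.ML3
import Cfsg.Agent.Lib.H17.Fi24Out.ML4
import Cfsg.Agent.Lib.H17.Fi24Out.ML5

set_option autoImplicit false
set_option maxRecDepth 1000000

/-! # A chain of stabilisers for Fi24 whose base is part of a cycle of an element of order 14 (generated) -/

namespace Cfsg.Agent.Lib.H17.Fi24Out

open Cfsg.Agent.Lib.H17.CosetCert Cfsg.Agent.Lib.H17.Sgs Cfsg.Agent.Lib.H17.Sift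
  Cfsg.Agent.Lib.H17.PermActs Cfsg.Agent.Lib.H6.PermTab Cfsg.Agent.Lib.H6.PermFast
  Cfsg.Agent.Lib.H17.GSift Cfsg.Agent.Lib.H17.Fi24S Cfsg.Agent.Lib.H6.FiIndex
  Cfsg.Agent.Lib.H17.OutChunks Cfsg.Agent.Lib.H17.OutTools Cfsg.Agent.Lib.H17.ConjTest

attribute [local instance] finG

theorem mreach0 : ∀ i : Fin n, mR0 i ≠ 0 → ∃ g ∈ stabL phi ([] : List ℕ), phi g ⟨0, by norm_num⟩ = i :=
  reach lettersOK ([] : List ℕ) 0 (by norm_num) mR0 mw0 mletters0 mfix0 mconn0

theorem mlevel0 : 306936 * Nat.card (stabL phi ([0] : List ℕ)) ≤ Nat.card (stabL phi ([] : List ℕ)) :=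
  level_le ([] : List ℕ) 0 (by norm_num) mR0 306936 mreach0 mcount0

theorem mreach1 : ∀ i : Fin n, mR1 i ≠ 0 → ∃ g ∈ stabL phi ([0] : List ℕ), phi g ⟨41943, by norm_num⟩ = i :=
  reach lettersOK ([0] : List ℕ) 41943 (by norm_num) mR1 mw1 mletters1 mfix1 mconn1

theorem mlevel1 : 275264 * Nat.card (stabL phi ([41943, 0] : List ℕ)) ≤ Nat.card (stabL phi ([0] : List ℕ)) :=
  level_le ([0] : List ℕ) 41943 (by norm_num) mR1 275264 mreach1 mcount1

theorem mreach2 : ∀ i : Fin n, mR2 i ≠ 0 → ∃ g ∈ stabL phi ([41943, 0] : List ℕ), phi g ⟨219159, by norm_num⟩ = i :=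
  reach lettersOK ([41943, 0] : List ℕ) 219159 (by norm_num) mR2 mw2 mletters2 mfix2 mconn2

theorem mlevel2 : 218400 * Nat.card (stabL phi ([219159, 41943, 0] : List ℕ)) ≤ Nat.card (stabL phi ([41943, 0] : List ℕ)) :=
  level_le ([41943, 0] : List ℕ) 219159 (by norm_num) mR2 218400 mreach2 mcount2

theorem mreach3 : ∀ i : Fin n, mR3 i ≠ 0 → ∃ g ∈ stabL phi ([219159, 41943, 0] : List ℕ), phi g ⟨256132, by norm_num⟩ = i :=
  reach lettersOK ([219159, 41943, 0] : List ℕ) 256132 (by norm_num) mR3 mw3 mletters3 mfix3 mconn3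

theorem mlevel3 : 93312 * Nat.card (stabL phi ([256132, 219159, 41943, 0] : List ℕ)) ≤ Nat.card (stabL phi ([219159, 41943, 0] : List ℕ)) :=
  level_le ([219159, 41943, 0] : List ℕ) 256132 (by norm_num) mR3 93312 mreach3 mcount3

theorem mreach4 : ∀ i : Fin n, mR4 i ≠ 0 → ∃ g ∈ stabL phi ([256132, 219159, 41943, 0] : List ℕ), phi g ⟨80460, by norm_num⟩ = i :=
  reach lettersOK ([256132, 219159, 41943, 0] : List ℕ) 80460 (by norm_num) mR4 mw4 mletters4 mfix4 mconn4

theorem mlevel4 : 243 * Nat.card (stabL phi ([80460, 256132, 219159, 41943, 0] : List ℕ)) ≤ Nat.card (stabL phi ([256132, 219159, 41943, 0] : List ℕ)) :=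
  level_le ([256132, 219159, 41943, 0] : List ℕ) 80460 (by norm_num) mR4 243 mreach4 mcount4

theorem mreach5 : ∀ i : Fin n, mR5 i ≠ 0 → ∃ g ∈ stabL phi ([80460, 256132, 219159, 41943, 0] : List ℕ), phi g ⟨281531, by norm_num⟩ = i :=
  reach lettersOK ([80460, 256132, 219159, 41943, 0] : List ℕ) 281531 (by norm_num) mR5 mw5 mletters5 mfix5 mconn5

theorem mlevel5 : 6 * Nat.card (stabL phi ([281531, 80460, 256132, 219159, 41943, 0] : List ℕ)) ≤ Nat.card (stabL phi ([80460, 256132, 219159, 41943, 0] : List ℕ)) :=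
  level_le ([80460, 256132, 219159, 41943, 0] : List ℕ) 281531 (by norm_num) mR5 6 mreach5 mcount5

theorem mcards : Nat.card (stabL phi ([0] : List ℕ)) = 8178940946586009600 ∧
    Nat.card (stabL phi ([41943, 0] : List ℕ)) = 29713078886400 ∧
    Nat.card (stabL phi ([219159, 41943, 0] : List ℕ)) = 136048896 ∧
    Nat.card (stabL phi ([256132, 219159, 41943, 0] : List ℕ)) = 1458 ∧
    Nat.card (stabL phi ([80460, 256132, 219159, 41943, 0] : List ℕ)) = 6 ∧
    Nat.card (stabL phi ([281531, 80460, 256132, 219159, 41943, 0] : List ℕ)) = 1 := by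
  have h0 := mlevel0
  have h1 := mlevel1
  have h2 := mlevel2
  have h3 := mlevel3
  have h4 := mlevel4
  have h5 := mlevel5
  have hl : 1 ≤ Nat.card (stabL phi ([281531, 80460, 256132, 219159, 41943, 0] : List ℕ)) := one_le_card phi _
  rw [card_stabL_nil, card_G] at h0
  omega

theorem morb0 : ∀ g ∈ stabL phi ([] : List ℕ), mR0 (pt phi g 0) ≠ 0 := by
  apply orbit_subset ([] : List ℕ) 0 (by norm_num) mR0 306936 mreach0 mcount0
  have hc := mcards
  rw [card_stabL_nil, card_G]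
  omega

theorem morb1 : ∀ g ∈ stabL phi ([0] : List ℕ), mR1 (pt phi g 41943) ≠ 0 := by
  apply orbit_subset ([0] : List ℕ) 41943 (by norm_num) mR1 275264 mreach1 mcount1
  have hc := mcards
  omega

theorem morb2 : ∀ g ∈ stabL phi ([41943, 0] : List ℕ), mR2 (pt phi g 219159) ≠ 0 := by
  apply orbit_subset ([41943, 0] : List ℕ) 219159 (by norm_num) mR2 218400 mreach2 mcount2
  have hc := mcards
  omega

theorem morb3 : ∀ g ∈ stabL phi ([219159, 41943, 0] : List ℕ), mR3 (pt phi g 256132) ≠ 0 := by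
  apply orbit_subset ([219159, 41943, 0] : List ℕ) 256132 (by norm_num) mR3 93312 mreach3 mcount3
  have hc := mcards
  omega

theorem morb4 : ∀ g ∈ stabL phi ([256132, 219159, 41943, 0] : List ℕ), mR4 (pt phi g 80460) ≠ 0 := by
  apply orbit_subset ([256132, 219159, 41943, 0] : List ℕ) 80460 (by norm_num) mR4 243 mreach4 mcount4
  have hc := mcards
  omega

theorem morb5 : ∀ g ∈ stabL phi ([80460, 256132, 219159, 41943, 0] : List ℕ), mR5 (pt phi g 281531) ≠ 0 := by
  apply orbit_subset ([80460, 256132, 219159, 41943, 0] : List ℕ) 281531 (by norm_num) mR5 6 mreach5 mcount5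
  have hc := mcards
  omega

/-- level 0 -/
noncomputable def mL0 : GLvl := ⟨0, mR0, mw0⟩

/-- level 1 -/
noncomputable def mL1 : GLvl := ⟨41943, mR1, mw1⟩

/-- level 2 -/
noncomputable def mL2 : GLvl := ⟨219159, mR2, mw2⟩

/-- level 3 -/
noncomputable def mL3 : GLvl := ⟨256132, mR3, mw3⟩

/-- level 4 -/
noncomputable def mL4 : GLvl := ⟨80460, mR4, mw4⟩

/-- level 5 -/
noncomputable def mL5 : GLvl := ⟨281531, mR5, mw5⟩

/-- the levels -/
noncomputable def mLs : List GLvl := [mL0, mL1, mL2, mL3, mL4, mL5]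

theorem mchain : ChainOK TT phi 12 [] mLs :=
  ⟨⟨show (0 : ℕ) < 306936 by norm_num, mletters0, mfix0, morb0⟩,
   ⟨show (41943 : ℕ) < 306936 by norm_num, mletters1, mfix1, morb1⟩,
   ⟨show (219159 : ℕ) < 306936 by norm_num, mletters2, mfix2, morb2⟩,
   ⟨show (256132 : ℕ) < 306936 by norm_num, mletters3, mfix3, morb3⟩,
   ⟨show (80460 : ℕ) < 306936 by norm_num, mletters4, mfix4, morb4⟩,
   ⟨show (281531 : ℕ) < 306936 by norm_num, mletters5, mfix5, morb5⟩, trivial⟩

theorem misBase : IsBase phi ([281531, 80460, 256132, 219159, 41943, 0] : List ℕ) :=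
  isBase_of_card phi _ mcards.2.2.2.2.2

end Cfsg.Agent.Lib.H17.Fi24Out
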