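import Cfsg.Agent.Lib.H17.Fi24Out.KR1

set_option autoImplicit false
set_option maxRecDepth 1000000

/-! # Level 1 of the chain `k`: base point 283, orbit size 31671 (generated) -/

namespace Cfsg.Agent.Lib.H17.Fi24Out

open Cfsg.Agent.Lib.H17.CosetCert Cfsg.Agent.Lib.H17.Sgs Cfsg.Agent.Lib.H17.Sift
  Cfsg.Agent.Lib.H17.PermActs Cfsg.Agent.Lib.H6.PermTab Cfsg.Agent.Lib.H6.PermFast
  Cfsg.Agent.Lib.H17.GSift Cfsg.Agent.Lib.H17.Fi24S Cfsg.Agent.Lib.H6.FiIndex
  Cfsg.Agent.Lib.H17.OutChunks Cfsg.Agent.Lib.H17.OutTools Cfsg.Agent.Lib.H17.ConjTest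

attribute [local instance] finG

/-- the words of level 1 -/
def kw1 : List (List ℕ) :=
  [[2],
    [3],
    [4],
    [5],
    [6],
    [7],
    [8],
    [9],
    [10],
    [11]]

theorem kletters1 : ∀ w ∈ kw1, ∀ x ∈ w, x < 12 := by
  decide

theorem kfix1 : ∀ w ∈ kw1, ∀ c ∈ ([0] : List ℕ), applyW TT w c = c := by
  decide +kernel

theorem kconn1_0 : checkConn TT kR1 283 kw1 0 153160 = true := by
  decide +kernel

theorem kconn1_1 : checkConn TT kR1 283 kw1 153160 153776 = true := by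
  decide +kernel

theorem kcnt1_0 : countNZ kR1 0 77000 0 = 13992 := by
  decide +kernel

theorem kcnt1_1 : countNZ kR1 77000 77000 0 = 7594 := by
  decide +kernel

theorem kcnt1_2 : countNZ kR1 154000 77000 0 = 3880 := by
  decide +kernel

theorem kcnt1_3 : countNZ kR1 231000 75936 0 = 6205 := by
  decide +kernel

theorem kconn1 : ConnOn TT kR1 283 kw1 0 306936 := by
  have h0 := checkConn_sound TT kR1 283 kw1 0 153160 kconn1_0
  have h1 := ConnOn.append TT h0 (checkConn_sound TT kR1 283 kw1 153160 153776 kconn1_1)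
  exact h1

theorem kcount1 : cntSet kR1 0 306936 = 31671 := by
  have h0 : cntSet kR1 0 77000 = 13992 := cntSet_of_count kR1 0 77000 _ kcnt1_0
  have h1 : cntSet kR1 0 154000 = 21586 := cntSet_append kR1 0 77000 154000 13992 7594 (by norm_num) (by norm_num) h0 (cntSet_of_count kR1 77000 77000 _ kcnt1_1)
  have h2 : cntSet kR1 0 231000 = 25466 := cntSet_append kR1 0 154000 231000 21586 3880 (by norm_num) (by norm_num) h1 (cntSet_of_count kR1 154000 77000 _ kcnt1_2)
  have h3 : cntSet kR1 0 306936 = 31671 := cntSet_append kR1 0 231000 306936 25466 6205 (by norm_num) (by norm_num) h2 (cntSet_of_count kR1 231000 75936 _ kcnt1_3)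
  exact h3

end Cfsg.Agent.Lib.H17.Fi24Out
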