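import Cfsg.Agent.Lib.H17.Fi24Out.KR2

set_option autoImplicit false
set_option maxRecDepth 1000000

/-! # Level 2 of the chain `k`: base point 8026, orbit size 3510 (generated) -/

namespace Cfsg.Agent.Lib.H17.Fi24Out

open Cfsg.Agent.Lib.H17.CosetCert Cfsg.Agent.Lib.H17.Sgs Cfsg.Agent.Lib.H17.Sift
  Cfsg.Agent.Lib.H17.PermActs Cfsg.Agent.Lib.H6.PermTab Cfsg.Agent.Lib.H6.PermFast
  Cfsg.Agent.Lib.H17.GSift Cfsg.Agent.Lib.H17.Fi24S Cfsg.Agent.Lib.H6.FiIndex
  Cfsg.Agent.Lib.H17.OutChunks Cfsg.Agent.Lib.H17.OutTools Cfsg.Agent.Lib.H17.ConjTest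

attribute [local instance] finG

/-- the words of level 2 -/
def kw2 : List (List ℕ) :=
  [[7],
    [9],
    [2, 3, 2],
    [3, 4, 3],
    [4, 5, 4],
    [5, 6, 5],
    [10, 11, 10],
    [6, 7, 8, 7, 6],
    [6, 4, 5, 10, 5, 4, 6]]

theorem kletters2 : ∀ w ∈ kw2, ∀ x ∈ w, x < 12 := by
  decide

theorem kfix2 : ∀ w ∈ kw2, ∀ c ∈ ([283, 0] : List ℕ), applyW TT w c = c := by
  decide +kernel

theorem kconn2_0 : checkConn TT kR2 8026 kw2 0 226764 = true := by
  decide +kernel

theorem kconn2_1 : checkConn TT kR2 8026 kw2 226764 80172 = true := by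
  decide +kernel

theorem kcnt2_0 : countNZ kR2 0 77000 0 = 2027 := by
  decide +kernel

theorem kcnt2_1 : countNZ kR2 77000 77000 0 = 783 := by
  decide +kernel

theorem kcnt2_2 : countNZ kR2 154000 77000 0 = 319 := by
  decide +kernel

theorem kcnt2_3 : countNZ kR2 231000 75936 0 = 381 := by
  decide +kernel

theorem kconn2 : ConnOn TT kR2 8026 kw2 0 306936 := by
  have h0 := checkConn_sound TT kR2 8026 kw2 0 226764 kconn2_0
  have h1 := ConnOn.append TT h0 (checkConn_sound TT kR2 8026 kw2 226764 80172 kconn2_1)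
  exact h1

theorem kcount2 : cntSet kR2 0 306936 = 3510 := by
  have h0 : cntSet kR2 0 77000 = 2027 := cntSet_of_count kR2 0 77000 _ kcnt2_0
  have h1 : cntSet kR2 0 154000 = 2810 := cntSet_append kR2 0 77000 154000 2027 783 (by norm_num) (by norm_num) h0 (cntSet_of_count kR2 77000 77000 _ kcnt2_1)
  have h2 : cntSet kR2 0 231000 = 3129 := cntSet_append kR2 0 154000 231000 2810 319 (by norm_num) (by norm_num) h1 (cntSet_of_count kR2 154000 77000 _ kcnt2_2)
  have h3 : cntSet kR2 0 306936 = 3510 := cntSet_append kR2 0 231000 306936 3129 381 (by norm_num) (by norm_num) h2 (cntSet_of_count kR2 231000 75936 _ kcnt2_3)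
  exact h3

end Cfsg.Agent.Lib.H17.Fi24Out
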