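import Cfsg.Agent.Lib.H17.Fi24Out.KR3

set_option autoImplicit false
set_option maxRecDepth 1000000

/-! # Level 3 of the chain `k`: base point 11021, orbit size 693 (generated) -/

namespace Cfsg.Agent.Lib.H17.Fi24Out

open Cfsg.Agent.Lib.H17.CosetCert Cfsg.Agent.Lib.H17.Sgs Cfsg.Agent.Lib.H17.Sift
  Cfsg.Agent.Lib.H17.PermActs Cfsg.Agent.Lib.H6.PermTab Cfsg.Agent.Lib.H6.PermFast
  Cfsg.Agent.Lib.H17.GSift Cfsg.Agent.Lib.H17.Fi24S Cfsg.Agent.Lib.H6.FiIndex
  Cfsg.Agent.Lib.H17.OutChunks Cfsg.Agent.Lib.H17.OutTools Cfsg.Agent.Lib.H17.ConjTest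

attribute [local instance] finG

/-- the words of level 3 -/
def kw3 : List (List ℕ) :=
  [[9],
    [3, 4, 3],
    [4, 5, 4],
    [6, 7, 8, 7, 6],
    [7, 5, 6, 5, 7],
    [7, 6, 4, 5, 10, 5, 4, 6, 7],
    [5, 6, 5, 10, 11, 10, 5, 6, 5],
    [10, 11, 10, 4, 5, 4, 2, 3, 2, 6, 4, 5, 10, 5, 4, 6, 2, 3, 2, 4, 5, 4, 10, 11, 10]]

theorem kletters3 : ∀ w ∈ kw3, ∀ x ∈ w, x < 12 := by
  decide

theorem kfix3 : ∀ w ∈ kw3, ∀ c ∈ ([8026, 283, 0] : List ℕ), applyW TT w c = c := by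
  decide +kernel

theorem kconn3_0 : checkConn TT kR3 11021 kw3 0 242874 = true := by
  decide +kernel

theorem kconn3_1 : checkConn TT kR3 11021 kw3 242874 64062 = true := by
  decide +kernel

theorem kcnt3_0 : countNZ kR3 0 77000 0 = 403 := by
  decide +kernel

theorem kcnt3_1 : countNZ kR3 77000 77000 0 = 175 := by
  decide +kernel

theorem kcnt3_2 : countNZ kR3 154000 77000 0 = 78 := by
  decide +kernel

theorem kcnt3_3 : countNZ kR3 231000 75936 0 = 37 := by
  decide +kernel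

theorem kconn3 : ConnOn TT kR3 11021 kw3 0 306936 := by
  have h0 := checkConn_sound TT kR3 11021 kw3 0 242874 kconn3_0
  have h1 := ConnOn.append TT h0 (checkConn_sound TT kR3 11021 kw3 242874 64062 kconn3_1)
  exact h1

theorem kcount3 : cntSet kR3 0 306936 = 693 := by
  have h0 : cntSet kR3 0 77000 = 403 := cntSet_of_count kR3 0 77000 _ kcnt3_0
  have h1 : cntSet kR3 0 154000 = 578 := cntSet_append kR3 0 77000 154000 403 175 (by norm_num) (by norm_num) h0 (cntSet_of_count kR3 77000 77000 _ kcnt3_1)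
  have h2 : cntSet kR3 0 231000 = 656 := cntSet_append kR3 0 154000 231000 578 78 (by norm_num) (by norm_num) h1 (cntSet_of_count kR3 154000 77000 _ kcnt3_2)
  have h3 : cntSet kR3 0 306936 = 693 := cntSet_append kR3 0 231000 306936 656 37 (by norm_num) (by norm_num) h2 (cntSet_of_count kR3 231000 75936 _ kcnt3_3)
  exact h3

end Cfsg.Agent.Lib.H17.Fi24Out
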