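import Cfsg.Agent.Lib.H17.Fi24Out.KR4

set_option autoImplicit false
set_option maxRecDepth 1000000

/-! # Level 4 of the chain `k`: base point 161738, orbit size 512 (generated) -/

namespace Cfsg.Agent.Lib.H17.Fi24Out

open Cfsg.Agent.Lib.H17.CosetCert Cfsg.Agent.Lib.H17.Sgs Cfsg.Agent.Lib.H17.Sift
  Cfsg.Agent.Lib.H17.PermActs Cfsg.Agent.Lib.H6.PermTab Cfsg.Agent.Lib.H6.PermFast
  Cfsg.Agent.Lib.H17.GSift Cfsg.Agent.Lib.H17.Fi24S Cfsg.Agent.Lib.H6.FiIndex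
  Cfsg.Agent.Lib.H17.OutChunks Cfsg.Agent.Lib.H17.OutTools Cfsg.Agent.Lib.H17.ConjTest

attribute [local instance] finG

/-- the words of level 4 -/
def kw4 : List (List ℕ) :=
  [[7, 5, 6, 5, 7],
    [9, 6, 7, 8, 7, 6, 9],
    [7, 6, 4, 5, 10, 5, 4, 6, 7],
    [4, 5, 4, 6, 7, 8, 7, 6, 4, 5, 4],
    [3, 4, 3, 5, 6, 5, 10, 11, 10, 5, 6, 5, 3, 4, 3],
    [5, 6, 5, 10, 11, 10, 5, 6, 5, 4, 5, 4, 6, 7, 8, 7, 6, 10, 11, 10, 4, 5, 4, 2, 3, 2, 6, 4, 5, 10, 5,
      4, 6, 2, 3, 2, 4, 5, 4, 10, 11, 10, 6, 7, 8, 7, 6, 4, 5, 4, 5, 6, 5, 10, 11, 10, 5, 6, 5]]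

theorem kletters4 : ∀ w ∈ kw4, ∀ x ∈ w, x < 12 := by
  decide

theorem kfix4 : ∀ w ∈ kw4, ∀ c ∈ ([11021, 8026, 283, 0] : List ℕ), applyW TT w c = c := by
  decide +kernel

theorem kconn4_0 : checkConn TT kR4 161738 kw4 0 240128 = true := by
  decide +kernel

theorem kconn4_1 : checkConn TT kR4 161738 kw4 240128 66808 = true := by
  decide +kernel

theorem kcnt4_0 : countNZ kR4 0 77000 0 = 132 := by
  decide +kernel

theorem kcnt4_1 : countNZ kR4 77000 77000 0 = 114 := by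
  decide +kernel

theorem kcnt4_2 : countNZ kR4 154000 77000 0 = 131 := by
  decide +kernel

theorem kcnt4_3 : countNZ kR4 231000 75936 0 = 135 := by
  decide +kernel

theorem kconn4 : ConnOn TT kR4 161738 kw4 0 306936 := by
  have h0 := checkConn_sound TT kR4 161738 kw4 0 240128 kconn4_0
  have h1 := ConnOn.append TT h0 (checkConn_sound TT kR4 161738 kw4 240128 66808 kconn4_1)
  exact h1

theorem kcount4 : cntSet kR4 0 306936 = 512 := by
  have h0 : cntSet kR4 0 77000 = 132 := cntSet_of_count kR4 0 77000 _ kcnt4_0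
  have h1 : cntSet kR4 0 154000 = 246 := cntSet_append kR4 0 77000 154000 132 114 (by norm_num) (by norm_num) h0 (cntSet_of_count kR4 77000 77000 _ kcnt4_1)
  have h2 : cntSet kR4 0 231000 = 377 := cntSet_append kR4 0 154000 231000 246 131 (by norm_num) (by norm_num) h1 (cntSet_of_count kR4 154000 77000 _ kcnt4_2)
  have h3 : cntSet kR4 0 306936 = 512 := cntSet_append kR4 0 231000 306936 377 135 (by norm_num) (by norm_num) h2 (cntSet_of_count kR4 231000 75936 _ kcnt4_3)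
  exact h3

end Cfsg.Agent.Lib.H17.Fi24Out
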