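import Cfsg.Agent.Lib.H17.Fi24Out.KR5

set_option autoImplicit false
set_option maxRecDepth 1000000

/-! # Level 5 of the chain `k`: base point 97792, orbit size 432 (generated) -/

namespace Cfsg.Agent.Lib.H17.Fi24Out

open Cfsg.Agent.Lib.H17.CosetCert Cfsg.Agent.Lib.H17.Sgs Cfsg.Agent.Lib.H17.Sift
  Cfsg.Agent.Lib.H17.PermActs Cfsg.Agent.Lib.H6.PermTab Cfsg.Agent.Lib.H6.PermFast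
  Cfsg.Agent.Lib.H17.GSift Cfsg.Agent.Lib.H17.Fi24S Cfsg.Agent.Lib.H6.FiIndex
  Cfsg.Agent.Lib.H17.OutChunks Cfsg.Agent.Lib.H17.OutTools Cfsg.Agent.Lib.H17.ConjTest

attribute [local instance] finG

/-- the words of level 5 -/
def kw5 : List (List ℕ) :=
  [[9, 6, 7, 8, 7, 6, 9],
    [7, 5, 6, 5, 7, 4, 5, 4, 6, 7, 8, 7, 6, 4, 5, 4, 3, 4, 3, 5, 6, 5, 10, 11, 10, 5, 6, 5, 3, 4, 3, 7,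
      6, 4, 5, 10, 5, 4, 6, 7, 5, 6, 5, 10, 11, 10, 5, 6, 5, 4, 5, 4, 6, 7, 8, 7, 6, 10, 11, 10, 4,
      5, 4, 2, 3, 2, 6, 4, 5, 10, 5, 4, 6, 2, 3, 2, 4, 5, 4, 10, 11, 10, 6, 7, 8, 7, 6, 4, 5, 4, 5,
      6, 5, 10, 11, 10, 5, 6, 5, 7, 5, 6, 5, 7, 3, 4, 3, 5, 6, 5, 10, 11, 10, 5, 6, 5, 3, 4, 3, 4,
      5, 4, 6, 7, 8, 7, 6, 4, 5, 4, 7, 6, 4, 5, 10, 5, 4, 6, 7, 9, 6, 7, 8, 7, 6, 9, 5, 6, 5, 10,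
      11, 10, 5, 6, 5, 4, 5, 4, 6, 7, 8, 7, 6, 10, 11, 10, 4, 5, 4, 2, 3, 2, 6, 4, 5, 10, 5, 4, 6,
      2, 3, 2, 4, 5, 4, 10, 11, 10, 6, 7, 8, 7, 6, 4, 5, 4, 5, 6, 5, 10, 11, 10, 5, 6, 5, 7, 5, 6,
      5, 7, 3, 4, 3, 5, 6, 5, 10, 11, 10, 5, 6, 5, 3, 4, 3, 4, 5, 4, 6, 7, 8, 7, 6, 4, 5, 4],
    [4, 5, 4, 6, 7, 8, 7, 6, 4, 5, 4, 3, 4, 3, 5, 6, 5, 10, 11, 10, 5, 6, 5, 3, 4, 3, 7, 5, 6, 5, 7, 5,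
      6, 5, 10, 11, 10, 5, 6, 5, 4, 5, 4, 6, 7, 8, 7, 6, 10, 11, 10, 4, 5, 4, 2, 3, 2, 6, 4, 5, 10,
      5, 4, 6, 2, 3, 2, 4, 5, 4, 10, 11, 10, 6, 7, 8, 7, 6, 4, 5, 4, 5, 6, 5, 10, 11, 10, 5, 6, 5,
      9, 6, 7, 8, 7, 6, 9, 7, 6, 4, 5, 10, 5, 4, 6, 7, 4, 5, 4, 6, 7, 8, 7, 6, 4, 5, 4, 3, 4, 3, 5,
      6, 5, 10, 11, 10, 5, 6, 5, 3, 4, 3, 7, 5, 6, 5, 7, 5, 6, 5, 10, 11, 10, 5, 6, 5, 4, 5, 4, 6,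
      7, 8, 7, 6, 10, 11, 10, 4, 5, 4, 2, 3, 2, 6, 4, 5, 10, 5, 4, 6, 2, 3, 2, 4, 5, 4, 10, 11, 10,
      6, 7, 8, 7, 6, 4, 5, 4, 5, 6, 5, 10, 11, 10, 5, 6, 5, 7, 6, 4, 5, 10, 5, 4, 6, 7, 3, 4, 3, 5,
      6, 5, 10, 11, 10, 5, 6, 5, 3, 4, 3, 4, 5, 4, 6, 7, 8, 7, 6, 4, 5, 4, 7, 5, 6, 5, 7],
    [4, 5, 4, 6, 7, 8, 7, 6, 4, 5, 4, 3, 4, 3, 5, 6, 5, 10, 11, 10, 5, 6, 5, 3, 4, 3, 7, 5, 6, 5, 6, 4,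
      5, 10, 5, 4, 6, 7, 3, 4, 3, 5, 6, 5, 10, 11, 10, 5, 6, 5, 3, 4, 3, 5, 6, 5, 10, 11, 10, 5, 6,
      5, 4, 5, 4, 6, 7, 8, 7, 6, 10, 11, 10, 4, 5, 4, 2, 3, 2, 6, 4, 5, 10, 5, 4, 6, 2, 3, 2, 4, 5,
      4, 10, 11, 10, 6, 7, 8, 7, 6, 4, 5, 4, 5, 6, 5, 10, 11, 10, 5, 6, 5, 7, 5, 6, 5, 6, 4, 5, 10,
      5, 4, 6, 7, 3, 4, 3, 5, 6, 5, 10, 11, 10, 5, 6, 5, 3, 4, 3, 4, 5, 4, 6, 7, 8, 7, 6, 4, 5, 4,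
      9, 6, 7, 8, 7, 6, 9, 7, 5, 6, 5, 7, 5, 6, 5, 10, 11, 10, 5, 6, 5, 4, 5, 4, 6, 7, 8, 7, 6, 10,
      11, 10, 4, 5, 4, 2, 3, 2, 6, 4, 5, 10, 5, 4, 6, 2, 3, 2, 4, 5, 4, 10, 11, 10, 6, 7, 8, 7, 6,
      4, 5, 4, 5, 6, 5, 10, 11, 10, 5, 6, 5, 7, 5, 6, 5, 7, 3, 4, 3, 5, 6, 5, 10, 11, 10, 5, 6, 5,
      3, 4, 3, 7, 5, 6, 5, 7],
    [7, 5, 6, 5, 7, 3, 4, 3, 5, 6, 5, 10, 11, 10, 5, 6, 5, 3, 4, 3, 7, 5, 6, 5, 7, 5, 6, 5, 10, 11, 10,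
      5, 6, 5, 4, 5, 4, 6, 7, 8, 7, 6, 10, 11, 10, 4, 5, 4, 2, 3, 2, 6, 4, 5, 10, 5, 4, 6, 2, 3, 2,
      4, 5, 4, 10, 11, 10, 6, 7, 8, 7, 6, 4, 5, 4, 5, 6, 5, 10, 11, 10, 5, 6, 5, 7, 5, 6, 5, 7, 9,
      6, 7, 8, 7, 6, 9, 4, 5, 4, 6, 7, 8, 7, 6, 4, 5, 4, 3, 4, 3, 5, 6, 5, 10, 11, 10, 5, 6, 5, 3,
      4, 3, 7, 6, 4, 5, 10, 5, 4, 6, 5, 6, 5, 7, 5, 6, 5, 10, 11, 10, 5, 6, 5, 4, 5, 4, 6, 7, 8, 7,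
      6, 10, 11, 10, 4, 5, 4, 2, 3, 2, 6, 4, 5, 10, 5, 4, 6, 2, 3, 2, 4, 5, 4, 10, 11, 10, 6, 7, 8,
      7, 6, 4, 5, 4, 5, 6, 5, 10, 11, 10, 5, 6, 5, 3, 4, 3, 5, 6, 5, 10, 11, 10, 5, 6, 5, 3, 4, 3,
      7, 6, 4, 5, 10, 5, 4, 6, 5, 6, 5, 7, 3, 4, 3, 5, 6, 5, 10, 11, 10, 5, 6, 5, 3, 4, 3, 4, 5, 4,
      6, 7, 8, 7, 6, 4, 5, 4]]

theorem kletters5 : ∀ w ∈ kw5, ∀ x ∈ w, x < 12 := by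
  decide

theorem kfix5 : ∀ w ∈ kw5, ∀ c ∈ ([161738, 11021, 8026, 283, 0] : List ℕ), applyW TT w c = c := by
  decide +kernel

theorem kconn5_0 : checkConn TT kR5 97792 kw5 0 162247 = true := by
  decide +kernel

theorem kconn5_1 : checkConn TT kR5 97792 kw5 162247 144689 = true := by
  decide +kernel

theorem kcnt5_0 : countNZ kR5 0 77000 0 = 96 := by
  decide +kernel

theorem kcnt5_1 : countNZ kR5 77000 77000 0 = 106 := by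
  decide +kernel

theorem kcnt5_2 : countNZ kR5 154000 77000 0 = 120 := by
  decide +kernel

theorem kcnt5_3 : countNZ kR5 231000 75936 0 = 110 := by
  decide +kernel

theorem kconn5 : ConnOn TT kR5 97792 kw5 0 306936 := by
  have h0 := checkConn_sound TT kR5 97792 kw5 0 162247 kconn5_0
  have h1 := ConnOn.append TT h0 (checkConn_sound TT kR5 97792 kw5 162247 144689 kconn5_1)
  exact h1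

theorem kcount5 : cntSet kR5 0 306936 = 432 := by
  have h0 : cntSet kR5 0 77000 = 96 := cntSet_of_count kR5 0 77000 _ kcnt5_0
  have h1 : cntSet kR5 0 154000 = 202 := cntSet_append kR5 0 77000 154000 96 106 (by norm_num) (by norm_num) h0 (cntSet_of_count kR5 77000 77000 _ kcnt5_1)
  have h2 : cntSet kR5 0 231000 = 322 := cntSet_append kR5 0 154000 231000 202 120 (by norm_num) (by norm_num) h1 (cntSet_of_count kR5 154000 77000 _ kcnt5_2)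
  have h3 : cntSet kR5 0 306936 = 432 := cntSet_append kR5 0 231000 306936 322 110 (by norm_num) (by norm_num) h2 (cntSet_of_count kR5 231000 75936 _ kcnt5_3)
  exact h3

end Cfsg.Agent.Lib.H17.Fi24Out
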