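import Cfsg.Agent.Lib.H17.Fi24Out.KR6

set_option autoImplicit false
set_option maxRecDepth 1000000

/-! # Level 6 of the chain `k`: base point 201526, orbit size 60 (generated) -/

namespace Cfsg.Agent.Lib.H17.Fi24Out

open Cfsg.Agent.Lib.H17.CosetCert Cfsg.Agent.Lib.H17.Sgs Cfsg.Agent.Lib.H17.Sift
  Cfsg.Agent.Lib.H17.PermActs Cfsg.Agent.Lib.H6.PermTab Cfsg.Agent.Lib.H6.PermFast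
  Cfsg.Agent.Lib.H17.GSift Cfsg.Agent.Lib.H17.Fi24S Cfsg.Agent.Lib.H6.FiIndex
  Cfsg.Agent.Lib.H17.OutChunks Cfsg.Agent.Lib.H17.OutTools Cfsg.Agent.Lib.H17.ConjTest

attribute [local instance] finG

/-- the words of level 6 -/
def kw6 : List (List ℕ) :=
  [[4, 5, 4, 6, 7, 8, 7, 6, 4, 5, 4, 3, 4, 3, 5, 6, 5, 10, 11, 10, 5, 6, 5, 3, 4, 3, 7, 5, 6, 5, 7, 5,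
      6, 5, 10, 11, 10, 5, 6, 5, 4, 5, 4, 6, 7, 8, 7, 6, 10, 11, 10, 4, 5, 4, 2, 3, 2, 6, 4, 5, 10,
      5, 4, 6, 2, 3, 2, 4, 5, 4, 10, 11, 10, 6, 7, 8, 7, 6, 4, 5, 4, 5, 6, 5, 10, 11, 10, 5, 6, 5,
      9, 6, 7, 8, 7, 6, 9, 7, 6, 4, 5, 10, 5, 4, 6, 7, 4, 5, 4, 6, 7, 8, 7, 6, 4, 5, 4, 3, 4, 3, 5,
      6, 5, 10, 11, 10, 5, 6, 5, 3, 4, 3, 7, 5, 6, 5, 7, 5, 6, 5, 10, 11, 10, 5, 6, 5, 4, 5, 4, 6,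
      7, 8, 7, 6, 10, 11, 10, 4, 5, 4, 2, 3, 2, 6, 4, 5, 10, 5, 4, 6, 2, 3, 2, 4, 5, 4, 10, 11, 10,
      6, 7, 8, 7, 6, 4, 5, 4, 5, 6, 5, 10, 11, 10, 5, 6, 5, 7, 6, 4, 5, 10, 5, 4, 6, 7, 3, 4, 3, 5,
      6, 5, 10, 11, 10, 5, 6, 5, 3, 4, 3, 4, 5, 4, 6, 7, 8, 7, 6, 4, 5, 4, 7, 5, 6, 5, 7, 9, 6, 7,
      8, 7, 6, 9, 7, 5, 6, 5, 7, 4, 5, 4, 6, 7, 8, 7, 6, 4, 5, 4, 3, 4, 3, 5, 6, 5, 10, 11, 10, 5,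
      6, 5, 3, 4, 3, 7, 6, 4, 5, 10, 5, 4, 6, 7, 5, 6, 5, 10, 11, 10, 5, 6, 5, 4, 5, 4, 6, 7, 8, 7,
      6, 10, 11, 10, 4, 5, 4, 2, 3, 2, 6, 4, 5, 10, 5, 4, 6, 2, 3, 2, 4, 5, 4, 10, 11, 10, 6, 7, 8,
      7, 6, 4, 5, 4, 5, 6, 5, 10, 11, 10, 5, 6, 5, 7, 5, 6, 5, 7, 3, 4, 3, 5, 6, 5, 10, 11, 10, 5,
      6, 5, 3, 4, 3, 4, 5, 4, 6, 7, 8, 7, 6, 4, 5, 4, 7, 6, 4, 5, 10, 5, 4, 6, 7, 9, 6, 7, 8, 7, 6,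
      9, 5, 6, 5, 10, 11, 10, 5, 6, 5, 4, 5, 4, 6, 7, 8, 7, 6, 10, 11, 10, 4, 5, 4, 2, 3, 2, 6, 4,
      5, 10, 5, 4, 6, 2, 3, 2, 4, 5, 4, 10, 11, 10, 6, 7, 8, 7, 6, 4, 5, 4, 5, 6, 5, 10, 11, 10, 5,
      6, 5, 7, 5, 6, 5, 7, 3, 4, 3, 5, 6, 5, 10, 11, 10, 5, 6, 5, 3, 4, 3, 4, 5, 4, 6, 7, 8, 7, 6,
      4, 5, 4],
    [9, 6, 7, 8, 7, 6, 9, 4, 5, 4, 6, 7, 8, 7, 6, 4, 5, 4, 3, 4, 3, 5, 6, 5, 10, 11, 10, 5, 6, 5, 3, 4,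
      3, 7, 5, 6, 5, 6, 4, 5, 10, 5, 4, 6, 7, 3, 4, 3, 5, 6, 5, 10, 11, 10, 5, 6, 5, 3, 4, 3, 5, 6,
      5, 10, 11, 10, 5, 6, 5, 4, 5, 4, 6, 7, 8, 7, 6, 10, 11, 10, 4, 5, 4, 2, 3, 2, 6, 4, 5, 10, 5,
      4, 6, 2, 3, 2, 4, 5, 4, 10, 11, 10, 6, 7, 8, 7, 6, 4, 5, 4, 5, 6, 5, 10, 11, 10, 5, 6, 5, 7,
      5, 6, 5, 6, 4, 5, 10, 5, 4, 6, 7, 3, 4, 3, 5, 6, 5, 10, 11, 10, 5, 6, 5, 3, 4, 3, 4, 5, 4, 6,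
      7, 8, 7, 6, 4, 5, 4, 9, 6, 7, 8, 7, 6, 9, 7, 5, 6, 5, 7, 5, 6, 5, 10, 11, 10, 5, 6, 5, 4, 5,
      4, 6, 7, 8, 7, 6, 10, 11, 10, 4, 5, 4, 2, 3, 2, 6, 4, 5, 10, 5, 4, 6, 2, 3, 2, 4, 5, 4, 10,
      11, 10, 6, 7, 8, 7, 6, 4, 5, 4, 5, 6, 5, 10, 11, 10, 5, 6, 5, 7, 5, 6, 5, 7, 3, 4, 3, 5, 6, 5,
      10, 11, 10, 5, 6, 5, 3, 4, 3, 7, 5, 6, 5, 7, 4, 5, 4, 6, 7, 8, 7, 6, 4, 5, 4, 3, 4, 3, 5, 6,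
      5, 10, 11, 10, 5, 6, 5, 3, 4, 3, 7, 5, 6, 5, 6, 4, 5, 10, 5, 4, 6, 7, 3, 4, 3, 5, 6, 5, 10,
      11, 10, 5, 6, 5, 3, 4, 3, 5, 6, 5, 10, 11, 10, 5, 6, 5, 4, 5, 4, 6, 7, 8, 7, 6, 10, 11, 10, 4,
      5, 4, 2, 3, 2, 6, 4, 5, 10, 5, 4, 6, 2, 3, 2, 4, 5, 4, 10, 11, 10, 6, 7, 8, 7, 6, 4, 5, 4, 5,
      6, 5, 10, 11, 10, 5, 6, 5, 7, 5, 6, 5, 6, 4, 5, 10, 5, 4, 6, 7, 3, 4, 3, 5, 6, 5, 10, 11, 10,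
      5, 6, 5, 3, 4, 3, 4, 5, 4, 6, 7, 8, 7, 6, 4, 5, 4, 9, 6, 7, 8, 7, 6, 9, 7, 5, 6, 5, 7, 5, 6,
      5, 10, 11, 10, 5, 6, 5, 4, 5, 4, 6, 7, 8, 7, 6, 10, 11, 10, 4, 5, 4, 2, 3, 2, 6, 4, 5, 10, 5,
      4, 6, 2, 3, 2, 4, 5, 4, 10, 11, 10, 6, 7, 8, 7, 6, 4, 5, 4, 5, 6, 5, 10, 11, 10, 5, 6, 5, 7,
      5, 6, 5, 7, 3, 4, 3, 5, 6, 5, 10, 11, 10, 5, 6, 5, 3, 4, 3, 7, 5, 6, 5, 7, 4, 5, 4, 6, 7, 8,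
      7, 6, 4, 5, 4, 3, 4, 3, 5, 6, 5, 10, 11, 10, 5, 6, 5, 3, 4, 3, 7, 5, 6, 5, 6, 4, 5, 10, 5, 4,
      6, 7, 3, 4, 3, 5, 6, 5, 10, 11, 10, 5, 6, 5, 3, 4, 3, 5, 6, 5, 10, 11, 10, 5, 6, 5, 4, 5, 4,
      6, 7, 8, 7, 6, 10, 11, 10, 4, 5, 4, 2, 3, 2, 6, 4, 5, 10, 5, 4, 6, 2, 3, 2, 4, 5, 4, 10, 11,
      10, 6, 7, 8, 7, 6, 4, 5, 4, 5, 6, 5, 10, 11, 10, 5, 6, 5, 7, 5, 6, 5, 6, 4, 5, 10, 5, 4, 6, 7,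
      3, 4, 3, 5, 6, 5, 10, 11, 10, 5, 6, 5, 3, 4, 3, 4, 5, 4, 6, 7, 8, 7, 6, 4, 5, 4, 9, 6, 7, 8,
      7, 6, 9, 7, 5, 6, 5, 7, 5, 6, 5, 10, 11, 10, 5, 6, 5, 4, 5, 4, 6, 7, 8, 7, 6, 10, 11, 10, 4,
      5, 4, 2, 3, 2, 6, 4, 5, 10, 5, 4, 6, 2, 3, 2, 4, 5, 4, 10, 11, 10, 6, 7, 8, 7, 6, 4, 5, 4, 5,
      6, 5, 10, 11, 10, 5, 6, 5, 7, 5, 6, 5, 7, 3, 4, 3, 5, 6, 5, 10, 11, 10, 5, 6, 5, 3, 4, 3, 7,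
      5, 6, 5, 7, 9, 6, 7, 8, 7, 6, 9],
    [9, 6, 7, 8, 7, 6, 9, 7, 5, 6, 5, 7, 3, 4, 3, 5, 6, 5, 10, 11, 10, 5, 6, 5, 3, 4, 3, 7, 5, 6, 5, 7,
      5, 6, 5, 10, 11, 10, 5, 6, 5, 4, 5, 4, 6, 7, 8, 7, 6, 10, 11, 10, 4, 5, 4, 2, 3, 2, 6, 4, 5,
      10, 5, 4, 6, 2, 3, 2, 4, 5, 4, 10, 11, 10, 6, 7, 8, 7, 6, 4, 5, 4, 5, 6, 5, 10, 11, 10, 5, 6,
      5, 7, 5, 6, 5, 7, 9, 6, 7, 8, 7, 6, 9, 4, 5, 4, 6, 7, 8, 7, 6, 4, 5, 4, 3, 4, 3, 5, 6, 5, 10,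
      11, 10, 5, 6, 5, 3, 4, 3, 7, 6, 4, 5, 10, 5, 4, 6, 5, 6, 5, 7, 5, 6, 5, 10, 11, 10, 5, 6, 5,
      4, 5, 4, 6, 7, 8, 7, 6, 10, 11, 10, 4, 5, 4, 2, 3, 2, 6, 4, 5, 10, 5, 4, 6, 2, 3, 2, 4, 5, 4,
      10, 11, 10, 6, 7, 8, 7, 6, 4, 5, 4, 5, 6, 5, 10, 11, 10, 5, 6, 5, 3, 4, 3, 5, 6, 5, 10, 11,
      10, 5, 6, 5, 3, 4, 3, 7, 6, 4, 5, 10, 5, 4, 6, 5, 6, 5, 7, 3, 4, 3, 5, 6, 5, 10, 11, 10, 5, 6,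
      5, 3, 4, 3, 4, 5, 4, 6, 7, 8, 7, 6, 4, 5, 4, 7, 5, 6, 5, 7, 3, 4, 3, 5, 6, 5, 10, 11, 10, 5,
      6, 5, 3, 4, 3, 7, 5, 6, 5, 7, 5, 6, 5, 10, 11, 10, 5, 6, 5, 4, 5, 4, 6, 7, 8, 7, 6, 10, 11,
      10, 4, 5, 4, 2, 3, 2, 6, 4, 5, 10, 5, 4, 6, 2, 3, 2, 4, 5, 4, 10, 11, 10, 6, 7, 8, 7, 6, 4, 5,
      4, 5, 6, 5, 10, 11, 10, 5, 6, 5, 7, 5, 6, 5, 7, 9, 6, 7, 8, 7, 6, 9, 4, 5, 4, 6, 7, 8, 7, 6,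
      4, 5, 4, 3, 4, 3, 5, 6, 5, 10, 11, 10, 5, 6, 5, 3, 4, 3, 7, 6, 4, 5, 10, 5, 4, 6, 5, 6, 5, 7,
      5, 6, 5, 10, 11, 10, 5, 6, 5, 4, 5, 4, 6, 7, 8, 7, 6, 10, 11, 10, 4, 5, 4, 2, 3, 2, 6, 4, 5,
      10, 5, 4, 6, 2, 3, 2, 4, 5, 4, 10, 11, 10, 6, 7, 8, 7, 6, 4, 5, 4, 5, 6, 5, 10, 11, 10, 5, 6,
      5, 3, 4, 3, 5, 6, 5, 10, 11, 10, 5, 6, 5, 3, 4, 3, 7, 6, 4, 5, 10, 5, 4, 6, 5, 6, 5, 7, 3, 4,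
      3, 5, 6, 5, 10, 11, 10, 5, 6, 5, 3, 4, 3, 4, 5, 4, 6, 7, 8, 7, 6, 4, 5, 4, 7, 5, 6, 5, 7, 3,
      4, 3, 5, 6, 5, 10, 11, 10, 5, 6, 5, 3, 4, 3, 7, 5, 6, 5, 7, 5, 6, 5, 10, 11, 10, 5, 6, 5, 4,
      5, 4, 6, 7, 8, 7, 6, 10, 11, 10, 4, 5, 4, 2, 3, 2, 6, 4, 5, 10, 5, 4, 6, 2, 3, 2, 4, 5, 4, 10,
      11, 10, 6, 7, 8, 7, 6, 4, 5, 4, 5, 6, 5, 10, 11, 10, 5, 6, 5, 7, 5, 6, 5, 7, 9, 6, 7, 8, 7, 6,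
      9, 4, 5, 4, 6, 7, 8, 7, 6, 4, 5, 4, 3, 4, 3, 5, 6, 5, 10, 11, 10, 5, 6, 5, 3, 4, 3, 7, 6, 4,
      5, 10, 5, 4, 6, 5, 6, 5, 7, 5, 6, 5, 10, 11, 10, 5, 6, 5, 4, 5, 4, 6, 7, 8, 7, 6, 10, 11, 10,
      4, 5, 4, 2, 3, 2, 6, 4, 5, 10, 5, 4, 6, 2, 3, 2, 4, 5, 4, 10, 11, 10, 6, 7, 8, 7, 6, 4, 5, 4,
      5, 6, 5, 10, 11, 10, 5, 6, 5, 3, 4, 3, 5, 6, 5, 10, 11, 10, 5, 6, 5, 3, 4, 3, 7, 6, 4, 5, 10,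
      5, 4, 6, 5, 6, 5, 7, 3, 4, 3, 5, 6, 5, 10, 11, 10, 5, 6, 5, 3, 4, 3, 4, 5, 4, 6, 7, 8, 7, 6,
      4, 5, 4, 9, 6, 7, 8, 7, 6, 9],
    [9, 6, 7, 8, 7, 6, 9, 7, 5, 6, 5, 7, 4, 5, 4, 6, 7, 8, 7, 6, 4, 5, 4, 3, 4, 3, 5, 6, 5, 10, 11, 10,
      5, 6, 5, 3, 4, 3, 7, 6, 4, 5, 10, 5, 4, 6, 7, 5, 6, 5, 10, 11, 10, 5, 6, 5, 4, 5, 4, 6, 7, 8,
      7, 6, 10, 11, 10, 4, 5, 4, 2, 3, 2, 6, 4, 5, 10, 5, 4, 6, 2, 3, 2, 4, 5, 4, 10, 11, 10, 6, 7,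
      8, 7, 6, 4, 5, 4, 5, 6, 5, 10, 11, 10, 5, 6, 5, 7, 5, 6, 5, 7, 3, 4, 3, 5, 6, 5, 10, 11, 10,
      5, 6, 5, 3, 4, 3, 4, 5, 4, 6, 7, 8, 7, 6, 4, 5, 4, 7, 6, 4, 5, 10, 5, 4, 6, 7, 9, 6, 7, 8, 7,
      6, 9, 5, 6, 5, 10, 11, 10, 5, 6, 5, 4, 5, 4, 6, 7, 8, 7, 6, 10, 11, 10, 4, 5, 4, 2, 3, 2, 6,
      4, 5, 10, 5, 4, 6, 2, 3, 2, 4, 5, 4, 10, 11, 10, 6, 7, 8, 7, 6, 4, 5, 4, 5, 6, 5, 10, 11, 10,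
      5, 6, 5, 7, 6, 4, 5, 10, 5, 4, 6, 7, 3, 4, 3, 5, 6, 5, 10, 11, 10, 5, 6, 5, 3, 4, 3, 5, 6, 5,
      10, 11, 10, 5, 6, 5, 4, 5, 4, 6, 7, 8, 7, 6, 10, 11, 10, 4, 5, 4, 2, 3, 2, 6, 4, 5, 10, 5, 4,
      6, 2, 3, 2, 4, 5, 4, 10, 11, 10, 6, 7, 8, 7, 6, 4, 5, 4, 5, 6, 5, 10, 11, 10, 5, 6, 5, 7, 5,
      6, 5, 6, 4, 5, 10, 5, 4, 6, 7, 3, 4, 3, 5, 6, 5, 10, 11, 10, 5, 6, 5, 3, 4, 3, 4, 5, 4, 6, 7,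
      8, 7, 6, 4, 5, 4, 9, 6, 7, 8, 7, 6, 9, 7, 5, 6, 5, 7, 5, 6, 5, 10, 11, 10, 5, 6, 5, 4, 5, 4,
      6, 7, 8, 7, 6, 10, 11, 10, 4, 5, 4, 2, 3, 2, 6, 4, 5, 10, 5, 4, 6, 2, 3, 2, 4, 5, 4, 10, 11,
      10, 6, 7, 8, 7, 6, 4, 5, 4, 5, 6, 5, 10, 11, 10, 5, 6, 5, 7, 5, 6, 5, 7, 3, 4, 3, 5, 6, 5, 10,
      11, 10, 5, 6, 5, 3, 4, 3, 7, 5, 6, 5, 7, 4, 5, 4, 6, 7, 8, 7, 6, 4, 5, 4, 3, 4, 3, 5, 6, 5,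
      10, 11, 10, 5, 6, 5, 3, 4, 3, 7, 5, 6, 5, 6, 4, 5, 10, 5, 4, 6, 7, 3, 4, 3, 5, 6, 5, 10, 11,
      10, 5, 6, 5, 3, 4, 3, 5, 6, 5, 10, 11, 10, 5, 6, 5, 4, 5, 4, 6, 7, 8, 7, 6, 10, 11, 10, 4, 5,
      4, 2, 3, 2, 6, 4, 5, 10, 5, 4, 6, 2, 3, 2, 4, 5, 4, 10, 11, 10, 6, 7, 8, 7, 6, 4, 5, 4, 5, 6,
      5, 10, 11, 10, 5, 6, 5, 7, 5, 6, 5, 6, 4, 5, 10, 5, 4, 6, 7, 3, 4, 3, 5, 6, 5, 10, 11, 10, 5,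
      6, 5, 3, 4, 3, 4, 5, 4, 6, 7, 8, 7, 6, 4, 5, 4, 9, 6, 7, 8, 7, 6, 9, 7, 5, 6, 5, 7, 5, 6, 5,
      10, 11, 10, 5, 6, 5, 4, 5, 4, 6, 7, 8, 7, 6, 10, 11, 10, 4, 5, 4, 2, 3, 2, 6, 4, 5, 10, 5, 4,
      6, 2, 3, 2, 4, 5, 4, 10, 11, 10, 6, 7, 8, 7, 6, 4, 5, 4, 5, 6, 5, 10, 11, 10, 5, 6, 5, 7, 5,
      6, 5, 7, 3, 4, 3, 5, 6, 5, 10, 11, 10, 5, 6, 5, 3, 4, 3, 7, 5, 6, 5, 7, 9, 6, 7, 8, 7, 6, 9,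
      4, 5, 4, 6, 7, 8, 7, 6, 4, 5, 4, 3, 4, 3, 5, 6, 5, 10, 11, 10, 5, 6, 5, 3, 4, 3, 7, 5, 6, 5,
      6, 4, 5, 10, 5, 4, 6, 7, 3, 4, 3, 5, 6, 5, 10, 11, 10, 5, 6, 5, 3, 4, 3, 5, 6, 5, 10, 11, 10,
      5, 6, 5, 4, 5, 4, 6, 7, 8, 7, 6, 10, 11, 10, 4, 5, 4, 2, 3, 2, 6, 4, 5, 10, 5, 4, 6, 2, 3, 2,
      4, 5, 4, 10, 11, 10, 6, 7, 8, 7, 6, 4, 5, 4, 5, 6, 5, 10, 11, 10, 5, 6, 5, 7, 5, 6, 5, 6, 4,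
      5, 10, 5, 4, 6, 7, 3, 4, 3, 5, 6, 5, 10, 11, 10, 5, 6, 5, 3, 4, 3, 4, 5, 4, 6, 7, 8, 7, 6, 4,
      5, 4, 9, 6, 7, 8, 7, 6, 9, 7, 5, 6, 5, 7, 5, 6, 5, 10, 11, 10, 5, 6, 5, 4, 5, 4, 6, 7, 8, 7,
      6, 10, 11, 10, 4, 5, 4, 2, 3, 2, 6, 4, 5, 10, 5, 4, 6, 2, 3, 2, 4, 5, 4, 10, 11, 10, 6, 7, 8,
      7, 6, 4, 5, 4, 5, 6, 5, 10, 11, 10, 5, 6, 5, 7, 5, 6, 5, 7, 3, 4, 3, 5, 6, 5, 10, 11, 10, 5,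
      6, 5, 3, 4, 3, 7, 5, 6, 5, 7, 4, 5, 4, 6, 7, 8, 7, 6, 4, 5, 4, 3, 4, 3, 5, 6, 5, 10, 11, 10,
      5, 6, 5, 3, 4, 3, 7, 5, 6, 5, 6, 4, 5, 10, 5, 4, 6, 7, 3, 4, 3, 5, 6, 5, 10, 11, 10, 5, 6, 5,
      3, 4, 3, 5, 6, 5, 10, 11, 10, 5, 6, 5, 4, 5, 4, 6, 7, 8, 7, 6, 10, 11, 10, 4, 5, 4, 2, 3, 2,
      6, 4, 5, 10, 5, 4, 6, 2, 3, 2, 4, 5, 4, 10, 11, 10, 6, 7, 8, 7, 6, 4, 5, 4, 5, 6, 5, 10, 11,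
      10, 5, 6, 5, 7, 5, 6, 5, 6, 4, 5, 10, 5, 4, 6, 7, 3, 4, 3, 5, 6, 5, 10, 11, 10, 5, 6, 5, 3, 4,
      3, 4, 5, 4, 6, 7, 8, 7, 6, 4, 5, 4, 9, 6, 7, 8, 7, 6, 9, 7, 5, 6, 5, 7, 5, 6, 5, 10, 11, 10,
      5, 6, 5, 4, 5, 4, 6, 7, 8, 7, 6, 10, 11, 10, 4, 5, 4, 2, 3, 2, 6, 4, 5, 10, 5, 4, 6, 2, 3, 2,
      4, 5, 4, 10, 11, 10, 6, 7, 8, 7, 6, 4, 5, 4, 5, 6, 5, 10, 11, 10, 5, 6, 5, 7, 5, 6, 5, 7, 3,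
      4, 3, 5, 6, 5, 10, 11, 10, 5, 6, 5, 3, 4, 3, 7, 5, 6, 5, 7],
    [7, 5, 6, 5, 7, 3, 4, 3, 5, 6, 5, 10, 11, 10, 5, 6, 5, 3, 4, 3, 7, 5, 6, 5, 7, 5, 6, 5, 10, 11, 10,
      5, 6, 5, 4, 5, 4, 6, 7, 8, 7, 6, 10, 11, 10, 4, 5, 4, 2, 3, 2, 6, 4, 5, 10, 5, 4, 6, 2, 3, 2,
      4, 5, 4, 10, 11, 10, 6, 7, 8, 7, 6, 4, 5, 4, 5, 6, 5, 10, 11, 10, 5, 6, 5, 7, 5, 6, 5, 7, 9,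
      6, 7, 8, 7, 6, 9, 4, 5, 4, 6, 7, 8, 7, 6, 4, 5, 4, 3, 4, 3, 5, 6, 5, 10, 11, 10, 5, 6, 5, 3,
      4, 3, 7, 6, 4, 5, 10, 5, 4, 6, 5, 6, 5, 7, 5, 6, 5, 10, 11, 10, 5, 6, 5, 4, 5, 4, 6, 7, 8, 7,
      6, 10, 11, 10, 4, 5, 4, 2, 3, 2, 6, 4, 5, 10, 5, 4, 6, 2, 3, 2, 4, 5, 4, 10, 11, 10, 6, 7, 8,
      7, 6, 4, 5, 4, 5, 6, 5, 10, 11, 10, 5, 6, 5, 3, 4, 3, 5, 6, 5, 10, 11, 10, 5, 6, 5, 3, 4, 3,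
      7, 6, 4, 5, 10, 5, 4, 6, 5, 6, 5, 7, 3, 4, 3, 5, 6, 5, 10, 11, 10, 5, 6, 5, 3, 4, 3, 4, 5, 4,
      6, 7, 8, 7, 6, 4, 5, 4, 7, 5, 6, 5, 7, 3, 4, 3, 5, 6, 5, 10, 11, 10, 5, 6, 5, 3, 4, 3, 7, 5,
      6, 5, 7, 5, 6, 5, 10, 11, 10, 5, 6, 5, 4, 5, 4, 6, 7, 8, 7, 6, 10, 11, 10, 4, 5, 4, 2, 3, 2,
      6, 4, 5, 10, 5, 4, 6, 2, 3, 2, 4, 5, 4, 10, 11, 10, 6, 7, 8, 7, 6, 4, 5, 4, 5, 6, 5, 10, 11,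
      10, 5, 6, 5, 7, 5, 6, 5, 7, 9, 6, 7, 8, 7, 6, 9, 4, 5, 4, 6, 7, 8, 7, 6, 4, 5, 4, 3, 4, 3, 5,
      6, 5, 10, 11, 10, 5, 6, 5, 3, 4, 3, 7, 6, 4, 5, 10, 5, 4, 6, 5, 6, 5, 7, 5, 6, 5, 10, 11, 10,
      5, 6, 5, 4, 5, 4, 6, 7, 8, 7, 6, 10, 11, 10, 4, 5, 4, 2, 3, 2, 6, 4, 5, 10, 5, 4, 6, 2, 3, 2,
      4, 5, 4, 10, 11, 10, 6, 7, 8, 7, 6, 4, 5, 4, 5, 6, 5, 10, 11, 10, 5, 6, 5, 3, 4, 3, 5, 6, 5,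
      10, 11, 10, 5, 6, 5, 3, 4, 3, 7, 6, 4, 5, 10, 5, 4, 6, 5, 6, 5, 7, 3, 4, 3, 5, 6, 5, 10, 11,
      10, 5, 6, 5, 3, 4, 3, 4, 5, 4, 6, 7, 8, 7, 6, 4, 5, 4, 9, 6, 7, 8, 7, 6, 9, 7, 5, 6, 5, 7, 3,
      4, 3, 5, 6, 5, 10, 11, 10, 5, 6, 5, 3, 4, 3, 7, 5, 6, 5, 7, 5, 6, 5, 10, 11, 10, 5, 6, 5, 4,
      5, 4, 6, 7, 8, 7, 6, 10, 11, 10, 4, 5, 4, 2, 3, 2, 6, 4, 5, 10, 5, 4, 6, 2, 3, 2, 4, 5, 4, 10,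
      11, 10, 6, 7, 8, 7, 6, 4, 5, 4, 5, 6, 5, 10, 11, 10, 5, 6, 5, 7, 5, 6, 5, 7, 9, 6, 7, 8, 7, 6,
      9, 4, 5, 4, 6, 7, 8, 7, 6, 4, 5, 4, 3, 4, 3, 5, 6, 5, 10, 11, 10, 5, 6, 5, 3, 4, 3, 7, 6, 4,
      5, 10, 5, 4, 6, 5, 6, 5, 7, 5, 6, 5, 10, 11, 10, 5, 6, 5, 4, 5, 4, 6, 7, 8, 7, 6, 10, 11, 10,
      4, 5, 4, 2, 3, 2, 6, 4, 5, 10, 5, 4, 6, 2, 3, 2, 4, 5, 4, 10, 11, 10, 6, 7, 8, 7, 6, 4, 5, 4,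
      5, 6, 5, 10, 11, 10, 5, 6, 5, 3, 4, 3, 5, 6, 5, 10, 11, 10, 5, 6, 5, 3, 4, 3, 7, 6, 4, 5, 10,
      5, 4, 6, 5, 6, 5, 7, 3, 4, 3, 5, 6, 5, 10, 11, 10, 5, 6, 5, 3, 4, 3, 4, 5, 4, 6, 7, 8, 7, 6,
      4, 5, 4, 7, 5, 6, 5, 7, 3, 4, 3, 5, 6, 5, 10, 11, 10, 5, 6, 5, 3, 4, 3, 7, 5, 6, 5, 7, 5, 6,
      5, 10, 11, 10, 5, 6, 5, 4, 5, 4, 6, 7, 8, 7, 6, 10, 11, 10, 4, 5, 4, 2, 3, 2, 6, 4, 5, 10, 5,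
      4, 6, 2, 3, 2, 4, 5, 4, 10, 11, 10, 6, 7, 8, 7, 6, 4, 5, 4, 5, 6, 5, 10, 11, 10, 5, 6, 5, 7,
      5, 6, 5, 7, 9, 6, 7, 8, 7, 6, 9, 4, 5, 4, 6, 7, 8, 7, 6, 4, 5, 4, 3, 4, 3, 5, 6, 5, 10, 11,
      10, 5, 6, 5, 3, 4, 3, 7, 6, 4, 5, 10, 5, 4, 6, 5, 6, 5, 7, 5, 6, 5, 10, 11, 10, 5, 6, 5, 4, 5,
      4, 6, 7, 8, 7, 6, 10, 11, 10, 4, 5, 4, 2, 3, 2, 6, 4, 5, 10, 5, 4, 6, 2, 3, 2, 4, 5, 4, 10,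
      11, 10, 6, 7, 8, 7, 6, 4, 5, 4, 5, 6, 5, 10, 11, 10, 5, 6, 5, 3, 4, 3, 5, 6, 5, 10, 11, 10, 5,
      6, 5, 3, 4, 3, 7, 6, 4, 5, 10, 5, 4, 6, 7, 5, 6, 5, 10, 11, 10, 5, 6, 5, 4, 5, 4, 6, 7, 8, 7,
      6, 10, 11, 10, 4, 5, 4, 2, 3, 2, 6, 4, 5, 10, 5, 4, 6, 2, 3, 2, 4, 5, 4, 10, 11, 10, 6, 7, 8,
      7, 6, 4, 5, 4, 5, 6, 5, 10, 11, 10, 5, 6, 5, 9, 6, 7, 8, 7, 6, 9, 7, 6, 4, 5, 10, 5, 4, 6, 7,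
      4, 5, 4, 6, 7, 8, 7, 6, 4, 5, 4, 3, 4, 3, 5, 6, 5, 10, 11, 10, 5, 6, 5, 3, 4, 3, 7, 5, 6, 5,
      7, 5, 6, 5, 10, 11, 10, 5, 6, 5, 4, 5, 4, 6, 7, 8, 7, 6, 10, 11, 10, 4, 5, 4, 2, 3, 2, 6, 4,
      5, 10, 5, 4, 6, 2, 3, 2, 4, 5, 4, 10, 11, 10, 6, 7, 8, 7, 6, 4, 5, 4, 5, 6, 5, 10, 11, 10, 5,
      6, 5, 7, 6, 4, 5, 10, 5, 4, 6, 7, 3, 4, 3, 5, 6, 5, 10, 11, 10, 5, 6, 5, 3, 4, 3, 4, 5, 4, 6,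
      7, 8, 7, 6, 4, 5, 4, 7, 5, 6, 5, 7, 9, 6, 7, 8, 7, 6, 9]]

theorem kletters6 : ∀ w ∈ kw6, ∀ x ∈ w, x < 12 := by
  decide

theorem kfix6 : ∀ w ∈ kw6, ∀ c ∈ ([97792, 161738, 11021, 8026, 283, 0] : List ℕ), applyW TT w c = c := by
  decide +kernel

theorem kconn6_0 : checkConn TT kR6 201526 kw6 0 190188 = true := by
  decide +kernel

theorem kconn6_1 : checkConn TT kR6 201526 kw6 190188 116748 = true := by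
  decide +kernel

theorem kcnt6_0 : countNZ kR6 0 77000 0 = 12 := by
  decide +kernel

theorem kcnt6_1 : countNZ kR6 77000 77000 0 = 14 := by
  decide +kernel

theorem kcnt6_2 : countNZ kR6 154000 77000 0 = 22 := by
  decide +kernel

theorem kcnt6_3 : countNZ kR6 231000 75936 0 = 12 := by
  decide +kernel

theorem kconn6 : ConnOn TT kR6 201526 kw6 0 306936 := by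
  have h0 := checkConn_sound TT kR6 201526 kw6 0 190188 kconn6_0
  have h1 := ConnOn.append TT h0 (checkConn_sound TT kR6 201526 kw6 190188 116748 kconn6_1)
  exact h1

theorem kcount6 : cntSet kR6 0 306936 = 60 := by
  have h0 : cntSet kR6 0 77000 = 12 := cntSet_of_count kR6 0 77000 _ kcnt6_0
  have h1 : cntSet kR6 0 154000 = 26 := cntSet_append kR6 0 77000 154000 12 14 (by norm_num) (by norm_num) h0 (cntSet_of_count kR6 77000 77000 _ kcnt6_1)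
  have h2 : cntSet kR6 0 231000 = 48 := cntSet_append kR6 0 154000 231000 26 22 (by norm_num) (by norm_num) h1 (cntSet_of_count kR6 154000 77000 _ kcnt6_2)
  have h3 : cntSet kR6 0 306936 = 60 := cntSet_append kR6 0 231000 306936 48 12 (by norm_num) (by norm_num) h2 (cntSet_of_count kR6 231000 75936 _ kcnt6_3)
  exact h3

end Cfsg.Agent.Lib.H17.Fi24Out
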