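import Cfsg.Agent.Lib.H17.Fi24Out.KL0
import Cfsg.Agent.Lib.H17.Fi24Out.KL1
import Cfsg.Agent.Lib.H17.Fi24Out.KL2
import Cfsg.Agent.Lib.H17.Fi24Out.KL3
import Cfsg.Agent.Lib.H17.Fi24Out.KL4
import Cfsg.Agent.Lib.H17.Fi24Out.KL5
import Cfsg.Agent.Lib.H17.Fi24Out.KL6
import Cfsg.Agent.Lib.H17.Fi24Out.KL7

set_option autoImplicit false
set_option maxRecDepth 1000000

/-! # A chain of stabilisers for Fi24 whose base is part of a cycle of an element of order 29 (generated) -/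

namespace Cfsg.Agent.Lib.H17.Fi24Out

open Cfsg.Agent.Lib.H17.CosetCert Cfsg.Agent.Lib.H17.Sgs Cfsg.Agent.Lib.H17.Sift
  Cfsg.Agent.Lib.H17.PermActs Cfsg.Agent.Lib.H6.PermTab Cfsg.Agent.Lib.H6.PermFast
  Cfsg.Agent.Lib.H17.GSift Cfsg.Agent.Lib.H17.Fi24S Cfsg.Agent.Lib.H6.FiIndex
  Cfsg.Agent.Lib.H17.OutChunks Cfsg.Agent.Lib.H17.OutTools Cfsg.Agent.Lib.H17.ConjTest

attribute [local instance] finG

theorem kreach0 : ∀ i : Fin n, kR0 i ≠ 0 → ∃ g ∈ stabL phi ([] : List ℕ), phi g ⟨0, by norm_num⟩ = i :=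
  reach lettersOK ([] : List ℕ) 0 (by norm_num) kR0 kw0 kletters0 kfix0 kconn0

theorem klevel0 : 306936 * Nat.card (stabL phi ([0] : List ℕ)) ≤ Nat.card (stabL phi ([] : List ℕ)) :=
  level_le ([] : List ℕ) 0 (by norm_num) kR0 306936 kreach0 kcount0

theorem kreach1 : ∀ i : Fin n, kR1 i ≠ 0 → ∃ g ∈ stabL phi ([0] : List ℕ), phi g ⟨283, by norm_num⟩ = i :=
  reach lettersOK ([0] : List ℕ) 283 (by norm_num) kR1 kw1 kletters1 kfix1 kconn1

theorem klevel1 : 31671 * Nat.card (stabL phi ([283, 0] : List ℕ)) ≤ Nat.card (stabL phi ([0] : List ℕ)) :=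
  level_le ([0] : List ℕ) 283 (by norm_num) kR1 31671 kreach1 kcount1

theorem kreach2 : ∀ i : Fin n, kR2 i ≠ 0 → ∃ g ∈ stabL phi ([283, 0] : List ℕ), phi g ⟨8026, by norm_num⟩ = i :=
  reach lettersOK ([283, 0] : List ℕ) 8026 (by norm_num) kR2 kw2 kletters2 kfix2 kconn2

theorem klevel2 : 3510 * Nat.card (stabL phi ([8026, 283, 0] : List ℕ)) ≤ Nat.card (stabL phi ([283, 0] : List ℕ)) :=
  level_le ([283, 0] : List ℕ) 8026 (by norm_num) kR2 3510 kreach2 kcount2

theorem kreach3 : ∀ i : Fin n, kR3 i ≠ 0 → ∃ g ∈ stabL phi ([8026, 283, 0] : List ℕ), phi g ⟨11021, by norm_num⟩ = i :=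
  reach lettersOK ([8026, 283, 0] : List ℕ) 11021 (by norm_num) kR3 kw3 kletters3 kfix3 kconn3

theorem klevel3 : 693 * Nat.card (stabL phi ([11021, 8026, 283, 0] : List ℕ)) ≤ Nat.card (stabL phi ([8026, 283, 0] : List ℕ)) :=
  level_le ([8026, 283, 0] : List ℕ) 11021 (by norm_num) kR3 693 kreach3 kcount3

theorem kreach4 : ∀ i : Fin n, kR4 i ≠ 0 → ∃ g ∈ stabL phi ([11021, 8026, 283, 0] : List ℕ), phi g ⟨161738, by norm_num⟩ = i :=
  reach lettersOK ([11021, 8026, 283, 0] : List ℕ) 161738 (by norm_num) kR4 kw4 kletters4 kfix4 kconn4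

theorem klevel4 : 512 * Nat.card (stabL phi ([161738, 11021, 8026, 283, 0] : List ℕ)) ≤ Nat.card (stabL phi ([11021, 8026, 283, 0] : List ℕ)) :=
  level_le ([11021, 8026, 283, 0] : List ℕ) 161738 (by norm_num) kR4 512 kreach4 kcount4

theorem kreach5 : ∀ i : Fin n, kR5 i ≠ 0 → ∃ g ∈ stabL phi ([161738, 11021, 8026, 283, 0] : List ℕ), phi g ⟨97792, by norm_num⟩ = i :=
  reach lettersOK ([161738, 11021, 8026, 283, 0] : List ℕ) 97792 (by norm_num) kR5 kw5 kletters5 kfix5 kconn5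

theorem klevel5 : 432 * Nat.card (stabL phi ([97792, 161738, 11021, 8026, 283, 0] : List ℕ)) ≤ Nat.card (stabL phi ([161738, 11021, 8026, 283, 0] : List ℕ)) :=
  level_le ([161738, 11021, 8026, 283, 0] : List ℕ) 97792 (by norm_num) kR5 432 kreach5 kcount5

theorem kreach6 : ∀ i : Fin n, kR6 i ≠ 0 → ∃ g ∈ stabL phi ([97792, 161738, 11021, 8026, 283, 0] : List ℕ), phi g ⟨201526, by norm_num⟩ = i :=
  reach lettersOK ([97792, 161738, 11021, 8026, 283, 0] : List ℕ) 201526 (by norm_num) kR6 kw6 kletters6 kfix6 kconn6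

theorem klevel6 : 60 * Nat.card (stabL phi ([201526, 97792, 161738, 11021, 8026, 283, 0] : List ℕ)) ≤ Nat.card (stabL phi ([97792, 161738, 11021, 8026, 283, 0] : List ℕ)) :=
  level_le ([97792, 161738, 11021, 8026, 283, 0] : List ℕ) 201526 (by norm_num) kR6 60 kreach6 kcount6

theorem kreach7 : ∀ i : Fin n, kR7 i ≠ 0 → ∃ g ∈ stabL phi ([201526, 97792, 161738, 11021, 8026, 283, 0] : List ℕ), phi g ⟨223755, by norm_num⟩ = i :=
  reach lettersOK ([201526, 97792, 161738, 11021, 8026, 283, 0] : List ℕ) 223755 (by norm_num) kR7 kw7 kletters7 kfix7 kconn7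

theorem klevel7 : 8 * Nat.card (stabL phi ([223755, 201526, 97792, 161738, 11021, 8026, 283, 0] : List ℕ)) ≤ Nat.card (stabL phi ([201526, 97792, 161738, 11021, 8026, 283, 0] : List ℕ)) :=
  level_le ([201526, 97792, 161738, 11021, 8026, 283, 0] : List ℕ) 223755 (by norm_num) kR7 8 kreach7 kcount7

theorem kcards : Nat.card (stabL phi ([0] : List ℕ)) = 8178940946586009600 ∧
    Nat.card (stabL phi ([283, 0] : List ℕ)) = 258247006617600 ∧
    Nat.card (stabL phi ([8026, 283, 0] : List ℕ)) = 73574645760 ∧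
    Nat.card (stabL phi ([11021, 8026, 283, 0] : List ℕ)) = 106168320 ∧
    Nat.card (stabL phi ([161738, 11021, 8026, 283, 0] : List ℕ)) = 207360 ∧
    Nat.card (stabL phi ([97792, 161738, 11021, 8026, 283, 0] : List ℕ)) = 480 ∧
    Nat.card (stabL phi ([201526, 97792, 161738, 11021, 8026, 283, 0] : List ℕ)) = 8 ∧
    Nat.card (stabL phi ([223755, 201526, 97792, 161738, 11021, 8026, 283, 0] : List ℕ)) = 1 := by
  have h0 := klevel0
  have h1 := klevel1
  have h2 := klevel2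
  have h3 := klevel3
  have h4 := klevel4
  have h5 := klevel5
  have h6 := klevel6
  have h7 := klevel7
  have hl : 1 ≤ Nat.card (stabL phi ([223755, 201526, 97792, 161738, 11021, 8026, 283, 0] : List ℕ)) := one_le_card phi _
  rw [card_stabL_nil, card_G] at h0
  omega

theorem korb0 : ∀ g ∈ stabL phi ([] : List ℕ), kR0 (pt phi g 0) ≠ 0 := by
  apply orbit_subset ([] : List ℕ) 0 (by norm_num) kR0 306936 kreach0 kcount0
  have hc := kcards
  rw [card_stabL_nil, card_G]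
  omega

theorem korb1 : ∀ g ∈ stabL phi ([0] : List ℕ), kR1 (pt phi g 283) ≠ 0 := by
  apply orbit_subset ([0] : List ℕ) 283 (by norm_num) kR1 31671 kreach1 kcount1
  have hc := kcards
  omega

theorem korb2 : ∀ g ∈ stabL phi ([283, 0] : List ℕ), kR2 (pt phi g 8026) ≠ 0 := by
  apply orbit_subset ([283, 0] : List ℕ) 8026 (by norm_num) kR2 3510 kreach2 kcount2
  have hc := kcards
  omega

theorem korb3 : ∀ g ∈ stabL phi ([8026, 283, 0] : List ℕ), kR3 (pt phi g 11021) ≠ 0 := by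
  apply orbit_subset ([8026, 283, 0] : List ℕ) 11021 (by norm_num) kR3 693 kreach3 kcount3
  have hc := kcards
  omega

theorem korb4 : ∀ g ∈ stabL phi ([11021, 8026, 283, 0] : List ℕ), kR4 (pt phi g 161738) ≠ 0 := by
  apply orbit_subset ([11021, 8026, 283, 0] : List ℕ) 161738 (by norm_num) kR4 512 kreach4 kcount4
  have hc := kcards
  omega

theorem korb5 : ∀ g ∈ stabL phi ([161738, 11021, 8026, 283, 0] : List ℕ), kR5 (pt phi g 97792) ≠ 0 := by
  apply orbit_subset ([161738, 11021, 8026, 283, 0] : List ℕ) 97792 (by norm_num) kR5 432 kreach5 kcount5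
  have hc := kcards
  omega

theorem korb6 : ∀ g ∈ stabL phi ([97792, 161738, 11021, 8026, 283, 0] : List ℕ), kR6 (pt phi g 201526) ≠ 0 := by
  apply orbit_subset ([97792, 161738, 11021, 8026, 283, 0] : List ℕ) 201526 (by norm_num) kR6 60 kreach6 kcount6
  have hc := kcards
  omega

theorem korb7 : ∀ g ∈ stabL phi ([201526, 97792, 161738, 11021, 8026, 283, 0] : List ℕ), kR7 (pt phi g 223755) ≠ 0 := by
  apply orbit_subset ([201526, 97792, 161738, 11021, 8026, 283, 0] : List ℕ) 223755 (by norm_num) kR7 8 kreach7 kcount7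
  have hc := kcards
  omega

/-- level 0 -/
noncomputable def kL0 : GLvl := ⟨0, kR0, kw0⟩

/-- level 1 -/
noncomputable def kL1 : GLvl := ⟨283, kR1, kw1⟩

/-- level 2 -/
noncomputable def kL2 : GLvl := ⟨8026, kR2, kw2⟩

/-- level 3 -/
noncomputable def kL3 : GLvl := ⟨11021, kR3, kw3⟩

/-- level 4 -/
noncomputable def kL4 : GLvl := ⟨161738, kR4, kw4⟩

/-- level 5 -/
noncomputable def kL5 : GLvl := ⟨97792, kR5, kw5⟩

/-- level 6 -/
noncomputable def kL6 : GLvl := ⟨201526, kR6, kw6⟩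

/-- level 7 -/
noncomputable def kL7 : GLvl := ⟨223755, kR7, kw7⟩

/-- the levels -/
noncomputable def kLs : List GLvl := [kL0, kL1, kL2, kL3, kL4, kL5, kL6, kL7]

theorem kchain : ChainOK TT phi 12 [] kLs :=
  ⟨⟨show (0 : ℕ) < 306936 by norm_num, kletters0, kfix0, korb0⟩,
   ⟨show (283 : ℕ) < 306936 by norm_num, kletters1, kfix1, korb1⟩,
   ⟨show (8026 : ℕ) < 306936 by norm_num, kletters2, kfix2, korb2⟩,
   ⟨show (11021 : ℕ) < 306936 by norm_num, kletters3, kfix3, korb3⟩,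
   ⟨show (161738 : ℕ) < 306936 by norm_num, kletters4, kfix4, korb4⟩,
   ⟨show (97792 : ℕ) < 306936 by norm_num, kletters5, kfix5, korb5⟩,
   ⟨show (201526 : ℕ) < 306936 by norm_num, kletters6, kfix6, korb6⟩,
   ⟨show (223755 : ℕ) < 306936 by norm_num, kletters7, kfix7, korb7⟩, trivial⟩

theorem kisBase : IsBase phi ([223755, 201526, 97792, 161738, 11021, 8026, 283, 0] : List ℕ) :=
  isBase_of_card phi _ kcards.2.2.2.2.2.2.2

end Cfsg.Agent.Lib.H17.Fi24Out
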