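import Cfsg.Agent.Lib.H17.Fi24Out.ElD
import Cfsg.Agent.Lib.H17.Fi24Out.ChainD

set_option autoImplicit false
set_option maxRecDepth 1000000

/-! # Elements of orders 28 and 21 of Fi24 commuting with `dE`, and relations (generated) -/

namespace Cfsg.Agent.Lib.H17.Fi24Out

open Cfsg.Agent.Lib.H17.CosetCert Cfsg.Agent.Lib.H17.Sgs Cfsg.Agent.Lib.H17.Sift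
  Cfsg.Agent.Lib.H17.PermActs Cfsg.Agent.Lib.H6.PermTab Cfsg.Agent.Lib.H6.PermFast
  Cfsg.Agent.Lib.H17.GSift Cfsg.Agent.Lib.H17.Fi24S Cfsg.Agent.Lib.H6.FiIndex
  Cfsg.Agent.Lib.H17.OutChunks Cfsg.Agent.Lib.H17.OutTools Cfsg.Agent.Lib.H17.ConjTest

attribute [local instance] finG

/-- the word of `eE` -/
def wE : List ℕ :=
  [11, 7, 6, 8, 7, 5, 4, 6, 5, 10, 5, 6, 4, 5, 7, 8, 6, 7, 9, 8, 7, 6, 8, 7, 5, 4, 6, 5, 10, 5, 6, 4,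
    5, 7, 8, 6, 7, 9, 11, 7, 6, 8, 7, 3, 2, 4, 3, 5, 4, 6, 5, 10, 5, 6, 4, 5, 3, 4, 2, 3, 5, 4, 6,
    5, 10, 5, 6, 4, 5, 7, 8, 6, 7, 11, 9, 7, 6, 8, 7, 3, 2, 4, 3, 5, 4, 6, 5, 10, 5, 6, 4, 5, 3, 4,
    2, 3, 7, 8, 6, 7, 8, 9, 7, 6, 8, 7, 5, 4, 6, 5, 10, 5, 6, 4, 5, 7, 8, 6, 7, 9, 8, 7, 6, 8, 7, 5,
    4, 6, 5, 10, 5, 6, 4, 5, 7, 8, 6, 7, 9, 11, 7, 6, 8, 7, 3, 2, 4, 3, 5, 4, 6, 5, 10, 5, 6, 4, 5,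
    3, 4, 2, 3, 5, 4, 6, 5, 10, 5, 6, 4, 5, 7, 8, 6, 7, 11, 9, 7, 6, 8, 7, 3, 2, 4, 3, 5, 4, 6, 5,
    10, 5, 6, 4, 5, 3, 4, 2, 3, 7, 8, 6, 7, 8, 9, 11, 5, 4, 6, 5, 10, 5, 6, 4, 5, 7, 6, 8, 7, 5, 4,
    6, 5, 10, 5, 6, 4, 5, 7, 8, 6, 7, 11, 7, 6, 8, 7, 5, 4, 6, 5, 10, 5, 6, 4, 5, 7, 8, 6, 7, 9, 8,
    7, 6, 8, 7, 5, 4, 6, 5, 10, 5, 6, 4, 5, 7, 8, 6, 7, 9, 11, 7, 6, 8, 7, 3, 2, 4, 3, 5, 4, 6, 5,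
    10, 5, 6, 4, 5, 3, 4, 2, 3, 5, 4, 6, 5, 10, 5, 6, 4, 5, 7, 8, 6, 7, 11, 9, 7, 6, 8, 7, 3, 2, 4,
    3, 5, 4, 6, 5, 10, 5, 6, 4, 5, 3, 4, 2, 3, 7, 8, 6, 7, 8, 9, 7, 6, 8, 7, 5, 4, 6, 5, 10, 5, 6,
    4, 5, 7, 8, 6, 7, 9, 8, 7, 6, 8, 7, 5, 4, 6, 5, 10, 5, 6, 4, 5, 7, 8, 6, 7, 9, 11, 7, 6, 8, 7,
    3, 2, 4, 3, 5, 4, 6, 5, 10, 5, 6, 4, 5, 3, 4, 2, 3, 5, 4, 6, 5, 10, 5, 6, 4, 5, 7, 8, 6, 7, 11,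
    9, 7, 6, 8, 7, 3, 2, 4, 3, 5, 4, 6, 5, 10, 5, 6, 4, 5, 3, 4, 2, 3, 7, 8, 6, 7, 8, 9, 11, 7, 6,
    8, 7, 5, 4, 6, 5, 10, 5, 6, 4, 5, 7, 8, 6, 7, 5, 4, 6, 5, 10, 5, 6, 4, 5, 11, 7, 6, 8, 7, 5, 4,
    6, 5, 10, 5, 6, 4, 5, 7, 8, 6, 7, 9, 8, 7, 6, 8, 7, 5, 4, 6, 5, 10, 5, 6, 4, 5, 7, 8, 6, 7, 9,
    11, 7, 6, 8, 7, 3, 2, 4, 3, 5, 4, 6, 5, 10, 5, 6, 4, 5, 3, 4, 2, 3, 5, 4, 6, 5, 10, 5, 6, 4, 5,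
    7, 8, 6, 7, 11, 9, 7, 6, 8, 7, 3, 2, 4, 3, 5, 4, 6, 5, 10, 5, 6, 4, 5, 3, 4, 2, 3, 7, 8, 6, 7,
    8, 9, 7, 6, 8, 7, 5, 4, 6, 5, 10, 5, 6, 4, 5, 7, 8, 6, 7, 9, 8, 7, 6, 8, 7, 5, 4, 6, 5, 10, 5,
    6, 4, 5, 7, 8, 6, 7, 9, 11, 7, 6, 8, 7, 3, 2, 4, 3, 5, 4, 6, 5, 10, 5, 6, 4, 5, 3, 4, 2, 3, 5,
    4, 6, 5, 10, 5, 6, 4, 5, 7, 8, 6, 7, 11, 9, 7, 6, 8, 7, 3, 2, 4, 3, 5, 4, 6, 5, 10, 5, 6, 4, 5,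
    3, 4, 2, 3, 7, 8, 6, 7, 8, 9, 11, 7, 6, 8, 7, 5, 4, 6, 5, 10, 5, 6, 4, 5, 7, 8, 6, 7, 5, 4, 6,
    5, 10, 5, 6, 4, 5, 7, 6, 8, 7, 5, 4, 6, 5, 10, 5, 6, 4, 5, 7, 8, 6, 7, 11, 7, 6, 8, 7, 5, 4, 6,
    5, 10, 5, 6, 4, 5, 7, 8, 6, 7, 9, 8, 7, 6, 8, 7, 5, 4, 6, 5, 10, 5, 6, 4, 5, 7, 8, 6, 7, 9, 11,
    7, 6, 8, 7, 3, 2, 4, 3, 5, 4, 6, 5, 10, 5, 6, 4, 5, 3, 4, 2, 3, 5, 4, 6, 5, 10, 5, 6, 4, 5, 7,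
    8, 6, 7, 11, 9, 7, 6, 8, 7, 3, 2, 4, 3, 5, 4, 6, 5, 10, 5, 6, 4, 5, 3, 4, 2, 3, 7, 8, 6, 7, 8,
    9, 7, 6, 8, 7, 5, 4, 6, 5, 10, 5, 6, 4, 5, 7, 8, 6, 7, 9, 8, 7, 6, 8, 7, 5, 4, 6, 5, 10, 5, 6,
    4, 5, 7, 8, 6, 7, 9, 11, 7, 6, 8, 7, 3, 2, 4, 3, 5, 4, 6, 5, 10, 5, 6, 4, 5, 3, 4, 2, 3, 5, 4,
    6, 5, 10, 5, 6, 4, 5, 7, 8, 6, 7, 11, 9, 7, 6, 8, 7, 3, 2, 4, 3, 5, 4, 6, 5, 10, 5, 6, 4, 5, 3,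
    4, 2, 3, 7, 8, 6, 7, 8, 9, 11, 9, 8, 7, 6, 8, 7, 5, 4, 6, 5, 10, 5, 6, 4, 5, 7, 8, 6, 7, 9, 11,
    7, 6, 8, 7, 3, 2, 4, 3, 5, 4, 6, 5, 10, 5, 6, 4, 5, 3, 4, 2, 3, 5, 4, 6, 5, 10, 5, 6, 4, 5, 7,
    8, 6, 7, 11, 9, 7, 6, 8, 7, 3, 2, 4, 3, 5, 4, 6, 5, 10, 5, 6, 4, 5, 3, 4, 2, 3, 7, 8, 6, 7, 8,
    9, 5, 4, 6, 5, 10, 5, 6, 4, 5, 9, 8, 7, 6, 8, 7, 3, 2, 4, 3, 5, 4, 6, 5, 10, 5, 6, 4, 5, 3, 4,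
    2, 3, 7, 8, 6, 7, 9, 11, 7, 6, 8, 7, 5, 4, 6, 5, 10, 5, 6, 4, 5, 3, 2, 4, 3, 5, 4, 6, 5, 10, 5,
    6, 4, 5, 3, 4, 2, 3, 7, 8, 6, 7, 11, 9, 7, 6, 8, 7, 5, 4, 6, 5, 10, 5, 6, 4, 5, 7, 8, 6, 7, 8,
    9, 5, 4, 6, 5, 10, 5, 6, 4, 5, 11, 7, 6, 8, 7, 5, 4, 6, 5, 10, 5, 6, 4, 5, 7, 8, 6, 7, 9, 8, 7,
    6, 8, 7, 5, 4, 6, 5, 10, 5, 6, 4, 5, 7, 8, 6, 7, 9, 11, 7, 6, 8, 7, 3, 2, 4, 3, 5, 4, 6, 5, 10,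
    5, 6, 4, 5, 3, 4, 2, 3, 5, 4, 6, 5, 10, 5, 6, 4, 5, 7, 8, 6, 7, 11, 9, 7, 6, 8, 7, 3, 2, 4, 3,
    5, 4, 6, 5, 10, 5, 6, 4, 5, 3, 4, 2, 3, 7, 8, 6, 7, 8, 9, 7, 6, 8, 7, 5, 4, 6, 5, 10, 5, 6, 4,
    5, 7, 8, 6, 7, 9, 8, 7, 6, 8, 7, 5, 4, 6, 5, 10, 5, 6, 4, 5, 7, 8, 6, 7, 9, 11, 7, 6, 8, 7, 3,
    2, 4, 3, 5, 4, 6, 5, 10, 5, 6, 4, 5, 3, 4, 2, 3, 5, 4, 6, 5, 10, 5, 6, 4, 5, 7, 8, 6, 7, 11, 9,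
    7, 6, 8, 7, 3, 2, 4, 3, 5, 4, 6, 5, 10, 5, 6, 4, 5, 3, 4, 2, 3, 7, 8, 6, 7, 8, 9, 11, 5, 4, 6,
    5, 10, 5, 6, 4, 5, 9, 8, 7, 6, 8, 7, 3, 2, 4, 3, 5, 4, 6, 5, 10, 5, 6, 4, 5, 3, 4, 2, 3, 7, 8,
    6, 7, 9, 11, 7, 6, 8, 7, 5, 4, 6, 5, 10, 5, 6, 4, 5, 3, 2, 4, 3, 5, 4, 6, 5, 10, 5, 6, 4, 5, 3,
    4, 2, 3, 7, 8, 6, 7, 11, 9, 7, 6, 8, 7, 5, 4, 6, 5, 10, 5, 6, 4, 5, 7, 8, 6, 7, 8, 9, 5, 4, 6,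
    5, 10, 5, 6, 4, 5, 9, 8, 7, 6, 8, 7, 5, 4, 6, 5, 10, 5, 6, 4, 5, 7, 8, 6, 7, 9, 11, 7, 6, 8, 7,
    3, 2, 4, 3, 5, 4, 6, 5, 10, 5, 6, 4, 5, 3, 4, 2, 3, 5, 4, 6, 5, 10, 5, 6, 4, 5, 7, 8, 6, 7, 11,
    9, 7, 6, 8, 7, 3, 2, 4, 3, 5, 4, 6, 5, 10, 5, 6, 4, 5, 3, 4, 2, 3, 7, 8, 6, 7, 8, 9, 11, 5, 4,
    6, 5, 10, 5, 6, 4, 5, 9, 8, 7, 6, 8, 7, 5, 4, 6, 5, 10, 5, 6, 4, 5, 7, 8, 6, 7, 9, 11, 7, 6, 8,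
    7, 3, 2, 4, 3, 5, 4, 6, 5, 10, 5, 6, 4, 5, 3, 4, 2, 3, 5, 4, 6, 5, 10, 5, 6, 4, 5, 7, 8, 6, 7,
    11, 9, 7, 6, 8, 7, 3, 2, 4, 3, 5, 4, 6, 5, 10, 5, 6, 4, 5, 3, 4, 2, 3, 7, 8, 6, 7, 8, 9, 5, 4,
    6, 5, 10, 5, 6, 4, 5, 9, 8, 7, 6, 8, 7, 3, 2, 4, 3, 5, 4, 6, 5, 10, 5, 6, 4, 5, 3, 4, 2, 3, 7,
    8, 6, 7, 9, 11, 7, 5, 4, 6, 5, 10, 5, 6, 4, 5, 11, 3, 2, 4, 3, 5, 4, 6, 5, 10, 5, 6, 4, 5, 3, 4,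
    2, 3, 7, 8, 9, 7, 8, 5, 6, 7, 8, 9, 10, 5, 3, 2, 4, 3, 5, 4, 6, 5, 10, 5, 6, 4, 5, 3, 4, 2, 3,
    7, 8, 11, 3, 4, 5, 6, 7, 8, 9, 10, 5, 4, 3, 6, 5, 1, 2, 3, 4, 5, 6, 7, 8, 9, 10, 5, 4, 3, 6, 5,
    7, 8, 10, 11, 10, 5, 4, 3, 2, 1, 6, 5, 7, 6, 8, 9, 10, 5, 4, 3, 11, 10, 5, 4]

theorem wE_lt : ∀ x ∈ wE, x < 12 := by
  decide

/-- an element of order 28, outside the derived subgroup -/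
noncomputable def eE : G := wordElt E wE

/-- the action of `eE` -/
noncomputable def aE (p : ℕ) : ℕ := applyW TT wE p

theorem acts_eE : Acts phi eE aE := acts_wordElt lettersOK wE wE_lt

/-- the word of `tE` -/
def wT : List ℕ :=
  [8, 11, 7, 6, 8, 7, 5, 4, 6, 5, 10, 5, 6, 4, 5, 7, 8, 6, 7, 9, 8, 7, 6, 8, 7, 5, 4, 6, 5, 10, 5, 6,
    4, 5, 7, 8, 6, 7, 9, 11, 7, 6, 8, 7, 3, 2, 4, 3, 5, 4, 6, 5, 10, 5, 6, 4, 5, 3, 4, 2, 3, 5, 4,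
    6, 5, 10, 5, 6, 4, 5, 7, 8, 6, 7, 11, 9, 7, 6, 8, 7, 3, 2, 4, 3, 5, 4, 6, 5, 10, 5, 6, 4, 5, 3,
    4, 2, 3, 7, 8, 6, 7, 8, 9, 7, 6, 8, 7, 5, 4, 6, 5, 10, 5, 6, 4, 5, 7, 8, 6, 7, 9, 8, 7, 6, 8, 7,
    5, 4, 6, 5, 10, 5, 6, 4, 5, 7, 8, 6, 7, 9, 11, 7, 6, 8, 7, 3, 2, 4, 3, 5, 4, 6, 5, 10, 5, 6, 4,
    5, 3, 4, 2, 3, 5, 4, 6, 5, 10, 5, 6, 4, 5, 7, 8, 6, 7, 11, 9, 7, 6, 8, 7, 3, 2, 4, 3, 5, 4, 6,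
    5, 10, 5, 6, 4, 5, 3, 4, 2, 3, 7, 8, 6, 7, 8, 9, 11, 5, 4, 6, 5, 10, 5, 6, 4, 5, 7, 6, 8, 7, 5,
    4, 6, 5, 10, 5, 6, 4, 5, 7, 8, 6, 7, 11, 7, 6, 8, 7, 5, 4, 6, 5, 10, 5, 6, 4, 5, 7, 8, 6, 7, 9,
    8, 7, 6, 8, 7, 5, 4, 6, 5, 10, 5, 6, 4, 5, 7, 8, 6, 7, 9, 11, 7, 6, 8, 7, 3, 2, 4, 3, 5, 4, 6,
    5, 10, 5, 6, 4, 5, 3, 4, 2, 3, 5, 4, 6, 5, 10, 5, 6, 4, 5, 7, 8, 6, 7, 11, 9, 7, 6, 8, 7, 3, 2,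
    4, 3, 5, 4, 6, 5, 10, 5, 6, 4, 5, 3, 4, 2, 3, 7, 8, 6, 7, 8, 9, 7, 6, 8, 7, 5, 4, 6, 5, 10, 5,
    6, 4, 5, 7, 8, 6, 7, 9, 8, 7, 6, 8, 7, 5, 4, 6, 5, 10, 5, 6, 4, 5, 7, 8, 6, 7, 9, 11, 7, 6, 8,
    7, 3, 2, 4, 3, 5, 4, 6, 5, 10, 5, 6, 4, 5, 3, 4, 2, 3, 5, 4, 6, 5, 10, 5, 6, 4, 5, 7, 8, 6, 7,
    11, 9, 7, 6, 8, 7, 3, 2, 4, 3, 5, 4, 6, 5, 10, 5, 6, 4, 5, 3, 4, 2, 3, 7, 8, 6, 7, 8, 9, 11, 7,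
    6, 8, 7, 5, 4, 6, 5, 10, 5, 6, 4, 5, 7, 8, 6, 7, 11, 9, 8, 7, 6, 8, 7, 3, 2, 4, 3, 5, 4, 6, 5,
    10, 5, 6, 4, 5, 3, 4, 2, 3, 7, 8, 6, 7, 9, 11, 7, 6, 8, 7, 5, 4, 6, 5, 10, 5, 6, 4, 5, 3, 2, 4,
    3, 5, 4, 6, 5, 10, 5, 6, 4, 5, 3, 4, 2, 3, 7, 8, 6, 7, 11, 9, 7, 6, 8, 7, 5, 4, 6, 5, 10, 5, 6,
    4, 5, 7, 8, 6, 7, 8, 9, 7, 6, 8, 7, 5, 4, 6, 5, 10, 5, 6, 4, 5, 7, 8, 6, 7, 9, 8, 7, 6, 8, 7, 3,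
    2, 4, 3, 5, 4, 6, 5, 10, 5, 6, 4, 5, 3, 4, 2, 3, 7, 8, 6, 7, 9, 11, 7, 6, 8, 7, 5, 4, 6, 5, 10,
    5, 6, 4, 5, 3, 2, 4, 3, 5, 4, 6, 5, 10, 5, 6, 4, 5, 3, 4, 2, 3, 7, 8, 6, 7, 11, 9, 7, 6, 8, 7,
    5, 4, 6, 5, 10, 5, 6, 4, 5, 7, 8, 6, 7, 8, 9, 7, 6, 8, 7, 5, 4, 6, 5, 10, 5, 6, 4, 5, 7, 8, 6,
    7, 11, 7, 6, 8, 7, 5, 4, 6, 5, 10, 5, 6, 4, 5, 7, 8, 6, 7, 9, 8, 7, 6, 8, 7, 5, 4, 6, 5, 10, 5,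
    6, 4, 5, 3, 2, 4, 3, 5, 4, 6, 5, 10, 5, 6, 4, 5, 3, 4, 2, 3, 7, 5, 4, 6, 5, 10, 5, 6, 4, 5, 3,
    2, 4, 3, 5, 4, 6, 5, 10, 5, 6, 4, 5, 3, 4, 2, 3, 11, 5, 6, 7, 8, 9, 10, 5, 6, 7, 8, 11, 10, 5,
    6, 7, 3, 2, 4, 3, 5, 4, 6, 5, 10, 5, 6, 4, 5, 3, 4, 2, 3, 7, 6, 4, 5, 3, 4, 5, 6, 7, 8, 9, 10,
    5, 4, 3, 6, 5, 4, 7, 8, 11, 10, 5, 4, 6, 5, 7, 6, 10, 5, 4, 3, 11, 1, 0, 2, 3, 4, 5, 6, 7, 8,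
    10, 5, 4, 3, 2, 6, 5, 7, 6, 11, 10, 5, 4, 3, 6, 5, 4, 10, 11]

theorem wT_lt : ∀ x ∈ wT, x < 12 := by
  decide

/-- an element of order 21 -/
noncomputable def tE : G := wordElt E wT

/-- the action of `tE` -/
noncomputable def aT (p : ℕ) : ℕ := applyW TT wT p

theorem acts_tE : Acts phi tE aT := acts_wordElt lettersOK wT wT_lt

theorem hes' : eE * sE = sE ^ 3 * eE := by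
  apply eq_of_acts kisBase kbase_lt (acts_eE.mul acts_sE) ((acts_sE.pow 3).mul acts_eE)
  decide +kernel

theorem hee : eE * eE = dE := by
  apply eq_of_acts kisBase kbase_lt (acts_eE.mul acts_eE) acts_dE
  decide +kernel

theorem htd : tE * dE = dE * tE := by
  apply eq_of_acts kisBase kbase_lt (acts_tE.mul acts_dE) (acts_dE.mul acts_tE)
  decide +kernel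

theorem tE_pow : tE ^ 21 = 1 := by
  apply eq_of_acts kisBase kbase_lt (acts_tE.pow 21) Acts.one
  decide +kernel

theorem sE_pow : sE ^ 29 = 1 := by
  apply eq_of_acts kisBase kbase_lt (acts_sE.pow 29) Acts.one
  decide +kernel

theorem dE_pow : dE ^ 14 = 1 := by
  apply eq_of_acts kisBase kbase_lt (acts_dE.pow 14) Acts.one
  decide +kernel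

theorem hth : eE * tE = dE ^ 8 * tE ^ 2 * eE := by
  apply eq_of_acts kisBase kbase_lt (acts_eE.mul acts_tE)
    ((((acts_dE.pow 8).mul (acts_tE.pow 2))).mul acts_eE)
  decide +kernel

end Cfsg.Agent.Lib.H17.Fi24Out
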