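import Cfsg.Agent.Lib.H17.Fi24Out.ElET

set_option autoImplicit false
set_option maxRecDepth 1000000

/-! # The derived subgroup of Fi24 is generated by `sE`, `dE`, `tE` (generated) -/

namespace Cfsg.Agent.Lib.H17.Fi24Out

open Cfsg.Agent.Lib.H17.CosetCert Cfsg.Agent.Lib.H17.Sgs Cfsg.Agent.Lib.H17.Sift
  Cfsg.Agent.Lib.H17.PermActs Cfsg.Agent.Lib.H6.PermTab Cfsg.Agent.Lib.H6.PermFast
  Cfsg.Agent.Lib.H17.GSift Cfsg.Agent.Lib.H17.Fi24S Cfsg.Agent.Lib.H6.FiIndex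
  Cfsg.Agent.Lib.H17.OutChunks Cfsg.Agent.Lib.H17.OutTools Cfsg.Agent.Lib.H17.ConjTest

attribute [local instance] finG

/-- the three elements -/
noncomputable def vals3 : List G := [sE, dE, tE]

/-- their actions -/
noncomputable def As3 : List (ℕ → ℕ) := [aS, aD, aT]

theorem hA3 : List.Forall₂ (fun x A => Acts phi x A) vals3 As3 :=
  List.Forall₂.cons acts_sE (List.Forall₂.cons acts_dE (List.Forall₂.cons acts_tE List.Forall₂.nil))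

/-- a word whose power with exponent 18 is a product of two commuting transpositions -/
def U0 : List ℕ := [0, 1, 2]

/-- a product of two commuting transpositions -/
noncomputable def zE : G := evalW vals3 U0 ^ 18

theorem acts_zE : Acts phi zE (iterA (evalA As3 U0) 18) := (acts_evalW _ _ hA3 U0).pow 18

theorem gen_conj_aux (a b : ℕ) (ha : a < 12) (hb : b < 12) (w : List ℕ)
    (h : ∀ c ∈ ([223755, 201526, 97792, 161738, 11021, 8026, 283, 0] : List ℕ),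
      TT a (TT b (evalA As3 w c)) = evalA As3 w (iterA (evalA As3 U0) 18 c)) :
    E a * E b * evalW vals3 w = evalW vals3 w * zE :=
  eq_of_acts kisBase kbase_lt (((lettersOK a ha).mul (lettersOK b hb)).mul (acts_evalW _ _ hA3 w))
    ((acts_evalW _ _ hA3 w).mul acts_zE) h

theorem forall_base {P : ℕ → Prop} (h1 : ∀ c ∈ ([223755, 201526] : List ℕ), P c)
    (h2 : ∀ c ∈ ([97792, 161738] : List ℕ), P c) (h3 : ∀ c ∈ ([11021, 8026] : List ℕ), P c)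
    (h4 : ∀ c ∈ ([283, 0] : List ℕ), P c) :
    ∀ c ∈ ([223755, 201526, 97792, 161738, 11021, 8026, 283, 0] : List ℕ), P c := by
  intro c hc
  simp only [List.mem_cons, List.not_mem_nil, or_false] at hc
  rcases hc with rfl | rfl | rfl | rfl | rfl | rfl | rfl | rfl
  · exact h1 _ (by simp)
  · exact h1 _ (by simp)
  · exact h2 _ (by simp)
  · exact h2 _ (by simp)
  · exact h3 _ (by simp)
  · exact h3 _ (by simp)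
  · exact h4 _ (by simp)
  · exact h4 _ (by simp)

/-- a word conjugating `zE` to the product of the letters 0 and 2 -/
def HW0 : List ℕ :=
  [2, 0, 0, 2, 0, 0, 0, 0, 2, 1, 0, 0, 0, 1, 1, 1, 1, 1, 1, 1, 0, 1, 0, 1, 1, 2, 1, 1, 0, 1, 0, 2, 1,
    1, 0, 0, 1, 2, 0, 1, 2, 0, 1, 2, 0, 1, 2, 1, 1, 1, 1, 1, 1, 0, 1, 0, 1, 1, 2, 1, 1, 0, 1, 0, 2,
    1, 1, 0, 0, 1, 2, 0, 1, 2, 1, 1, 1, 1, 1, 1, 0, 1, 0, 1, 1, 2, 1, 1, 0, 1, 0, 2, 1, 1, 0, 1, 1,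
    1, 1, 1, 1, 0, 1, 0, 1, 1, 2, 1, 1, 0, 1, 0, 2, 1, 1, 0, 1, 1, 1, 1, 1, 1, 0, 1, 0, 1, 1, 2, 1,
    1, 0, 1, 0, 2, 1, 1, 0, 0, 1, 2, 0, 1, 2, 1, 1, 1, 1, 1, 1, 0, 1, 0, 1, 1, 2, 1, 1, 0, 1, 0, 2,
    1, 1, 0, 0, 1, 2, 0, 1, 2, 1, 1, 1, 1, 1, 1, 0, 1, 0, 1, 1, 2, 1, 1, 0, 1, 0, 2, 1, 1, 0]

theorem gc0_0 : ∀ c ∈ ([223755, 201526] : List ℕ),
    TT 0 (TT 2 (evalA As3 HW0 c)) = evalA As3 HW0 (iterA (evalA As3 U0) 18 c) := by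
  decide +kernel

theorem gc0_1 : ∀ c ∈ ([97792, 161738] : List ℕ),
    TT 0 (TT 2 (evalA As3 HW0 c)) = evalA As3 HW0 (iterA (evalA As3 U0) 18 c) := by
  decide +kernel

theorem gc0_2 : ∀ c ∈ ([11021, 8026] : List ℕ),
    TT 0 (TT 2 (evalA As3 HW0 c)) = evalA As3 HW0 (iterA (evalA As3 U0) 18 c) := by
  decide +kernel

theorem gc0_3 : ∀ c ∈ ([283, 0] : List ℕ),
    TT 0 (TT 2 (evalA As3 HW0 c)) = evalA As3 HW0 (iterA (evalA As3 U0) 18 c) := by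
  decide +kernel

theorem gen_conj0 : E 0 * E 2 * evalW vals3 HW0 = evalW vals3 HW0 * zE :=
  gen_conj_aux 0 2 (by norm_num) (by norm_num) HW0 (forall_base gc0_0 gc0_1 gc0_2 gc0_3)

/-- a word conjugating `zE` to the product of the letters 0 and 3 -/
def HW1 : List ℕ :=
  [1, 0, 1, 0, 2, 1, 0, 2, 1, 0, 0, 0, 0, 0, 2, 0, 0, 1, 1, 1, 1, 1, 1, 0, 1, 0, 1, 1, 2, 1, 1, 0, 1,
    0, 2, 1, 1, 0, 1, 1, 1, 1, 1, 1, 0, 1, 0, 1, 1, 2, 1, 1, 0, 1, 0, 2, 1, 1, 0, 1, 1, 1, 1, 1, 1,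
    0, 1, 0, 1, 1, 2, 1, 1, 0, 1, 0, 2, 1, 1, 0, 1, 1, 1, 1, 1, 1, 0, 1, 0, 1, 1, 2, 1, 1, 0, 1, 0,
    2, 1, 1, 0, 0, 1, 2, 0, 1, 2, 0, 1, 2, 0, 1, 2, 1, 1, 1, 1, 1, 1, 0, 1, 0, 1, 1, 2, 1, 1, 0, 1,
    0, 2, 1, 1, 0, 0, 1, 2, 0, 1, 2, 1, 1, 1, 1, 1, 1, 0, 1, 0, 1, 1, 2, 1, 1, 0, 1, 0, 2, 1, 1, 0,
    1, 1, 1, 1, 1, 1, 0, 1, 0, 1, 1, 2, 1, 1, 0, 1, 0, 2, 1, 1, 0, 1, 1, 1, 1, 1, 1, 0, 1, 0, 1, 1,
    2, 1, 1, 0, 1, 0, 2, 1, 1, 0, 0, 1, 2, 0, 1, 2, 0, 1, 2, 0, 1, 2, 1, 1, 1, 1, 1, 1, 0, 1, 0, 1,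
    1, 2, 1, 1, 0, 1, 0, 2, 1, 1, 0, 1, 1, 1, 1, 1, 1, 0, 1, 0, 1, 1, 2, 1, 1, 0, 1, 0, 2, 1, 1, 0]

theorem gc1_0 : ∀ c ∈ ([223755, 201526] : List ℕ),
    TT 0 (TT 3 (evalA As3 HW1 c)) = evalA As3 HW1 (iterA (evalA As3 U0) 18 c) := by
  decide +kernel

theorem gc1_1 : ∀ c ∈ ([97792, 161738] : List ℕ),
    TT 0 (TT 3 (evalA As3 HW1 c)) = evalA As3 HW1 (iterA (evalA As3 U0) 18 c) := by
  decide +kernel

theorem gc1_2 : ∀ c ∈ ([11021, 8026] : List ℕ),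
    TT 0 (TT 3 (evalA As3 HW1 c)) = evalA As3 HW1 (iterA (evalA As3 U0) 18 c) := by
  decide +kernel

theorem gc1_3 : ∀ c ∈ ([283, 0] : List ℕ),
    TT 0 (TT 3 (evalA As3 HW1 c)) = evalA As3 HW1 (iterA (evalA As3 U0) 18 c) := by
  decide +kernel

theorem gen_conj1 : E 0 * E 3 * evalW vals3 HW1 = evalW vals3 HW1 * zE :=
  gen_conj_aux 0 3 (by norm_num) (by norm_num) HW1 (forall_base gc1_0 gc1_1 gc1_2 gc1_3)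

/-- a word conjugating `zE` to the product of the letters 0 and 4 -/
def HW2 : List ℕ :=
  [0, 0, 0, 2, 0, 2, 0, 1, 1, 1, 1, 1, 1, 1, 1, 1, 1, 0, 1, 0, 1, 1, 2, 1, 1, 0, 1, 0, 2, 1, 1, 0, 0,
    1, 2, 0, 1, 2, 0, 1, 2, 0, 1, 2, 0, 1, 2, 0, 1, 2, 1, 1, 1, 1, 1, 1, 0, 1, 0, 1, 1, 2, 1, 1, 0,
    1, 0, 2, 1, 1, 0, 1, 1, 1, 1, 1, 1, 0, 1, 0, 1, 1, 2, 1, 1, 0, 1, 0, 2, 1, 1, 0, 0, 1, 2, 0, 1,
    2, 1, 1, 1, 1, 1, 1, 0, 1, 0, 1, 1, 2, 1, 1, 0, 1, 0, 2, 1, 1, 0, 1, 1, 1, 1, 1, 1, 0, 1, 0, 1,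
    1, 2, 1, 1, 0, 1, 0, 2, 1, 1, 0, 0, 1, 2, 0, 1, 2, 1, 1, 1, 1, 1, 1, 0, 1, 0, 1, 1, 2, 1, 1, 0,
    1, 0, 2, 1, 1, 0, 0, 1, 2, 0, 1, 2, 1, 1, 1, 1, 1, 1, 0, 1, 0, 1, 1, 2, 1, 1, 0, 1, 0, 2, 1, 1,
    0]

theorem gc2_0 : ∀ c ∈ ([223755, 201526] : List ℕ),
    TT 0 (TT 4 (evalA As3 HW2 c)) = evalA As3 HW2 (iterA (evalA As3 U0) 18 c) := by
  decide +kernel

theorem gc2_1 : ∀ c ∈ ([97792, 161738] : List ℕ),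
    TT 0 (TT 4 (evalA As3 HW2 c)) = evalA As3 HW2 (iterA (evalA As3 U0) 18 c) := by
  decide +kernel

theorem gc2_2 : ∀ c ∈ ([11021, 8026] : List ℕ),
    TT 0 (TT 4 (evalA As3 HW2 c)) = evalA As3 HW2 (iterA (evalA As3 U0) 18 c) := by
  decide +kernel

theorem gc2_3 : ∀ c ∈ ([283, 0] : List ℕ),
    TT 0 (TT 4 (evalA As3 HW2 c)) = evalA As3 HW2 (iterA (evalA As3 U0) 18 c) := by
  decide +kernel

theorem gen_conj2 : E 0 * E 4 * evalW vals3 HW2 = evalW vals3 HW2 * zE :=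
  gen_conj_aux 0 4 (by norm_num) (by norm_num) HW2 (forall_base gc2_0 gc2_1 gc2_2 gc2_3)

/-- a word conjugating `zE` to the product of the letters 0 and 5 -/
def HW3 : List ℕ :=
  [2, 0, 1, 0, 0, 2, 0, 0, 0, 2, 0, 0, 1, 1, 0, 1, 0, 1, 2, 0, 1, 2, 0, 1, 2, 0, 1, 2, 0, 1, 2, 0, 1,
    2, 0, 1, 2, 0, 1, 2, 0, 1, 2, 0, 1, 2, 0, 1, 2, 0, 1, 2, 1, 1, 1, 1, 1, 1, 0, 1, 0, 1, 1, 2, 1,
    1, 0, 1, 0, 2, 1, 1, 0, 1, 1, 1, 1, 1, 1, 0, 1, 0, 1, 1, 2, 1, 1, 0, 1, 0, 2, 1, 1, 0, 0, 1, 2,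
    0, 1, 2, 0, 1, 2, 0, 1, 2, 0, 1, 2, 0, 1, 2, 1, 1, 1, 1, 1, 1, 0, 1, 0, 1, 1, 2, 1, 1, 0, 1, 0,
    2, 1, 1, 0]

theorem gc3_0 : ∀ c ∈ ([223755, 201526] : List ℕ),
    TT 0 (TT 5 (evalA As3 HW3 c)) = evalA As3 HW3 (iterA (evalA As3 U0) 18 c) := by
  decide +kernel

theorem gc3_1 : ∀ c ∈ ([97792, 161738] : List ℕ),
    TT 0 (TT 5 (evalA As3 HW3 c)) = evalA As3 HW3 (iterA (evalA As3 U0) 18 c) := by
  decide +kernel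

theorem gc3_2 : ∀ c ∈ ([11021, 8026] : List ℕ),
    TT 0 (TT 5 (evalA As3 HW3 c)) = evalA As3 HW3 (iterA (evalA As3 U0) 18 c) := by
  decide +kernel

theorem gc3_3 : ∀ c ∈ ([283, 0] : List ℕ),
    TT 0 (TT 5 (evalA As3 HW3 c)) = evalA As3 HW3 (iterA (evalA As3 U0) 18 c) := by
  decide +kernel

theorem gen_conj3 : E 0 * E 5 * evalW vals3 HW3 = evalW vals3 HW3 * zE :=
  gen_conj_aux 0 5 (by norm_num) (by norm_num) HW3 (forall_base gc3_0 gc3_1 gc3_2 gc3_3)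

/-- a word conjugating `zE` to the product of the letters 0 and 6 -/
def HW4 : List ℕ :=
  [2, 0, 0, 2, 0, 0, 0, 0, 2, 1, 0, 0, 0, 1, 0, 1, 2, 0, 1, 2, 0, 1, 2, 0, 1, 2, 1, 1, 1, 1, 1, 1, 0,
    1, 0, 1, 1, 2, 1, 1, 0, 1, 0, 2, 1, 1, 0, 0, 1, 2, 0, 1, 2, 0, 1, 2, 0, 1, 2, 0, 1, 2, 0, 1, 2,
    1, 1, 1, 1, 1, 1, 0, 1, 0, 1, 1, 2, 1, 1, 0, 1, 0, 2, 1, 1, 0, 0, 1, 2, 0, 1, 2, 1, 1, 1, 1, 1,
    1, 0, 1, 0, 1, 1, 2, 1, 1, 0, 1, 0, 2, 1, 1, 0, 0, 1, 2, 0, 1, 2, 1, 1, 1, 1, 1, 1, 0, 1, 0, 1,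
    1, 2, 1, 1, 0, 1, 0, 2, 1, 1, 0, 1, 1, 1, 1, 1, 1, 0, 1, 0, 1, 1, 2, 1, 1, 0, 1, 0, 2, 1, 1, 0]

theorem gc4_0 : ∀ c ∈ ([223755, 201526] : List ℕ),
    TT 0 (TT 6 (evalA As3 HW4 c)) = evalA As3 HW4 (iterA (evalA As3 U0) 18 c) := by
  decide +kernel

theorem gc4_1 : ∀ c ∈ ([97792, 161738] : List ℕ),
    TT 0 (TT 6 (evalA As3 HW4 c)) = evalA As3 HW4 (iterA (evalA As3 U0) 18 c) := by
  decide +kernel

theorem gc4_2 : ∀ c ∈ ([11021, 8026] : List ℕ),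
    TT 0 (TT 6 (evalA As3 HW4 c)) = evalA As3 HW4 (iterA (evalA As3 U0) 18 c) := by
  decide +kernel

theorem gc4_3 : ∀ c ∈ ([283, 0] : List ℕ),
    TT 0 (TT 6 (evalA As3 HW4 c)) = evalA As3 HW4 (iterA (evalA As3 U0) 18 c) := by
  decide +kernel

theorem gen_conj4 : E 0 * E 6 * evalW vals3 HW4 = evalW vals3 HW4 * zE :=
  gen_conj_aux 0 6 (by norm_num) (by norm_num) HW4 (forall_base gc4_0 gc4_1 gc4_2 gc4_3)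

/-- a word conjugating `zE` to the product of the letters 0 and 7 -/
def HW5 : List ℕ :=
  [2, 0, 0, 2, 0, 0, 0, 0, 2, 1, 0, 0, 0, 1, 1, 1, 1, 1, 1, 1, 0, 1, 0, 1, 1, 2, 1, 1, 0, 1, 0, 2, 1,
    1, 0, 0, 1, 2, 0, 1, 2, 1, 1, 1, 1, 1, 1, 0, 1, 0, 1, 1, 2, 1, 1, 0, 1, 0, 2, 1, 1, 0, 1, 1, 1,
    1, 1, 1, 0, 1, 0, 1, 1, 2, 1, 1, 0, 1, 0, 2, 1, 1, 0, 0, 1, 2, 0, 1, 2, 0, 1, 2, 0, 1, 2, 1, 1,
    1, 1, 1, 1, 0, 1, 0, 1, 1, 2, 1, 1, 0, 1, 0, 2, 1, 1, 0, 0, 1, 2, 0, 1, 2, 0, 1, 2, 0, 1, 2, 1,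
    1, 1, 1, 1, 1, 0, 1, 0, 1, 1, 2, 1, 1, 0, 1, 0, 2, 1, 1, 0, 0, 1, 2, 0, 1, 2, 0, 1, 2, 0, 1, 2,
    0, 1, 2, 0, 1, 2, 0, 1, 2, 0, 1, 2, 1, 1, 1, 1, 1, 1, 0, 1, 0, 1, 1, 2, 1, 1, 0, 1, 0, 2, 1, 1,
    0]

theorem gc5_0 : ∀ c ∈ ([223755, 201526] : List ℕ),
    TT 0 (TT 7 (evalA As3 HW5 c)) = evalA As3 HW5 (iterA (evalA As3 U0) 18 c) := by
  decide +kernel

theorem gc5_1 : ∀ c ∈ ([97792, 161738] : List ℕ),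
    TT 0 (TT 7 (evalA As3 HW5 c)) = evalA As3 HW5 (iterA (evalA As3 U0) 18 c) := by
  decide +kernel

theorem gc5_2 : ∀ c ∈ ([11021, 8026] : List ℕ),
    TT 0 (TT 7 (evalA As3 HW5 c)) = evalA As3 HW5 (iterA (evalA As3 U0) 18 c) := by
  decide +kernel

theorem gc5_3 : ∀ c ∈ ([283, 0] : List ℕ),
    TT 0 (TT 7 (evalA As3 HW5 c)) = evalA As3 HW5 (iterA (evalA As3 U0) 18 c) := by
  decide +kernel

theorem gen_conj5 : E 0 * E 7 * evalW vals3 HW5 = evalW vals3 HW5 * zE :=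
  gen_conj_aux 0 7 (by norm_num) (by norm_num) HW5 (forall_base gc5_0 gc5_1 gc5_2 gc5_3)

/-- a word conjugating `zE` to the product of the letters 0 and 8 -/
def HW6 : List ℕ :=
  [0, 1, 0, 1, 1, 0, 2, 0, 0, 2, 0, 1, 1, 0, 0, 1, 2, 0, 1, 2, 1, 1, 1, 1, 1, 1, 0, 1, 0, 1, 1, 2, 1,
    1, 0, 1, 0, 2, 1, 1, 0, 1, 1, 1, 1, 1, 1, 0, 1, 0, 1, 1, 2, 1, 1, 0, 1, 0, 2, 1, 1, 0, 1, 1, 1,
    1, 1, 1, 0, 1, 0, 1, 1, 2, 1, 1, 0, 1, 0, 2, 1, 1, 0, 1, 1, 1, 1, 1, 1, 0, 1, 0, 1, 1, 2, 1, 1,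
    0, 1, 0, 2, 1, 1, 0, 1, 1, 1, 1, 1, 1, 0, 1, 0, 1, 1, 2, 1, 1, 0, 1, 0, 2, 1, 1, 0, 1, 1, 1, 1,
    1, 1, 0, 1, 0, 1, 1, 2, 1, 1, 0, 1, 0, 2, 1, 1, 0, 0, 1, 2, 0, 1, 2, 1, 1, 1, 1, 1, 1, 0, 1, 0,
    1, 1, 2, 1, 1, 0, 1, 0, 2, 1, 1, 0, 1, 1, 1, 1, 1, 1, 0, 1, 0, 1, 1, 2, 1, 1, 0, 1, 0, 2, 1, 1,
    0, 1, 1, 1, 1, 1, 1, 0, 1, 0, 1, 1, 2, 1, 1, 0, 1, 0, 2, 1, 1, 0, 0, 1, 2, 0, 1, 2, 0, 1, 2, 0,
    1, 2, 1, 1, 1, 1, 1, 1, 0, 1, 0, 1, 1, 2, 1, 1, 0, 1, 0, 2, 1, 1, 0]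

theorem gc6_0 : ∀ c ∈ ([223755, 201526] : List ℕ),
    TT 0 (TT 8 (evalA As3 HW6 c)) = evalA As3 HW6 (iterA (evalA As3 U0) 18 c) := by
  decide +kernel

theorem gc6_1 : ∀ c ∈ ([97792, 161738] : List ℕ),
    TT 0 (TT 8 (evalA As3 HW6 c)) = evalA As3 HW6 (iterA (evalA As3 U0) 18 c) := by
  decide +kernel

theorem gc6_2 : ∀ c ∈ ([11021, 8026] : List ℕ),
    TT 0 (TT 8 (evalA As3 HW6 c)) = evalA As3 HW6 (iterA (evalA As3 U0) 18 c) := by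
  decide +kernel

theorem gc6_3 : ∀ c ∈ ([283, 0] : List ℕ),
    TT 0 (TT 8 (evalA As3 HW6 c)) = evalA As3 HW6 (iterA (evalA As3 U0) 18 c) := by
  decide +kernel

theorem gen_conj6 : E 0 * E 8 * evalW vals3 HW6 = evalW vals3 HW6 * zE :=
  gen_conj_aux 0 8 (by norm_num) (by norm_num) HW6 (forall_base gc6_0 gc6_1 gc6_2 gc6_3)

/-- a word conjugating `zE` to the product of the letters 0 and 9 -/
def HW7 : List ℕ :=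
  [2, 0, 0, 2, 0, 0, 0, 0, 2, 1, 0, 0, 0, 1, 1, 1, 1, 1, 1, 1, 0, 1, 0, 1, 1, 2, 1, 1, 0, 1, 0, 2, 1,
    1, 0, 0, 1, 2, 0, 1, 2, 1, 1, 1, 1, 1, 1, 0, 1, 0, 1, 1, 2, 1, 1, 0, 1, 0, 2, 1, 1, 0, 1, 1, 1,
    1, 1, 1, 0, 1, 0, 1, 1, 2, 1, 1, 0, 1, 0, 2, 1, 1, 0, 1, 1, 1, 1, 1, 1, 0, 1, 0, 1, 1, 2, 1, 1,
    0, 1, 0, 2, 1, 1, 0, 0, 1, 2, 0, 1, 2, 1, 1, 1, 1, 1, 1, 0, 1, 0, 1, 1, 2, 1, 1, 0, 1, 0, 2, 1,
    1, 0, 1, 1, 1, 1, 1, 1, 0, 1, 0, 1, 1, 2, 1, 1, 0, 1, 0, 2, 1, 1, 0, 0, 1, 2, 0, 1, 2, 0, 1, 2,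
    0, 1, 2, 0, 1, 2, 0, 1, 2, 0, 1, 2, 0, 1, 2, 1, 1, 1, 1, 1, 1, 0, 1, 0, 1, 1, 2, 1, 1, 0, 1, 0,
    2, 1, 1, 0]

theorem gc7_0 : ∀ c ∈ ([223755, 201526] : List ℕ),
    TT 0 (TT 9 (evalA As3 HW7 c)) = evalA As3 HW7 (iterA (evalA As3 U0) 18 c) := by
  decide +kernel

theorem gc7_1 : ∀ c ∈ ([97792, 161738] : List ℕ),
    TT 0 (TT 9 (evalA As3 HW7 c)) = evalA As3 HW7 (iterA (evalA As3 U0) 18 c) := by
  decide +kernel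

theorem gc7_2 : ∀ c ∈ ([11021, 8026] : List ℕ),
    TT 0 (TT 9 (evalA As3 HW7 c)) = evalA As3 HW7 (iterA (evalA As3 U0) 18 c) := by
  decide +kernel

theorem gc7_3 : ∀ c ∈ ([283, 0] : List ℕ),
    TT 0 (TT 9 (evalA As3 HW7 c)) = evalA As3 HW7 (iterA (evalA As3 U0) 18 c) := by
  decide +kernel

theorem gen_conj7 : E 0 * E 9 * evalW vals3 HW7 = evalW vals3 HW7 * zE :=
  gen_conj_aux 0 9 (by norm_num) (by norm_num) HW7 (forall_base gc7_0 gc7_1 gc7_2 gc7_3)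

/-- a word conjugating `zE` to the product of the letters 0 and 10 -/
def HW8 : List ℕ :=
  [1, 1, 0, 0, 2, 0, 0, 1, 0, 2, 1, 0, 0, 0, 1, 0, 1, 1, 1, 1, 1, 1, 0, 1, 0, 1, 1, 2, 1, 1, 0, 1, 0,
    2, 1, 1, 0, 1, 1, 1, 1, 1, 1, 0, 1, 0, 1, 1, 2, 1, 1, 0, 1, 0, 2, 1, 1, 0, 1, 1, 1, 1, 1, 1, 0,
    1, 0, 1, 1, 2, 1, 1, 0, 1, 0, 2, 1, 1, 0, 1, 1, 1, 1, 1, 1, 0, 1, 0, 1, 1, 2, 1, 1, 0, 1, 0, 2,
    1, 1, 0, 0, 1, 2, 0, 1, 2, 0, 1, 2, 0, 1, 2, 1, 1, 1, 1, 1, 1, 0, 1, 0, 1, 1, 2, 1, 1, 0, 1, 0,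
    2, 1, 1, 0, 0, 1, 2, 0, 1, 2, 1, 1, 1, 1, 1, 1, 0, 1, 0, 1, 1, 2, 1, 1, 0, 1, 0, 2, 1, 1, 0]

theorem gc8_0 : ∀ c ∈ ([223755, 201526] : List ℕ),
    TT 0 (TT 10 (evalA As3 HW8 c)) = evalA As3 HW8 (iterA (evalA As3 U0) 18 c) := by
  decide +kernel

theorem gc8_1 : ∀ c ∈ ([97792, 161738] : List ℕ),
    TT 0 (TT 10 (evalA As3 HW8 c)) = evalA As3 HW8 (iterA (evalA As3 U0) 18 c) := by
  decide +kernel

theorem gc8_2 : ∀ c ∈ ([11021, 8026] : List ℕ),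
    TT 0 (TT 10 (evalA As3 HW8 c)) = evalA As3 HW8 (iterA (evalA As3 U0) 18 c) := by
  decide +kernel

theorem gc8_3 : ∀ c ∈ ([283, 0] : List ℕ),
    TT 0 (TT 10 (evalA As3 HW8 c)) = evalA As3 HW8 (iterA (evalA As3 U0) 18 c) := by
  decide +kernel

theorem gen_conj8 : E 0 * E 10 * evalW vals3 HW8 = evalW vals3 HW8 * zE :=
  gen_conj_aux 0 10 (by norm_num) (by norm_num) HW8 (forall_base gc8_0 gc8_1 gc8_2 gc8_3)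

/-- a word conjugating `zE` to the product of the letters 0 and 11 -/
def HW9 : List ℕ :=
  [2, 0, 0, 2, 0, 0, 0, 0, 2, 1, 0, 0, 0, 1, 0, 1, 2, 0, 1, 2, 0, 1, 2, 0, 1, 2, 0, 1, 2, 0, 1, 2, 0,
    1, 2, 0, 1, 2, 0, 1, 2, 0, 1, 2, 1, 1, 1, 1, 1, 1, 0, 1, 0, 1, 1, 2, 1, 1, 0, 1, 0, 2, 1, 1, 0,
    0, 1, 2, 0, 1, 2, 0, 1, 2, 0, 1, 2, 0, 1, 2, 0, 1, 2, 0, 1, 2, 0, 1, 2, 0, 1, 2, 0, 1, 2, 1, 1,
    1, 1, 1, 1, 0, 1, 0, 1, 1, 2, 1, 1, 0, 1, 0, 2, 1, 1, 0, 0, 1, 2, 0, 1, 2, 1, 1, 1, 1, 1, 1, 0,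
    1, 0, 1, 1, 2, 1, 1, 0, 1, 0, 2, 1, 1, 0]

theorem gc9_0 : ∀ c ∈ ([223755, 201526] : List ℕ),
    TT 0 (TT 11 (evalA As3 HW9 c)) = evalA As3 HW9 (iterA (evalA As3 U0) 18 c) := by
  decide +kernel

theorem gc9_1 : ∀ c ∈ ([97792, 161738] : List ℕ),
    TT 0 (TT 11 (evalA As3 HW9 c)) = evalA As3 HW9 (iterA (evalA As3 U0) 18 c) := by
  decide +kernel

theorem gc9_2 : ∀ c ∈ ([11021, 8026] : List ℕ),
    TT 0 (TT 11 (evalA As3 HW9 c)) = evalA As3 HW9 (iterA (evalA As3 U0) 18 c) := by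
  decide +kernel

theorem gc9_3 : ∀ c ∈ ([283, 0] : List ℕ),
    TT 0 (TT 11 (evalA As3 HW9 c)) = evalA As3 HW9 (iterA (evalA As3 U0) 18 c) := by
  decide +kernel

theorem gen_conj9 : E 0 * E 11 * evalW vals3 HW9 = evalW vals3 HW9 * zE :=
  gen_conj_aux 0 11 (by norm_num) (by norm_num) HW9 (forall_base gc9_0 gc9_1 gc9_2 gc9_3)

/-- a word conjugating `zE` to the product of the letters 3 and 1 -/
def HW10 : List ℕ :=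
  [1, 0, 1, 0, 2, 1, 0, 2, 1, 0, 0, 0, 0, 0, 2, 0, 0, 0, 1, 2, 0, 1, 2, 0, 1, 2, 0, 1, 2, 0, 1, 2, 0,
    1, 2, 1, 1, 1, 1, 1, 1, 0, 1, 0, 1, 1, 2, 1, 1, 0, 1, 0, 2, 1, 1, 0, 1, 1, 1, 1, 1, 1, 0, 1, 0,
    1, 1, 2, 1, 1, 0, 1, 0, 2, 1, 1, 0, 0, 1, 2, 0, 1, 2, 1, 1, 1, 1, 1, 1, 0, 1, 0, 1, 1, 2, 1, 1,
    0, 1, 0, 2, 1, 1, 0, 1, 1, 1, 1, 1, 1, 0, 1, 0, 1, 1, 2, 1, 1, 0, 1, 0, 2, 1, 1, 0, 0, 1, 2, 0,
    1, 2, 1, 1, 1, 1, 1, 1, 0, 1, 0, 1, 1, 2, 1, 1, 0, 1, 0, 2, 1, 1, 0, 0, 1, 2, 0, 1, 2, 1, 1, 1,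
    1, 1, 1, 0, 1, 0, 1, 1, 2, 1, 1, 0, 1, 0, 2, 1, 1, 0, 1, 1, 1, 1, 1, 1, 0, 1, 0, 1, 1, 2, 1, 1,
    0, 1, 0, 2, 1, 1, 0, 1, 1, 1, 1, 1, 1, 0, 1, 0, 1, 1, 2, 1, 1, 0, 1, 0, 2, 1, 1, 0]

theorem gc10_0 : ∀ c ∈ ([223755, 201526] : List ℕ),
    TT 3 (TT 1 (evalA As3 HW10 c)) = evalA As3 HW10 (iterA (evalA As3 U0) 18 c) := by
  decide +kernel

theorem gc10_1 : ∀ c ∈ ([97792, 161738] : List ℕ),
    TT 3 (TT 1 (evalA As3 HW10 c)) = evalA As3 HW10 (iterA (evalA As3 U0) 18 c) := by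
  decide +kernel

theorem gc10_2 : ∀ c ∈ ([11021, 8026] : List ℕ),
    TT 3 (TT 1 (evalA As3 HW10 c)) = evalA As3 HW10 (iterA (evalA As3 U0) 18 c) := by
  decide +kernel

theorem gc10_3 : ∀ c ∈ ([283, 0] : List ℕ),
    TT 3 (TT 1 (evalA As3 HW10 c)) = evalA As3 HW10 (iterA (evalA As3 U0) 18 c) := by
  decide +kernel

theorem gen_conj10 : E 3 * E 1 * evalW vals3 HW10 = evalW vals3 HW10 * zE :=
  gen_conj_aux 3 1 (by norm_num) (by norm_num) HW10 (forall_base gc10_0 gc10_1 gc10_2 gc10_3)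

theorem evalW_mem_closure (vals : List G) (w : List ℕ) :
    evalW vals w ∈ Subgroup.closure {x | x ∈ vals} := by
  induction w with
  | nil =>
    rw [evalW_nil]
    exact one_mem _
  | cons i w ih =>
    rw [evalW_cons]
    refine mul_mem ?_ ih
    rw [List.getD_eq_getElem?_getD]
    cases hv : vals[i]? with
    | none =>
      simp only [Option.getD_none]
      exact one_mem _
    | some v =>
      simp only [Option.getD_some]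
      exact Subgroup.subset_closure (List.mem_of_getElem? hv)

/-- the subgroup generated by the three elements -/
noncomputable def K3 : Subgroup G := Subgroup.closure {x | x ∈ vals3}

theorem evalW_mem_K3 (w : List ℕ) : evalW vals3 w ∈ K3 := evalW_mem_closure vals3 w

theorem zE_mem : zE ∈ K3 := pow_mem (evalW_mem_K3 U0) 18

theorem pair_mem_of_conj {a b : ℕ} {w : List ℕ}
    (h : E a * E b * evalW vals3 w = evalW vals3 w * zE) : E a * E b ∈ K3 := by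
  have e : E a * E b = evalW vals3 w * zE * (evalW vals3 w)⁻¹ := eq_mul_inv_of_mul_eq h
  rw [e]
  exact mul_mem (mul_mem (evalW_mem_K3 _) zE_mem) (inv_mem (evalW_mem_K3 _))

theorem E0_mul_mem : ∀ b < 12, E 0 * E b ∈ K3 := by
  intro b hb
  interval_cases b
  · rw [E_mul_self]
    exact one_mem _
  · have h1 : E 0 * E 3 ∈ K3 := pair_mem_of_conj gen_conj1
    have h2 : E 3 * E 1 ∈ K3 := pair_mem_of_conj gen_conj10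
    have e : E 0 * E 1 = (E 0 * E 3) * (E 3 * E 1) := by
      rw [mul_assoc, ← mul_assoc (E 3), E_mul_self, one_mul]
    rw [e]
    exact mul_mem h1 h2
  · exact pair_mem_of_conj gen_conj0
  · exact pair_mem_of_conj gen_conj1
  · exact pair_mem_of_conj gen_conj2
  · exact pair_mem_of_conj gen_conj3
  · exact pair_mem_of_conj gen_conj4
  · exact pair_mem_of_conj gen_conj5
  · exact pair_mem_of_conj gen_conj6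
  · exact pair_mem_of_conj gen_conj7
  · exact pair_mem_of_conj gen_conj8
  · exact pair_mem_of_conj gen_conj9

theorem pair_mem (a b : ℕ) (ha : a < 12) (hb : b < 12) : E a * E b ∈ K3 := by
  have h1 := E0_mul_mem a ha
  have h2 := E0_mul_mem b hb
  have e : E a * E b = (E 0 * E a)⁻¹ * (E 0 * E b) := by
    rw [mul_inv_rev, E_inv, E_inv, mul_assoc, ← mul_assoc (E 0), E_mul_self, one_mul]
  rw [e]
  exact mul_mem (inv_mem h1) h2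

/-- the subgroup has index at most two -/
theorem mem_or (g : G) : g ∈ K3 ∨ E 0 * g ∈ K3 := by
  have hg : g ∈ Subgroup.closure {g : G | ∃ x < 12, g = PresentedGroup.of (Cfsg.Agent.Lib.H6.FiGlue.gen x)} := by
    rw [Cfsg.Agent.Lib.H6.FiGlue.closure_gens]
    trivial
  have step : ∀ i < 12, ∀ y : G, (y ∈ K3 ∨ E 0 * y ∈ K3) → (E i * y ∈ K3 ∨ E 0 * (E i * y) ∈ K3) := by
    intro i hi y ih
    rcases ih with h | h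
    · right
      rw [← mul_assoc]
      exact mul_mem (pair_mem 0 i (by norm_num) hi) h
    · left
      have e : E i * y = (E i * E 0) * (E 0 * y) := by
        rw [mul_assoc, ← mul_assoc (E 0), E_mul_self, one_mul]
      rw [e]
      exact mul_mem (pair_mem i 0 hi (by norm_num)) h
  induction hg using Subgroup.closure_induction_left with
  | one =>
    left
    exact one_mem _
  | mul_left x hx y _ ih =>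
    obtain ⟨i, hi, rfl⟩ := hx
    exact step i hi y ih
  | inv_mul_cancel x hx y _ ih =>
    obtain ⟨i, hi, rfl⟩ := hx
    have e : (PresentedGroup.of (Cfsg.Agent.Lib.H6.FiGlue.gen i) : G)⁻¹ = E i := E_inv i
    rw [e]
    exact step i hi y ih

end Cfsg.Agent.Lib.H17.Fi24Out
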