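import Cfsg.Agent.Lib.H17.Fi24Out.KR0

set_option autoImplicit false
set_option maxRecDepth 1000000

/-! # Level 0 of the chain `k`: base point 0, orbit size 306936 (generated) -/

namespace Cfsg.Agent.Lib.H17.Fi24Out

open Cfsg.Agent.Lib.H17.CosetCert Cfsg.Agent.Lib.H17.Sgs Cfsg.Agent.Lib.H17.Sift
  Cfsg.Agent.Lib.H17.PermActs Cfsg.Agent.Lib.H6.PermTab Cfsg.Agent.Lib.H6.PermFast
  Cfsg.Agent.Lib.H17.GSift Cfsg.Agent.Lib.H17.Fi24S Cfsg.Agent.Lib.H6.FiIndex
  Cfsg.Agent.Lib.H17.OutChunks Cfsg.Agent.Lib.H17.OutTools Cfsg.Agent.Lib.H17.ConjTest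

attribute [local instance] finG

/-- the words of level 0 -/
def kw0 : List (List ℕ) :=
  [[0],
    [1],
    [2],
    [3],
    [4],
    [5],
    [6],
    [7],
    [8],
    [9],
    [10],
    [11]]

theorem kletters0 : ∀ w ∈ kw0, ∀ x ∈ w, x < 12 := by
  decide

theorem kfix0 : ∀ w ∈ kw0, ∀ c ∈ ([] : List ℕ), applyW TT w c = c := by
  decide +kernel

theorem kconn0_0 : checkConn TT kR0 0 kw0 0 42244 = true := by
  decide +kernel

theorem kconn0_1 : checkConn TT kR0 0 kw0 42244 43346 = true := by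
  decide +kernel

theorem kconn0_2 : checkConn TT kR0 0 kw0 85590 45750 = true := by
  decide +kernel

theorem kconn0_3 : checkConn TT kR0 0 kw0 131340 47386 = true := by
  decide +kernel

theorem kconn0_4 : checkConn TT kR0 0 kw0 178726 44280 = true := by
  decide +kernel

theorem kconn0_5 : checkConn TT kR0 0 kw0 223006 49763 = true := by
  decide +kernel

theorem kconn0_6 : checkConn TT kR0 0 kw0 272769 34167 = true := by
  decide +kernel

theorem kcnt0_0 : countNZ kR0 0 77000 0 = 77000 := by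
  decide +kernel

theorem kcnt0_1 : countNZ kR0 77000 77000 0 = 77000 := by
  decide +kernel

theorem kcnt0_2 : countNZ kR0 154000 77000 0 = 77000 := by
  decide +kernel

theorem kcnt0_3 : countNZ kR0 231000 75936 0 = 75936 := by
  decide +kernel

theorem kconn0 : ConnOn TT kR0 0 kw0 0 306936 := by
  have h0 := checkConn_sound TT kR0 0 kw0 0 42244 kconn0_0
  have h1 := ConnOn.append TT h0 (checkConn_sound TT kR0 0 kw0 42244 43346 kconn0_1)
  have h2 := ConnOn.append TT h1 (checkConn_sound TT kR0 0 kw0 85590 45750 kconn0_2)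
  have h3 := ConnOn.append TT h2 (checkConn_sound TT kR0 0 kw0 131340 47386 kconn0_3)
  have h4 := ConnOn.append TT h3 (checkConn_sound TT kR0 0 kw0 178726 44280 kconn0_4)
  have h5 := ConnOn.append TT h4 (checkConn_sound TT kR0 0 kw0 223006 49763 kconn0_5)
  have h6 := ConnOn.append TT h5 (checkConn_sound TT kR0 0 kw0 272769 34167 kconn0_6)
  exact h6

theorem kcount0 : cntSet kR0 0 306936 = 306936 := by
  have h0 : cntSet kR0 0 77000 = 77000 := cntSet_of_count kR0 0 77000 _ kcnt0_0
  have h1 : cntSet kR0 0 154000 = 154000 := cntSet_append kR0 0 77000 154000 77000 77000 (by norm_num) (by norm_num) h0 (cntSet_of_count kR0 77000 77000 _ kcnt0_1)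
  have h2 : cntSet kR0 0 231000 = 231000 := cntSet_append kR0 0 154000 231000 154000 77000 (by norm_num) (by norm_num) h1 (cntSet_of_count kR0 154000 77000 _ kcnt0_2)
  have h3 : cntSet kR0 0 306936 = 306936 := cntSet_append kR0 0 231000 306936 231000 75936 (by norm_num) (by norm_num) h2 (cntSet_of_count kR0 231000 75936 _ kcnt0_3)
  exact h3

end Cfsg.Agent.Lib.H17.Fi24Out
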