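import Cfsg.Agent.Lib.H17.Fi24Out.RelDef

set_option autoImplicit false
set_option maxRecDepth 1000000

/-! # The relations exclude the candidate images of `tE`, for the exponent 1 (generated) -/

namespace Cfsg.Agent.Lib.H17.Fi24Out

open Cfsg.Agent.Lib.H17.CosetCert Cfsg.Agent.Lib.H17.Sgs Cfsg.Agent.Lib.H17.Sift
  Cfsg.Agent.Lib.H17.PermActs Cfsg.Agent.Lib.H6.PermTab Cfsg.Agent.Lib.H6.PermFast
  Cfsg.Agent.Lib.H17.GSift Cfsg.Agent.Lib.H17.Fi24S Cfsg.Agent.Lib.H6.FiIndex
  Cfsg.Agent.Lib.H17.OutChunks Cfsg.Agent.Lib.H17.OutTools Cfsg.Agent.Lib.H17.ConjTest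

attribute [local instance] finG

theorem chkJ1_0 : allLt FJ1 10 = true := by
  decide +kernel

theorem chkJ1_1 : allLt (fun i => FJ1 (Nat.add 10 i)) 7 = true := by
  decide +kernel

theorem chkJ1_2 : allLt (fun i => FJ1 (Nat.add 17 i)) 7 = true := by
  decide +kernel

theorem chkJ1_3 : allLt (fun i => FJ1 (Nat.add 24 i)) 9 = true := by
  decide +kernel

theorem chkJ1_4 : allLt (fun i => FJ1 (Nat.add 33 i)) 8 = true := by
  decide +kernel

theorem chkJ1_5 : allLt (fun i => FJ1 (Nat.add 41 i)) 7 = true := by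
  decide +kernel

theorem chkJ1_6 : allLt (fun i => FJ1 (Nat.add 48 i)) 9 = true := by
  decide +kernel

theorem chkJ1_7 : allLt (fun i => FJ1 (Nat.add 57 i)) 7 = true := by
  decide +kernel

theorem chkJ1_8 : allLt (fun i => FJ1 (Nat.add 64 i)) 7 = true := by
  decide +kernel

theorem chkJ1_9 : allLt (fun i => FJ1 (Nat.add 71 i)) 7 = true := by
  decide +kernel

theorem chkJ1_10 : allLt (fun i => FJ1 (Nat.add 78 i)) 6 = true := by
  decide +kernel

theorem chkJ1 : allLt FJ1 84 = true := by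
  have h0 := chkJ1_0
  have h1 := allLt_append FJ1 10 7 17 (by norm_num) h0 chkJ1_1
  have h2 := allLt_append FJ1 17 7 24 (by norm_num) h1 chkJ1_2
  have h3 := allLt_append FJ1 24 9 33 (by norm_num) h2 chkJ1_3
  have h4 := allLt_append FJ1 33 8 41 (by norm_num) h3 chkJ1_4
  have h5 := allLt_append FJ1 41 7 48 (by norm_num) h4 chkJ1_5
  have h6 := allLt_append FJ1 48 9 57 (by norm_num) h5 chkJ1_6
  have h7 := allLt_append FJ1 57 7 64 (by norm_num) h6 chkJ1_7
  have h8 := allLt_append FJ1 64 7 71 (by norm_num) h7 chkJ1_8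
  have h9 := allLt_append FJ1 71 7 78 (by norm_num) h8 chkJ1_9
  have h10 := allLt_append FJ1 78 6 84 (by norm_num) h9 chkJ1_10
  exact h10

end Cfsg.Agent.Lib.H17.Fi24Out
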