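import Cfsg.Agent.Lib.H17.Fi24Out.RelDef

set_option autoImplicit false
set_option maxRecDepth 1000000

/-! # The relations exclude the candidate images of `tE`, for the exponent 3 (generated) -/

namespace Cfsg.Agent.Lib.H17.Fi24Out

open Cfsg.Agent.Lib.H17.CosetCert Cfsg.Agent.Lib.H17.Sgs Cfsg.Agent.Lib.H17.Sift
  Cfsg.Agent.Lib.H17.PermActs Cfsg.Agent.Lib.H6.PermTab Cfsg.Agent.Lib.H6.PermFast
  Cfsg.Agent.Lib.H17.GSift Cfsg.Agent.Lib.H17.Fi24S Cfsg.Agent.Lib.H6.FiIndex
  Cfsg.Agent.Lib.H17.OutChunks Cfsg.Agent.Lib.H17.OutTools Cfsg.Agent.Lib.H17.ConjTest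

attribute [local instance] finG

theorem chkJ3_0 : allLt FJ3 9 = true := by
  decide +kernel

theorem chkJ3_1 : allLt (fun i => FJ3 (Nat.add 9 i)) 7 = true := by
  decide +kernel

theorem chkJ3_2 : allLt (fun i => FJ3 (Nat.add 16 i)) 7 = true := by
  decide +kernel

theorem chkJ3_3 : allLt (fun i => FJ3 (Nat.add 23 i)) 7 = true := by
  decide +kernel

theorem chkJ3_4 : allLt (fun i => FJ3 (Nat.add 30 i)) 9 = true := by
  decide +kernel

theorem chkJ3_5 : allLt (fun i => FJ3 (Nat.add 39 i)) 7 = true := by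
  decide +kernel

theorem chkJ3_6 : allLt (fun i => FJ3 (Nat.add 46 i)) 8 = true := by
  decide +kernel

theorem chkJ3_7 : allLt (fun i => FJ3 (Nat.add 54 i)) 9 = true := by
  decide +kernel

theorem chkJ3_8 : allLt (fun i => FJ3 (Nat.add 63 i)) 7 = true := by
  decide +kernel

theorem chkJ3_9 : allLt (fun i => FJ3 (Nat.add 70 i)) 7 = true := by
  decide +kernel

theorem chkJ3_10 : allLt (fun i => FJ3 (Nat.add 77 i)) 7 = true := by
  decide +kernel

theorem chkJ3 : allLt FJ3 84 = true := by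
  have h0 := chkJ3_0
  have h1 := allLt_append FJ3 9 7 16 (by norm_num) h0 chkJ3_1
  have h2 := allLt_append FJ3 16 7 23 (by norm_num) h1 chkJ3_2
  have h3 := allLt_append FJ3 23 7 30 (by norm_num) h2 chkJ3_3
  have h4 := allLt_append FJ3 30 9 39 (by norm_num) h3 chkJ3_4
  have h5 := allLt_append FJ3 39 7 46 (by norm_num) h4 chkJ3_5
  have h6 := allLt_append FJ3 46 8 54 (by norm_num) h5 chkJ3_6
  have h7 := allLt_append FJ3 54 9 63 (by norm_num) h6 chkJ3_7
  have h8 := allLt_append FJ3 63 7 70 (by norm_num) h7 chkJ3_8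
  have h9 := allLt_append FJ3 70 7 77 (by norm_num) h8 chkJ3_9
  have h10 := allLt_append FJ3 77 7 84 (by norm_num) h9 chkJ3_10
  exact h10

end Cfsg.Agent.Lib.H17.Fi24Out
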