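import Cfsg.Agent.Lib.H17.Fi24Out.Gen
import Cfsg.Agent.Lib.H17.Fi24Out.Cent
import Cfsg.Agent.Lib.H17.Fi24Out.RelJ1
import Cfsg.Agent.Lib.H17.Fi24Out.RelJ3
import Cfsg.Agent.Lib.H17.FT.Fi24T

set_option autoImplicit false
set_option maxRecDepth 1000000

/-! # The outer automorphism group of the derived subgroup of Fi24 has order two (generated) -/

namespace Cfsg.Agent.Lib.H17.Fi24Out

open Cfsg.Agent.Lib.H17.CosetCert Cfsg.Agent.Lib.H17.Sgs Cfsg.Agent.Lib.H17.Sift
  Cfsg.Agent.Lib.H17.PermActs Cfsg.Agent.Lib.H6.PermTab Cfsg.Agent.Lib.H6.PermFast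
  Cfsg.Agent.Lib.H17.GSift Cfsg.Agent.Lib.H17.Fi24S Cfsg.Agent.Lib.H6.FiIndex
  Cfsg.Agent.Lib.H17.OutChunks Cfsg.Agent.Lib.H17.OutTools Cfsg.Agent.Lib.H17.ConjTest
  Cfsg.Agent.Lib.H17.OutRigid

attribute [local instance] finG

/-- the derived subgroup -/
abbrev Der : Subgroup G := commutator G

theorem sq_mem_Der (x : G) : x ^ 2 ∈ Der := Subgroup.sq_mem_of_index_two index_commutator x

theorem sE_mem : sE ∈ Der := by
  have e : sE = (sE ^ 15) ^ 2 := by
    rw [← pow_mul, show 15 * 2 = 29 + 1 by norm_num, pow_succ, sE_pow, one_mul]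
  rw [e]
  exact sq_mem_Der _

theorem dE_mem : dE ∈ Der := by
  rw [← hee, ← sq]
  exact sq_mem_Der _

theorem tE_mem : tE ∈ Der := by
  have e : tE = (tE ^ 11) ^ 2 := by
    rw [← pow_mul, show 11 * 2 = 21 + 1 by norm_num, pow_succ, tE_pow, one_mul]
  rw [e]
  exact sq_mem_Der _

theorem sgn_E (x : ℕ) : Cfsg.Agent.S1691.sgn (E x) = -1 := Cfsg.Agent.S1691.sgn_of _

theorem sgn_wordElt (w : List ℕ) : Cfsg.Agent.S1691.sgn (wordElt E w) = (-1) ^ w.length := by
  induction w with
  | nil => simp [wordElt]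
  | cons x w ih => rw [wordElt_cons, map_mul, ih, sgn_E, List.length_cons, pow_succ]

theorem sgn_Der (x : G) (hx : x ∈ Der) : Cfsg.Agent.S1691.sgn x = 1 :=
  Abelianization.commutator_subset_ker Cfsg.Agent.S1691.sgn hx

theorem E0_not_mem : E 0 ∉ Der := by
  intro h
  have h1 := sgn_Der _ h
  rw [sgn_E] at h1
  exact absurd h1 (by decide)

theorem eE_not_mem : eE ∉ Der := by
  intro h
  have h1 := sgn_Der _ h
  have hl : wE.length = 1731 := by decide
  have hodd : Odd 1731 := by decide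
  rw [eE, sgn_wordElt, hl, hodd.neg_one_pow] at h1
  exact absurd h1 (by decide)

theorem K3_le : K3 ≤ Der := by
  unfold K3
  rw [Subgroup.closure_le]
  intro x hx
  simp only [vals3, Set.mem_ofPred_eq, List.mem_cons, List.not_mem_nil, or_false] at hx
  rcases hx with rfl | rfl | rfl
  · exact sE_mem
  · exact dE_mem
  · exact tE_mem

theorem Der_le_K3 : Der ≤ K3 := by
  intro h hh
  rcases mem_or h with h1 | h1
  · exact h1
  · exfalso
    have h2 : E 0 * h ∈ Der := K3_le h1
    have h3 : E 0 ∈ Der := by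
      have := Der.mul_mem h2 (Der.inv_mem hh)
      rwa [mul_inv_cancel_right] at this
    exact E0_not_mem h3

/-- `sE` in the derived subgroup -/
noncomputable def sH : Der := ⟨sE, sE_mem⟩

/-- `dE` in the derived subgroup -/
noncomputable def dH : Der := ⟨dE, dE_mem⟩

/-- `tE` in the derived subgroup -/
noncomputable def tH : Der := ⟨tE, tE_mem⟩

theorem closure_H : Subgroup.closure ({sH, dH, tH} : Set Der) = ⊤ := by
  rw [eq_top_iff]
  intro x _
  have hx : (x : G) ∈ K3 := Der_le_K3 x.2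
  have himg : (Der.subtype '' ({sH, dH, tH} : Set Der)) = {y | y ∈ vals3} := by
    ext y
    simp only [Set.image_insert_eq, Set.image_singleton, Set.mem_insert_iff,
      Set.mem_singleton_iff, Set.mem_ofPred_eq, vals3, List.mem_cons, List.not_mem_nil, or_false]
    rfl
  have hmap : K3 = (Subgroup.closure ({sH, dH, tH} : Set Der)).map Der.subtype := by
    rw [MonoidHom.map_closure, himg]
    rfl
  rw [hmap] at hx
  obtain ⟨y, hy, hyx⟩ := hx
  have e : y = x := Subtype.ext hyx
  rwa [← e]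

theorem hgen : ∀ ψ : MulAut Der, ψ sH = sH → ψ dH = dH → ψ tH = tH → ψ = 1 := by
  intro ψ h1 h2 h3
  apply aut_eq_one_of_closure _ closure_H
  intro x hx
  simp only [Set.mem_insert_iff, Set.mem_singleton_iff] at hx
  rcases hx with rfl | rfl | rfl
  · exact h1
  · exact h2
  · exact h3

theorem order_sH : orderOf sH = 29 := by
  rw [sH, Subgroup.orderOf_mk]
  exact order_sE

theorem hdsH : dH * sH * dH⁻¹ = sH ^ 9 := by
  apply Subtype.ext
  simp only [Subgroup.coe_mul, Subgroup.coe_inv, Subgroup.coe_pow]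
  exact hds

theorem cent_sH (x : Der) (hx : x * sH = sH * x) : x ∈ Subgroup.zpowers sH := by
  have h1 : (x : G) * sE = sE * x := congrArg Subtype.val hx
  obtain ⟨k, hk⟩ := Subgroup.mem_zpowers_iff.mp (cent_s _ h1)
  refine Subgroup.mem_zpowers_iff.mpr ⟨k, Subtype.ext ?_⟩
  rw [Subgroup.coe_zpow]
  exact hk

/-- the automorphism induced by `eE` -/
noncomputable def θ : MulAut Der := MulAut.conjNormal eE

theorem θ_coe (x : Der) : ((θ x : Der) : G) = eE * x * eE⁻¹ := MulAut.conjNormal_apply _ _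

theorem hθd : θ dH = dH := by
  apply Subtype.ext
  rw [θ_coe]
  change eE * dE * eE⁻¹ = dE
  rw [← hee]
  group

theorem θ_s : θ sH = sH ^ 3 := by
  apply Subtype.ext
  rw [θ_coe, Subgroup.coe_pow]
  change eE * sE * eE⁻¹ = sE ^ 3
  rw [mul_inv_eq_iff_eq_mul]
  exact hes'

theorem θ_t : ((θ tH : Der) : G) = dE ^ 8 * tE ^ 2 := by
  rw [θ_coe]
  change eE * tE * eE⁻¹ = dE ^ 8 * tE ^ 2
  rw [mul_inv_eq_iff_eq_mul]
  exact hth

theorem hθn : θ ∉ (MulAut.conj : Der →* MulAut Der).range := by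
  rintro ⟨k, hk⟩
  have hcent : ∀ h : Der, ((k : G)⁻¹ * eE) * h = h * ((k : G)⁻¹ * eE) := by
    intro h
    have h0 : (k : G) * h * (k : G)⁻¹ = eE * h * eE⁻¹ := by
      have := congrArg (fun f : MulAut Der => ((f h : Der) : G)) hk
      simpa only [MulAut.conj_apply, Subgroup.coe_mul, Subgroup.coe_inv, θ_coe] using this
    calc (k : G)⁻¹ * eE * h = (k : G)⁻¹ * (eE * h * eE⁻¹) * eE := by group
      _ = (k : G)⁻¹ * ((k : G) * h * (k : G)⁻¹) * eE := by rw [h0]
      _ = h * ((k : G)⁻¹ * eE) := by group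
  obtain ⟨x, hx⟩ : ∃ x : G, x = (k : G)⁻¹ * eE := ⟨_, rfl⟩
  rw [← hx] at hcent
  have hxn : x ∉ Der := by
    intro hmem
    have h1 : eE ∈ Der := by
      have := Der.mul_mem k.2 hmem
      rwa [hx, mul_inv_cancel_left] at this
    exact eE_not_mem h1
  have hcen : x ∈ Subgroup.center G := by
    rw [Subgroup.mem_center_iff]
    intro g
    by_cases hg : g ∈ Der
    · exact (hcent ⟨g, hg⟩).symm
    · have h1 : x⁻¹ * g ∈ Der := by
        rw [Subgroup.mul_mem_iff_of_index_two index_commutator]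
        constructor
        · intro h
          exact absurd (by simpa using Der.inv_mem h) hxn
        · intro h
          exact absurd h hg
      have h2 : x * (x⁻¹ * g) = x⁻¹ * g * x := hcent ⟨x⁻¹ * g, h1⟩
      rw [mul_inv_cancel_left] at h2
      calc g * x = x * (x⁻¹ * g * x) := by group
        _ = x * g := by rw [← h2]
  rw [Cfsg.Agent.Lib.H17.FT24.center_bot, Subgroup.mem_bot] at hcen
  rw [hcen] at hxn
  exact hxn (one_mem _)

theorem coe_evalW (vals : List Der) (w : List ℕ) :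
    ((evalW vals w : Der) : G) = evalW (vals.map Subtype.val) w :=
  map_evalW Der.subtype vals w

theorem cE_one : cE 1 = tE := by
  simp [cE]

theorem cE_fifty : cE 50 = dE ^ 8 * tE ^ 2 := by
  simp [cE]

theorem hex : ∀ j ∈ [1, 3], ∀ α : MulAut Der, α sH = sH ^ j → α dH = dH →
    (α sH = sH ∧ α tH = tH) ∨ (α sH = θ sH ∧ α tH = θ tH) := by
  intro j hj α hs hd
  have hcomm : α tH * dH = dH * α tH := by
    have h0 : tH * dH = dH * tH := Subtype.ext htd
    have := congrArg α h0
    rwa [map_mul, map_mul, hd] at this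
  have hcommG : ((α tH : Der) : G) * dE = dE * ((α tH : Der) : G) := congrArg Subtype.val hcomm
  obtain ⟨idx, hidx, hc⟩ := cent_d _ hcommG
  have hrel : ∀ r < 3, evalW [sE ^ j, dE, cE idx] (rU r) ^ (rM r) = 1 := by
    intro r hr
    have h0 : evalW [sH, dH, tH] (rU r) ^ (rM r) = 1 := by
      apply Subtype.ext
      rw [Subgroup.coe_pow, coe_evalW]
      exact rel_ok r hr
    have h1 := congrArg α h0
    rw [map_pow, map_one, map_evalW_equiv] at h1
    have h2 := congrArg Subtype.val h1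
    rw [Subgroup.coe_pow, coe_evalW, Subgroup.coe_one] at h2
    simp only [List.map_cons, List.map_nil, hs, hd, Subgroup.coe_pow, hc] at h2
    exact h2
  simp only [List.mem_cons, List.not_mem_nil, or_false] at hj
  rcases hj with rfl | rfl
  · left
    have hi : idx = 1 := pair_excl 1 1 WR1 WP1 idx (allLt_sound FJ1 _ chkJ1 idx hidx) hrel
    refine ⟨by rw [hs, pow_one], Subtype.ext ?_⟩
    rw [hc, hi, cE_one]
    rfl
  · right
    have hi : idx = 50 := pair_excl 3 50 WR3 WP3 idx (allLt_sound FJ3 _ chkJ3 idx hidx) hrel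
    refine ⟨by rw [hs, θ_s], Subtype.ext ?_⟩
    rw [hc, hi, cE_fifty, θ_t]

theorem hJ : ∀ i, 0 < i → i < 29 → ∃ j ∈ [1, 3], ∃ l, (i * 9 ^ l) % 29 = j % 29 := by
  intro i h0 h1
  interval_cases i
  · exact ⟨1, by decide, 0, by decide⟩
  · exact ⟨3, by decide, 6, by decide⟩
  · exact ⟨3, by decide, 0, by decide⟩
  · exact ⟨1, by decide, 11, by decide⟩
  · exact ⟨1, by decide, 9, by decide⟩
  · exact ⟨1, by decide, 5, by decide⟩
  · exact ⟨1, by decide, 10, by decide⟩
  · exact ⟨3, by decide, 3, by decide⟩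
  · exact ⟨1, by decide, 13, by decide⟩
  · exact ⟨3, by decide, 1, by decide⟩
  · exact ⟨3, by decide, 12, by decide⟩
  · exact ⟨3, by decide, 11, by decide⟩
  · exact ⟨1, by decide, 1, by decide⟩
  · exact ⟨3, by decide, 2, by decide⟩
  · exact ⟨3, by decide, 9, by decide⟩
  · exact ⟨1, by decide, 8, by decide⟩
  · exact ⟨3, by decide, 4, by decide⟩
  · exact ⟨3, by decide, 5, by decide⟩
  · exact ⟨3, by decide, 8, by decide⟩
  · exact ⟨1, by decide, 6, by decide⟩
  · exact ⟨3, by decide, 10, by decide⟩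
  · exact ⟨1, by decide, 3, by decide⟩
  · exact ⟨1, by decide, 12, by decide⟩
  · exact ⟨1, by decide, 2, by decide⟩
  · exact ⟨1, by decide, 4, by decide⟩
  · exact ⟨3, by decide, 7, by decide⟩
  · exact ⟨3, by decide, 13, by decide⟩
  · exact ⟨1, by decide, 7, by decide⟩

/-- the group of outer automorphisms of the derived subgroup has order two -/
theorem card_out : Nat.card (MulAut Der ⧸ (MulAut.conj : Der →* MulAut Der).range) = 2 :=
  card_out_eq_two (p := 29) (a := 9) (c := 11) (by norm_num) (by rw [card_commutator]; decide)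
    sH dH tH order_sH hdsH cent_sH (by decide) [1, 3] hJ hgen θ hθd hθn hex

end Cfsg.Agent.Lib.H17.Fi24Out
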