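import Cfsg.Agent.Lib.H17.Fi24Out.ElET

set_option autoImplicit false
set_option maxRecDepth 1000000

/-! # Relations excluding candidate images of `tE` (generated) -/

namespace Cfsg.Agent.Lib.H17.Fi24Out

open Cfsg.Agent.Lib.H17.CosetCert Cfsg.Agent.Lib.H17.Sgs Cfsg.Agent.Lib.H17.Sift
  Cfsg.Agent.Lib.H17.PermActs Cfsg.Agent.Lib.H6.PermTab Cfsg.Agent.Lib.H6.PermFast
  Cfsg.Agent.Lib.H17.GSift Cfsg.Agent.Lib.H17.Fi24S Cfsg.Agent.Lib.H6.FiIndex
  Cfsg.Agent.Lib.H17.OutChunks Cfsg.Agent.Lib.H17.OutTools Cfsg.Agent.Lib.H17.ConjTest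

attribute [local instance] finG

/-- the elements of the centraliser of `dE` -/
noncomputable def cE (idx : ℕ) : G := dE ^ (idx / 6) * (eE ^ ((idx % 6) / 3) * tE ^ (idx % 3))

/-- their actions -/
noncomputable def aC (idx : ℕ) : ℕ → ℕ :=
  fun p => iterA aD (idx / 6) (iterA aE ((idx % 6) / 3) (iterA aT (idx % 3) p))

theorem acts_cE (idx : ℕ) : Acts phi (cE idx) (aC idx) :=
  (acts_dE.pow _).mul ((acts_eE.pow _).mul (acts_tE.pow _))

/-- words of relations between `sE`, `dE`, `tE` -/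
def rU : ℕ → List ℕ
  | 0 => [0, 2, 2, 2]
  | 1 => [0, 2]
  | _ => [0, 1, 2, 2]

/-- the exponents of the relations -/
def rM : ℕ → ℕ
  | 0 => 7
  | 1 => 17
  | _ => 14

theorem hA3' : List.Forall₂ (fun x A => Acts phi x A) [sE, dE, tE] [aS, aD, aT] :=
  List.Forall₂.cons acts_sE (List.Forall₂.cons acts_dE (List.Forall₂.cons acts_tE List.Forall₂.nil))

theorem rel_ok0 : ∀ c ∈ ([223755, 201526, 97792, 161738, 11021, 8026, 283, 0] : List ℕ),
    iterA (evalA [aS, aD, aT] (rU 0)) (rM 0) c = (fun p => p) c := by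
  decide +kernel

theorem rel_ok1 : ∀ c ∈ ([223755, 201526, 97792, 161738, 11021, 8026, 283, 0] : List ℕ),
    iterA (evalA [aS, aD, aT] (rU 1)) (rM 1) c = (fun p => p) c := by
  decide +kernel

theorem rel_ok2 : ∀ c ∈ ([223755, 201526, 97792, 161738, 11021, 8026, 283, 0] : List ℕ),
    iterA (evalA [aS, aD, aT] (rU 2)) (rM 2) c = (fun p => p) c := by
  decide +kernel

theorem rel_ok : ∀ r < 3, evalW [sE, dE, tE] (rU r) ^ (rM r) = 1 := by
  intro r hr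
  interval_cases r
  · exact eq_of_acts kisBase kbase_lt ((acts_evalW _ _ hA3' (rU 0)).pow (rM 0)) Acts.one rel_ok0
  · exact eq_of_acts kisBase kbase_lt ((acts_evalW _ _ hA3' (rU 1)).pow (rM 1)) Acts.one rel_ok1
  · exact eq_of_acts kisBase kbase_lt ((acts_evalW _ _ hA3' (rU 2)).pow (rM 2)) Acts.one rel_ok2

/-- the check of a candidate for the image of `tE`, with a relation and a point as witnesses -/
noncomputable def FJ (j good : ℕ) (WR WP : List ℕ) (idx : ℕ) : Bool :=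
  cond (Nat.beq idx good) true
    (cond (Nat.blt (WR.getD idx 9) 3) (cond (Nat.blt (WP.getD idx 0) 306936)
      (cond (Nat.beq (iterA (evalA [iterA aS j, aD, aC idx] (rU (WR.getD idx 9)))
        (rM (WR.getD idx 9)) (WP.getD idx 0)) (WP.getD idx 0)) false true) false) false)

theorem pair_excl (j good : ℕ) (WR WP : List ℕ) (idx : ℕ) (h : FJ j good WR WP idx = true)
    (hrel : ∀ r < 3, evalW [sE ^ j, dE, cE idx] (rU r) ^ (rM r) = 1) : idx = good := by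
  unfold FJ at h
  cases h9 : Nat.beq idx good with
  | true => exact Nat.eq_of_beq_eq_true h9
  | false =>
    exfalso
    rw [h9] at h
    simp only [cond_false] at h
    cases h4 : Nat.blt (WR.getD idx 9) 3 with
    | false => rw [h4] at h; exact absurd h (by simp)
    | true =>
      rw [h4] at h
      simp only [cond_true] at h
      cases hp : Nat.blt (WP.getD idx 0) 306936 with
      | false => rw [hp] at h; exact absurd h (by simp)
      | true =>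
        rw [hp] at h
        simp only [cond_true] at h
        cases hb : Nat.beq (iterA (evalA [iterA aS j, aD, aC idx] (rU (WR.getD idx 9)))
            (rM (WR.getD idx 9)) (WP.getD idx 0)) (WP.getD idx 0) with
        | true => rw [hb] at h; exact absurd h (by simp)
        | false =>
          have hr : WR.getD idx 9 < 3 := by simpa [Nat.blt_eq] using h4
          have hp' : WP.getD idx 0 < n := by simpa [Nat.blt_eq] using hp
          exact relator_absurd (List.Forall₂.cons (acts_sE.pow j) (List.Forall₂.cons acts_dE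
            (List.Forall₂.cons (acts_cE idx) List.Forall₂.nil))) (rU _) (rM _) _ hp' (hrel _ hr) hb

/-- the relations excluding the candidates, for the exponent 1 -/
def WR1 : List ℕ :=
  [0, 9, 1, 0, 0, 0, 0, 0, 0, 0, 0, 0, 1, 1, 0, 0, 0, 0, 0, 0, 0, 0, 0, 0, 1, 1, 1, 0, 0, 0, 0, 0, 0,
    0, 0, 0, 1, 1, 1, 0, 0, 0, 0, 0, 0, 0, 0, 0, 1, 0, 1, 0, 0, 0, 0, 0, 0, 0, 0, 0, 1, 1, 2, 0, 0,
    0, 0, 0, 0, 0, 0, 0, 1, 1, 1, 0, 0, 0, 0, 0, 0, 0, 0, 0]

/-- the points where the relations fail, for the exponent 1 -/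
def WP1 : List ℕ :=
  [0, 0, 0, 0, 0, 0, 0, 0, 0, 0, 0, 0, 0, 0, 0, 0, 0, 0, 1, 0, 0, 0, 0, 0, 0, 0, 0, 0, 0, 0, 0, 0, 1,
    0, 0, 0, 0, 0, 0, 0, 0, 0, 0, 0, 0, 0, 0, 0, 0, 0, 0, 0, 0, 0, 0, 0, 0, 0, 0, 0, 0, 0, 0, 0, 0,
    0, 0, 1, 0, 0, 0, 0, 0, 0, 0, 0, 0, 0, 0, 0, 0, 0, 0, 0]

/-- the check for the exponent 1 -/
noncomputable def FJ1 (idx : ℕ) : Bool := FJ 1 1 WR1 WP1 idx

/-- the relations excluding the candidates, for the exponent 3 -/
def WR3 : List ℕ :=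
  [0, 1, 1, 0, 0, 0, 0, 0, 0, 0, 0, 0, 1, 2, 0, 0, 0, 0, 0, 0, 0, 0, 0, 0, 1, 1, 1, 0, 0, 0, 0, 0, 0,
    0, 0, 0, 1, 1, 1, 0, 0, 0, 0, 0, 0, 0, 0, 0, 1, 0, 9, 0, 0, 0, 0, 0, 0, 0, 0, 0, 1, 1, 1, 0, 0,
    0, 0, 0, 0, 0, 0, 0, 1, 1, 1, 0, 0, 0, 0, 0, 0, 0, 0, 0]

/-- the points where the relations fail, for the exponent 3 -/
def WP3 : List ℕ :=
  [0, 0, 0, 0, 0, 0, 0, 0, 0, 0, 0, 0, 0, 0, 0, 0, 0, 0, 0, 0, 0, 0, 0, 0, 0, 0, 0, 0, 0, 0, 0, 0, 0,
    0, 0, 0, 0, 0, 0, 0, 0, 0, 0, 0, 0, 0, 0, 0, 0, 0, 0, 0, 0, 0, 0, 0, 0, 0, 0, 0, 0, 0, 0, 0, 0,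
    0, 0, 0, 0, 0, 0, 0, 0, 0, 0, 0, 0, 0, 0, 0, 0, 0, 0, 0]

/-- the check for the exponent 3 -/
noncomputable def FJ3 (idx : ℕ) : Bool := FJ 3 50 WR3 WP3 idx

end Cfsg.Agent.Lib.H17.Fi24Out
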