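import Cfsg.Agent.Lib.H17.Fi24Out.SwDDef

set_option autoImplicit false
set_option maxRecDepth 1000000

/-! # The sweep for the centraliser of `dE`: part 0 (generated) -/

namespace Cfsg.Agent.Lib.H17.Fi24Out

open Cfsg.Agent.Lib.H17.CosetCert Cfsg.Agent.Lib.H17.Sgs Cfsg.Agent.Lib.H17.Sift
  Cfsg.Agent.Lib.H17.PermActs Cfsg.Agent.Lib.H6.PermTab Cfsg.Agent.Lib.H6.PermFast
  Cfsg.Agent.Lib.H17.GSift Cfsg.Agent.Lib.H17.Fi24S Cfsg.Agent.Lib.H6.FiIndex
  Cfsg.Agent.Lib.H17.OutChunks Cfsg.Agent.Lib.H17.OutTools Cfsg.Agent.Lib.H17.ConjTest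

attribute [local instance] finG

theorem chkFD_0 : allLt FD 152 = true := by
  decide +kernel

theorem chkFD_1 : allLt (fun i => FD (Nat.add 152 i)) 150 = true := by
  decide +kernel

theorem chkFD_2 : allLt (fun i => FD (Nat.add 302 i)) 150 = true := by
  decide +kernel

theorem chkFD_3 : allLt (fun i => FD (Nat.add 452 i)) 144 = true := by
  decide +kernel

theorem chkFD_4 : allLt (fun i => FD (Nat.add 596 i)) 153 = true := by
  decide +kernel

theorem chkFD_5 : allLt (fun i => FD (Nat.add 749 i)) 137 = true := by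
  decide +kernel

theorem chkFD_6 : allLt (fun i => FD (Nat.add 886 i)) 148 = true := by
  decide +kernel

theorem chkFD_7 : allLt (fun i => FD (Nat.add 1034 i)) 132 = true := by
  decide +kernel

end Cfsg.Agent.Lib.H17.Fi24Out
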