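import Cfsg.Agent.Lib.H17.Fi24Out.SwDDef

set_option autoImplicit false
set_option maxRecDepth 1000000

/-! # The sweep for the centraliser of `dE`: part 13 (generated) -/

namespace Cfsg.Agent.Lib.H17.Fi24Out

open Cfsg.Agent.Lib.H17.CosetCert Cfsg.Agent.Lib.H17.Sgs Cfsg.Agent.Lib.H17.Sift
  Cfsg.Agent.Lib.H17.PermActs Cfsg.Agent.Lib.H6.PermTab Cfsg.Agent.Lib.H6.PermFast
  Cfsg.Agent.Lib.H17.GSift Cfsg.Agent.Lib.H17.Fi24S Cfsg.Agent.Lib.H6.FiIndex
  Cfsg.Agent.Lib.H17.OutChunks Cfsg.Agent.Lib.H17.OutTools Cfsg.Agent.Lib.H17.ConjTest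

attribute [local instance] finG

theorem chkFD_104 : allLt (fun i => FD (Nat.add 19311 i)) 258 = true := by
  decide +kernel

theorem chkFD_105 : allLt (fun i => FD (Nat.add 19569 i)) 304 = true := by
  decide +kernel

theorem chkFD_106 : allLt (fun i => FD (Nat.add 19873 i)) 269 = true := by
  decide +kernel

theorem chkFD_107 : allLt (fun i => FD (Nat.add 20142 i)) 257 = true := by
  decide +kernel

theorem chkFD_108 : allLt (fun i => FD (Nat.add 20399 i)) 316 = true := by
  decide +kernel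

theorem chkFD_109 : allLt (fun i => FD (Nat.add 20715 i)) 294 = true := by
  decide +kernel

theorem chkFD_110 : allLt (fun i => FD (Nat.add 21009 i)) 323 = true := by
  decide +kernel

theorem chkFD_111 : allLt (fun i => FD (Nat.add 21332 i)) 305 = true := by
  decide +kernel

end Cfsg.Agent.Lib.H17.Fi24Out
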