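import Cfsg.Agent.Lib.H17.Fi24Out.ElD
import Cfsg.Agent.Lib.H17.Fi24Out.ChainD

set_option autoImplicit false
set_option maxRecDepth 1000000

/-! # The sweep for the centraliser of `dE`: the check at a point (generated) -/

namespace Cfsg.Agent.Lib.H17.Fi24Out

open Cfsg.Agent.Lib.H17.CosetCert Cfsg.Agent.Lib.H17.Sgs Cfsg.Agent.Lib.H17.Sift
  Cfsg.Agent.Lib.H17.PermActs Cfsg.Agent.Lib.H6.PermTab Cfsg.Agent.Lib.H6.PermFast
  Cfsg.Agent.Lib.H17.GSift Cfsg.Agent.Lib.H17.Fi24S Cfsg.Agent.Lib.H6.FiIndex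
  Cfsg.Agent.Lib.H17.OutChunks Cfsg.Agent.Lib.H17.OutTools Cfsg.Agent.Lib.H17.ConjTest

attribute [local instance] finG

/-- the images of the base point under representatives of the centraliser -/
def candD : List ℕ := [0, 19471, 31925, 190113, 159469, 14908]

/-- the good points -/
noncomputable def goodD (p : ℕ) : Bool := memL candD p

/-- the check at a point -/
noncomputable def FD (δ' : ℕ) : Bool :=
  cond (Nat.beq (rkD δ') 0) (cond (goodD δ') true (Nat.beq (sift TT mLs (orbl aD 6 δ')) 0)) true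

end Cfsg.Agent.Lib.H17.Fi24Out
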