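import Cfsg.Agent.Lib.H17.Fi24Out.ElS
import Cfsg.Agent.Lib.H17.Fi24Out.ChainS

set_option autoImplicit false
set_option maxRecDepth 1000000

/-! # The sweep for the centraliser of `sE`: the check at a point (generated) -/

namespace Cfsg.Agent.Lib.H17.Fi24Out

open Cfsg.Agent.Lib.H17.CosetCert Cfsg.Agent.Lib.H17.Sgs Cfsg.Agent.Lib.H17.Sift
  Cfsg.Agent.Lib.H17.PermActs Cfsg.Agent.Lib.H6.PermTab Cfsg.Agent.Lib.H6.PermFast
  Cfsg.Agent.Lib.H17.GSift Cfsg.Agent.Lib.H17.Fi24S Cfsg.Agent.Lib.H6.FiIndex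
  Cfsg.Agent.Lib.H17.OutChunks Cfsg.Agent.Lib.H17.OutTools Cfsg.Agent.Lib.H17.ConjTest

attribute [local instance] finG

/-- the good points: the base point itself -/
noncomputable def goodS (p : ℕ) : Bool := Nat.beq p 0

/-- the check at a point -/
noncomputable def FS (δ' : ℕ) : Bool :=
  cond (Nat.beq (rkS δ') 0) (cond (goodS δ') true (Nat.beq (sift TT kLs (orbl aS 8 δ')) 0)) true

end Cfsg.Agent.Lib.H17.Fi24Out
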